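import Cfsg.Agent.Lib.Fusion.CyclicChain

/-! Abelian groups of supersoluble type: no repeated invariant. (helper6) -/

set_option autoImplicit false
set_option linter.unusedSectionVars false
set_option linter.style.haveILetI false

namespace CfsgLib.Fusion.AbelianChain

open Cfsg CfsgLib.Fusion.CyclicChain

universe u

/-- The layer `(Ω_a ∩ pᵇ W) Ω_(a-1)`. -/
def layer {W : Type*} [CommGroup W] (p a b : ℕ) : Subgroup W :=
  (powMonoidHom (p ^ a) : W →* W).ker ⊓ (powMonoidHom (p ^ b) : W →* W).range ⊔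
    (powMonoidHom (p ^ (a - 1)) : W →* W).ker

theorem layer_inv {W : Type*} [CommGroup W] (p a b : ℕ) (σ : MulAut W) {y : W} (hy : y ∈ layer p a b) :
    σ y ∈ layer p a b := by
  obtain ⟨u, ⟨hu1, z, hu2⟩, v, hv, rfl⟩ := Subgroup.mem_sup.mp hy
  rw [map_mul]
  refine Subgroup.mul_mem_sup ⟨?_, σ z, ?_⟩ ?_
  · show (σ u) ^ p ^ a = 1
    rw [← map_pow, show u ^ p ^ a = 1 from hu1, map_one]
  · show (σ z) ^ p ^ b = σ u
    rw [← map_pow]; exact congrArg σ hu2
  · show (σ v) ^ p ^ (a - 1) = 1
    rw [← map_pow, show v ^ p ^ (a - 1) = 1 from hv, map_one]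

/-- With distinct invariants every layer step is cyclic. -/
theorem layer_step {p : ℕ} [Fact p.Prime] {ι : Type} [Fintype ι] [DecidableEq ι] (e : ι → ℕ) (he : Function.Injective e) (a b : ℕ)
    (ha : 1 ≤ a) : ∃ x ∈ layer (W := ∀ i, Multiplicative (ZMod (p ^ e i))) p a b,
      layer (W := ∀ i, Multiplicative (ZMod (p ^ e i))) p a b ≤ layer p a (b + 1) ⊔ Subgroup.zpowers x := by
  haveI : ∀ i, NeZero (p ^ e i) := fun i => ⟨pow_ne_zero _ (Fact.out : p.Prime).ne_zero⟩
  let x₀ : ∀ i, Multiplicative (ZMod (p ^ e i)) := fun i =>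
    if e i = a + b then Multiplicative.ofAdd (((p ^ b : ℕ) : ZMod (p ^ e i))) else 1
  have htor : ∀ (i : ι) (v : Multiplicative (ZMod (p ^ e i))) (k : ℕ), e i ≤ k → v ^ p ^ k = 1 := fun i v k hk => by
    obtain ⟨d, rfl⟩ := Nat.exists_eq_add_of_le hk
    rw [pow_add, pow_mul, show v ^ p ^ e i = 1 from Multiplicative.toAdd.injective (by simp), one_pow]
  refine ⟨x₀, Subgroup.mem_sup_left ⟨?_, fun i => if e i = a + b then Multiplicative.ofAdd 1 else 1, ?_⟩, ?_⟩
  · show x₀ ^ p ^ a = 1
    funext i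
    rw [Pi.pow_apply, Pi.one_apply]
    simp only [x₀]
    split_ifs with h
    · refine Multiplicative.toAdd.injective ?_
      rw [toAdd_pow, toAdd_ofAdd, toAdd_one, nsmul_eq_mul, ← Nat.cast_mul, ← pow_add, ← h, ZMod.natCast_self]
    · exact one_pow _
  · funext i
    show (if e i = a + b then Multiplicative.ofAdd 1 else 1) ^ p ^ b = x₀ i
    simp only [x₀]
    split_ifs with h
    · refine Multiplicative.toAdd.injective ?_
      rw [toAdd_pow, toAdd_ofAdd, toAdd_ofAdd, nsmul_eq_mul, mul_one]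
    · exact one_pow _
  intro y hy
  obtain ⟨u, ⟨hu1, z, hu2⟩, v, hv, rfl⟩ := Subgroup.mem_sup.mp hy
  refine Subgroup.mul_mem _ ?_ (Subgroup.mem_sup_left (Subgroup.mem_sup_right hv))
  change u ^ p ^ a = 1 at hu1
  change z ^ p ^ b = u at hu2
  let zl : ∀ i, Multiplicative (ZMod (p ^ e i)) := fun i => if e i < a + b then z i else 1
  let zg : ∀ i, Multiplicative (ZMod (p ^ e i)) := fun i => if a + b < e i then z i else 1
  let ze : ∀ i, Multiplicative (ZMod (p ^ e i)) := fun i => if e i = a + b then z i else 1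
  have hu : u = zl ^ p ^ b * zg ^ p ^ b * ze ^ p ^ b := by
    rw [← hu2, ← mul_pow, ← mul_pow]
    congr 1
    funext i
    simp only [Pi.mul_apply, zl, zg, ze]
    rcases lt_trichotomy (e i) (a + b) with h | h | h
    · rw [if_pos h, if_neg (by omega), if_neg (by omega), mul_one, mul_one]
    · rw [if_neg (by omega), if_neg (by omega), if_pos h, one_mul, one_mul]
    · rw [if_neg (by omega), if_pos h, if_neg (by omega), one_mul, mul_one]
  rw [hu]
  refine Subgroup.mul_mem _ (Subgroup.mul_mem _ ?_ ?_) ?_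
  · refine Subgroup.mem_sup_left (Subgroup.mem_sup_right ?_)
    show (zl ^ p ^ b) ^ p ^ (a - 1) = 1
    rw [← pow_mul, ← pow_add]
    funext i
    rw [Pi.pow_apply, Pi.one_apply]
    simp only [zl]
    split_ifs with h
    · exact htor i _ _ (by omega)
    · exact one_pow _
  · refine Subgroup.mem_sup_left (Subgroup.mem_sup_left ⟨?_, ?_⟩)
    · show (zg ^ p ^ b) ^ p ^ a = 1
      funext i
      rw [Pi.pow_apply, Pi.pow_apply, Pi.one_apply]
      simp only [zg]
      split_ifs with h
      · rw [show (z i) ^ p ^ b = u i by rw [← hu2, Pi.pow_apply]]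
        exact congrFun hu1 i
      · simp
    · have hdiv : ∀ i, a + b < e i → ∃ w : Multiplicative (ZMod (p ^ e i)), w ^ p = z i := by
        intro i h
        obtain ⟨k, hk⟩ := ZMod.natCast_zmod_surjective (Multiplicative.toAdd (z i))
        have h1 : (z i) ^ p ^ (a + b) = 1 := by
          rw [add_comm, pow_add, pow_mul, show (z i) ^ p ^ b = u i by rw [← hu2, Pi.pow_apply]]
          exact congrFun hu1 i
        have h2 := congrArg Multiplicative.toAdd h1
        rw [toAdd_pow, ← hk, toAdd_one, nsmul_eq_mul, ← Nat.cast_mul, ZMod.natCast_eq_zero_iff] at h2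
        have h3 : p ∣ k := by
          have h4 : p ^ (a + b) * p ∣ p ^ (a + b) * k := by
            rw [← pow_succ]; exact (pow_dvd_pow p h).trans h2
          exact (Nat.mul_dvd_mul_iff_left (pow_pos (Fact.out : p.Prime).pos _)).mp h4
        obtain ⟨d, rfl⟩ := h3
        exact ⟨Multiplicative.ofAdd (d : ZMod (p ^ e i)), Multiplicative.toAdd.injective (by
          rw [toAdd_pow, toAdd_ofAdd, nsmul_eq_mul, ← hk, Nat.cast_mul])⟩
      choose w hw using hdiv
      refine ⟨fun i => if h : a + b < e i then w i h else 1, ?_⟩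
      show _ ^ p ^ (b + 1) = zg ^ p ^ b
      funext i
      rw [Pi.pow_apply, Pi.pow_apply, pow_succ', pow_mul]
      simp only [zg]
      split_ifs with h
      · rw [hw]
      · simp
  · by_cases hex : ∃ i, e i = a + b
    · obtain ⟨i₀, h₀⟩ := hex
      refine Subgroup.mem_sup_right ?_
      obtain ⟨k, hk⟩ := ZMod.natCast_zmod_surjective (Multiplicative.toAdd (z i₀))
      refine ⟨k, ?_⟩
      show x₀ ^ (k : ℤ) = ze ^ p ^ b
      rw [zpow_natCast]
      funext i
      rw [Pi.pow_apply, Pi.pow_apply]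
      simp only [x₀, ze]
      split_ifs with h
      · obtain rfl : i = i₀ := he (h.trans h₀.symm)
        refine Multiplicative.toAdd.injective ?_
        rw [toAdd_pow, toAdd_pow, toAdd_ofAdd, ← hk, nsmul_eq_mul, nsmul_eq_mul, mul_comm]
      · simp
    · have : ze = 1 := funext fun i => if_neg fun h => hex ⟨i, h⟩
      rw [this, one_pow]
      exact one_mem _

/-- Distinct invariants: the `p'`-groups of automorphisms are abelian of exponent dividing `p - 1`. -/
theorem good_of_distinct {W : Type*} [CommGroup W] [Finite W] {p : ℕ} [Fact p.Prime] (hW : IsPGroup p W) {ι : Type}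
    [Fintype ι] (e : ι → ℕ) (he : Function.Injective e) (φ : W ≃* ∀ i, Multiplicative (ZMod (p ^ e i)))
    (H : Subgroup (MulAut W)) (hH : (Nat.card ↥H).Coprime p) :
    IsMulCommutative ↥H ∧ ∀ h ∈ H, h ^ (p - 1) = 1 := by
  classical
  obtain ⟨K, hK⟩ := IsPGroup.iff_card.mp hW
  set L := K + 1 with hL
  have hkill : ∀ (y : W) (j : ℕ), K ≤ j → y ^ p ^ j = 1 := fun y j hj => by
    obtain ⟨d, rfl⟩ := Nat.exists_eq_add_of_le hj
    rw [pow_add, pow_mul, show y ^ p ^ K = 1 by rw [← hK]; exact pow_card_eq_one', one_pow]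
  let c : ℕ → Subgroup W := fun t => layer p (t / L + 1) (L - t % L)
  refine abelian_exponent (A := ⊤) (m := L * L) (c := c) hW ⟨?_, ?_, fun i => inferInstance, fun t _ => ?_, fun t _ => ?_,
    fun a _ i y hy => layer_inv p _ _ a hy⟩ le_top hH
  · show layer p (0 / L + 1) (L - 0 % L) = ⊥
    rw [Nat.zero_div, Nat.zero_mod, Nat.sub_zero, layer, eq_bot_iff, sup_le_iff]
    refine ⟨fun y hy => ?_, fun y hy => ?_⟩
    · obtain ⟨z, hz⟩ := hy.2
      rw [Subgroup.mem_bot, ← hz]
      exact hkill z L (by omega)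
    · simpa using hy
  · show layer p (L * L / L + 1) (L - L * L % L) = ⊤
    rw [Nat.mul_div_cancel _ (by omega), Nat.mul_mod_left, eq_top_iff]
    exact fun y _ => Subgroup.mem_sup_right (hkill y _ (by omega))
  · show layer p (t / L + 1) (L - t % L) ≤ layer p ((t + 1) / L + 1) (L - (t + 1) % L)
    rcases Nat.lt_or_ge (t % L + 1) L with hlt | hge
    · have h1 : (t + 1) % L = t % L + 1 := by rw [Nat.add_mod, Nat.one_mod_eq_one.mpr (by omega), Nat.mod_eq_of_lt hlt]
      have h2 : (t + 1) / L = t / L := Nat.succ_div_of_not_dvd fun hd => by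
        have := Nat.dvd_iff_mod_eq_zero.mp hd; omega
      rw [h1, h2]
      refine sup_le_sup_right (inf_le_inf_left _ ?_) _
      rintro _ ⟨z, rfl⟩
      refine ⟨z ^ p, ?_⟩
      show (z ^ p) ^ p ^ (L - (t % L + 1)) = z ^ p ^ (L - t % L)
      rw [← pow_mul, ← pow_succ']
      congr 2
      omega
    · have h0 : t % L = L - 1 := by have := Nat.mod_lt t (show 0 < L by omega); omega
      have hd : L ∣ t + 1 := by
        refine ⟨t / L + 1, ?_⟩
        rw [Nat.mul_add, mul_one]; have := Nat.div_add_mod t L; omega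
      rw [Nat.succ_div_of_dvd hd, show (t + 1) % L = 0 from Nat.mod_eq_zero_of_dvd hd]
      have hq := Nat.zero_le (t / L)
      generalize htL : t / L = s at hd hq ⊢
      refine sup_le (fun y hy => Subgroup.mem_sup_right hy.1) fun y hy => Subgroup.mem_sup_right ?_
      show y ^ p ^ (s + 1 + 1 - 1) = 1
      have hy' : y ^ p ^ (s + 1 - 1) = 1 := hy
      rw [show s + 1 + 1 - 1 = (s + 1 - 1) + 1 by omega, pow_succ, pow_mul, hy', one_pow]
  · show ∃ x ∈ layer p ((t + 1) / L + 1) (L - (t + 1) % L),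
      layer p ((t + 1) / L + 1) (L - (t + 1) % L) ≤ layer p (t / L + 1) (L - t % L) ⊔ Subgroup.zpowers x
    -- read the step in coordinates
    have key : ∀ a b, 1 ≤ a → ∃ x ∈ layer (W := W) p a b, layer (W := W) p a b ≤ layer p a (b + 1) ⊔ Subgroup.zpowers x := by
      intro a b ha
      obtain ⟨x, hx, hle⟩ := layer_step (p := p) e he a b ha
      have hmap : ∀ a b, (layer (W := ∀ i, Multiplicative (ZMod (p ^ e i))) p a b).map φ.symm.toMonoidHom = layer p a b := by
        intro a b
        refine le_antisymm ?_ fun y hy => ⟨φ y, ?_, φ.symm_apply_apply y⟩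
        · rintro _ ⟨y, hy, rfl⟩
          obtain ⟨u, ⟨hu1, z, hu2⟩, v, hv, rfl⟩ := Subgroup.mem_sup.mp hy
          rw [map_mul]
          refine Subgroup.mul_mem_sup ⟨?_, φ.symm z, ?_⟩ ?_
          · show (φ.symm u) ^ p ^ a = 1
            rw [← map_pow, show u ^ p ^ a = 1 from hu1, map_one]
          · show (φ.symm z) ^ p ^ b = φ.symm u
            rw [← map_pow]; exact congrArg φ.symm hu2
          · show (φ.symm v) ^ p ^ (a - 1) = 1
            rw [← map_pow, show v ^ p ^ (a - 1) = 1 from hv, map_one]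
        · obtain ⟨u, ⟨hu1, z, hu2⟩, v, hv, rfl⟩ := Subgroup.mem_sup.mp hy
          rw [map_mul]
          refine Subgroup.mul_mem_sup ⟨?_, φ z, ?_⟩ ?_
          · show (φ u) ^ p ^ a = 1
            rw [← map_pow, show u ^ p ^ a = 1 from hu1, map_one]
          · show (φ z) ^ p ^ b = φ u
            rw [← map_pow]; exact congrArg φ hu2
          · show (φ v) ^ p ^ (a - 1) = 1
            rw [← map_pow, show v ^ p ^ (a - 1) = 1 from hv, map_one]
      refine ⟨φ.symm x, (hmap a b).le ⟨x, hx, rfl⟩, (hmap a b).ge.trans ((Subgroup.map_mono hle).trans ?_)⟩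
      rw [Subgroup.map_sup, hmap, MonoidHom.map_zpowers]
      rfl
    rcases Nat.lt_or_ge (t % L + 1) L with hlt | hge
    · have h1 : (t + 1) % L = t % L + 1 := by rw [Nat.add_mod, Nat.one_mod_eq_one.mpr (by omega), Nat.mod_eq_of_lt hlt]
      have h2 : (t + 1) / L = t / L := Nat.succ_div_of_not_dvd fun hd => by
        have := Nat.dvd_iff_mod_eq_zero.mp hd; omega
      rw [h1, h2, show L - t % L = L - (t % L + 1) + 1 by omega]
      exact key _ _ (Nat.le_add_left 1 _)
    · have h0 : t % L = L - 1 := by have := Nat.mod_lt t (show 0 < L by omega); omega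
      have hd : L ∣ t + 1 := by
        refine ⟨t / L + 1, ?_⟩
        rw [Nat.mul_add, mul_one]; have := Nat.div_add_mod t L; omega
      rw [Nat.succ_div_of_dvd hd, show (t + 1) % L = 0 from Nat.mod_eq_zero_of_dvd hd, h0]
      rw [show L - (L - 1) = 1 by omega]
      generalize htL : t / L = s at *
      obtain ⟨x, hx, hle⟩ := key (s + 1) 0 (Nat.le_add_left 1 _)
      refine ⟨x, ?_, ?_⟩
      · obtain ⟨u, ⟨hu1, z, hu2⟩, v, hv, rfl⟩ := Subgroup.mem_sup.mp hx
        refine Subgroup.mem_sup_right ?_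
        show (u * v) ^ p ^ (s + 1 + 1 - 1) = 1
        have hv' : v ^ p ^ (s + 1 - 1) = 1 := hv
        rw [mul_pow, show s + 1 + 1 - 1 = s + 1 by omega, show u ^ p ^ (s + 1) = 1 from hu1, one_mul,
          show s + 1 = s + 1 - 1 + 1 by omega, pow_succ, pow_mul, hv', one_pow]
      · refine sup_le (fun y hy => ?_) fun y hy => hle ?_
        · obtain ⟨z, hz⟩ := hy.2
          have : y = 1 := by rw [← hz]; exact hkill z _ (by omega)
          rw [this]; exact one_mem _
        · refine Subgroup.mem_sup_left ⟨?_, y, ?_⟩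
          · show y ^ p ^ (s + 1) = 1
            have hy' : y ^ p ^ (s + 1 + 1 - 1) = 1 := hy
            rwa [show s + 1 + 1 - 1 = s + 1 by omega] at hy'
          · show y ^ p ^ 0 = y
            rw [pow_zero, pow_one]

/-- A homomorphism of the dihedral group of order eight from two relations. -/
def dihHom4 {M : Type*} [Group M] (R D : M) (hR : R ^ 4 = 1) (hD : D * D = 1) (hDR : R * D * R = D) :
    DihedralGroup 4 →* M where
  toFun
    | .r i => R ^ i.val
    | .sr i => D * R ^ i.val
  map_one' := pow_zero R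
  map_mul' := by
    have hmod : ∀ k, R ^ k = R ^ (k % 4) := fun k => by
      conv_lhs => rw [← Nat.div_add_mod k 4, pow_add, pow_mul, hR, one_pow, one_mul]
    have hadd : ∀ a b : ZMod 4, R ^ (a + b).val = R ^ a.val * R ^ b.val := fun a b => by
      rw [← pow_add, hmod (a.val + b.val), ZMod.val_add]
    have hsub : ∀ a b : ZMod 4, R ^ (b - a).val = (R ^ a.val)⁻¹ * R ^ b.val := fun a b => by
      rw [eq_inv_mul_iff_mul_eq, ← hadd, add_sub_cancel]
    have hswap : ∀ k : ℕ, R ^ k * D = D * (R ^ k)⁻¹ := by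
      intro k
      induction k with
      | zero => simp
      | succ k ih =>
        have h1 : R * D = D * R⁻¹ := eq_mul_inv_iff_mul_eq.mpr hDR
        rw [pow_succ, mul_assoc, h1, ← mul_assoc, ih, mul_assoc, ← mul_inv_rev, ← pow_succ', pow_succ]
    rintro (i | i) (j | j)
    · show R ^ (i + j).val = R ^ i.val * R ^ j.val
      exact hadd i j
    · show D * R ^ (j - i).val = R ^ i.val * (D * R ^ j.val)
      rw [← mul_assoc, hswap, hsub, mul_assoc]
    · show D * R ^ (i + j).val = D * R ^ i.val * R ^ j.val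
      rw [hadd, mul_assoc]
    · show R ^ (j - i).val = D * R ^ i.val * (D * R ^ j.val)
      rw [mul_assoc D, ← mul_assoc (R ^ i.val), hswap, ← mul_assoc, ← mul_assoc, hD, one_mul, hsub]

theorem repeated_bad {W : Type u} [CommGroup W] {p : ℕ} [Fact p.Prime] {M : Type} [CommGroup M] (g1 : M)
    (hg1 : g1 ≠ 1) (hg2 : p ≠ 2 → g1 ^ 2 ≠ 1) {H₀ : Type} [CommGroup H₀] (φ : W ≃* (M × M) × H₀) :
    ∃ H : Subgroup (MulAut W), (Nat.card ↥H).Coprime p ∧ ¬ (IsMulCommutative ↥H ∧ ∀ h ∈ H, h ^ (p - 1) = 1) := by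
  have hp : p.Prime := Fact.out
  let lift : MulAut (M × M) → MulAut W := fun σ =>
    φ.trans ((MulEquiv.prodCongr σ (MulEquiv.refl H₀)).trans φ.symm)
  have hlift : ∀ σ w, φ (lift σ w) = (σ (φ w).1, (φ w).2) := fun σ w => φ.apply_symm_apply _
  have hlm : ∀ σ τ, lift σ * lift τ = lift (σ * τ) := fun σ τ => MulEquiv.ext fun w => φ.injective (by
    rw [MulAut.mul_apply, hlift, hlift, hlift]; rfl)
  have hl1 : lift 1 = 1 := MulEquiv.ext fun w => φ.injective (by rw [hlift]; rfl)
  let Λ : MulAut (M × M) →* MulAut W := MonoidHom.mk' lift fun σ τ => (hlm σ τ).symm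
  have hΛ : Function.Injective Λ := fun σ τ h => MulEquiv.ext fun q => by
    have h1 := congrArg (fun g : MulAut W => φ (g (φ.symm (q, 1)))) h
    simp only [Λ, MonoidHom.mk'_apply, hlift, φ.apply_symm_apply] at h1
    exact (Prod.ext_iff.mp h1).1
  rcases eq_or_ne p 2 with h2 | h2
  · -- an automorphism of order three
    let t : MulAut (M × M) :=
      { toFun := fun q => (q.2⁻¹, q.1 * q.2⁻¹)
        invFun := fun q => (q.2 * q.1⁻¹, q.1⁻¹)
        left_inv := fun q => by ext <;> simp [mul_comm, mul_left_comm]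
        right_inv := fun q => by ext <;> simp [mul_comm, mul_left_comm]
        map_mul' := fun a b => Prod.ext (mul_inv a.2 b.2)
          ((congrArg ((a.1 * b.1) * ·) (mul_inv a.2 b.2)).trans (mul_mul_mul_comm _ _ _ _)) }
    have ht3 : Λ t ^ 3 = 1 := by
      rw [← map_pow, show t ^ 3 = 1 from MulEquiv.ext fun q => by
        simp [t, pow_succ, MulAut.mul_apply, mul_comm, mul_left_comm], map_one]
    refine ⟨Subgroup.zpowers (Λ t), ?_, fun h => ?_⟩
    · rw [Nat.card_zpowers, h2]
      exact ((show Nat.Coprime 3 2 by norm_num)).coprime_dvd_left (orderOf_dvd_of_pow_eq_one ht3)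
    · have h1 := h.2 _ (Subgroup.mem_zpowers (Λ t))
      rw [h2, show 2 - 1 = 1 from rfl, pow_one, ← map_one Λ] at h1
      have h3 := congrArg Prod.fst (DFunLike.congr_fun (hΛ h1) (g1, 1))
      exact hg1 (by simpa [t] using h3.symm)
  · -- a dihedral group of order eight
    let R : MulAut (M × M) :=
      { toFun := fun q => (q.2⁻¹, q.1)
        invFun := fun q => (q.2, q.1⁻¹)
        left_inv := fun q => by ext <;> simp
        right_inv := fun q => by ext <;> simp
        map_mul' := fun a b => by ext <;> simp [mul_comm] }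
    let D : MulAut (M × M) :=
      { toFun := fun q => (q.1⁻¹, q.2)
        invFun := fun q => (q.1⁻¹, q.2)
        left_inv := fun q => by ext <;> simp
        right_inv := fun q => by ext <;> simp
        map_mul' := fun a b => by ext <;> simp [mul_comm] }
    let ψ := Λ.comp (dihHom4 R D (MulEquiv.ext fun q => by simp [pow_succ, R, MulAut.mul_apply])
      (MulEquiv.ext fun q => by simp [D, MulAut.mul_apply])
      (MulEquiv.ext fun q => by simp [R, D, MulAut.mul_apply]))
    refine ⟨ψ.range, ?_, fun h => ?_⟩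
    · have h8 : Nat.card ↥ψ.range ∣ 2 ^ 3 := by
        have := Subgroup.card_range_dvd ψ
        rwa [DihedralGroup.nat_card] at this
      exact ((((Nat.coprime_primes Nat.prime_two hp).mpr (Ne.symm h2)).pow_left 3)).coprime_dvd_left h8
    · have h1 := congrArg Subtype.val (h.1.is_comm.comm ⟨_, DihedralGroup.r 1, rfl⟩ ⟨_, DihedralGroup.sr 0, rfl⟩ : (⟨ψ (DihedralGroup.r 1), _, rfl⟩ : ↥ψ.range) * ⟨ψ (DihedralGroup.sr 0), _, rfl⟩ = _)
      have hr1 : ψ (DihedralGroup.r 1) = Λ R := congrArg Λ (pow_one R : R ^ 1 = R)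
      have hs0 : ψ (DihedralGroup.sr 0) = Λ D := congrArg Λ (show D * R ^ 0 = D by rw [pow_zero, mul_one])
      simp only [Subgroup.coe_mul, hr1, hs0] at h1
      rw [← map_mul, ← map_mul] at h1
      have h3 := congrArg Prod.snd (DFunLike.congr_fun (hΛ h1) (g1, 1))
      have h4 : g1⁻¹ = g1 := by simpa [R, D, MulAut.mul_apply] using h3
      have h5 : g1 ^ 2 = 1 := by rw [pow_two]; nth_rewrite 1 [← h4]; exact inv_mul_cancel g1
      exact hg2 h2 h5

/-- A decomposition with a repeated invariant. -/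
theorem exists_repeated {W : Type u} [CommGroup W] {p : ℕ} {ι : Type} [Fintype ι] [DecidableEq ι] (e : ι → ℕ)
    (φ : W ≃* ∀ i, Multiplicative (ZMod (p ^ e i))) {i j : ι} (hij : i ≠ j) (he : e i = e j) :
    ∃ (H : Type) (_ : CommGroup H),
      Nonempty (W ≃* (Multiplicative (ZMod (p ^ e i)) × Multiplicative (ZMod (p ^ e i))) × H) := by
  let H := ∀ k : {k : ι // k ≠ i ∧ k ≠ j}, Multiplicative (ZMod (p ^ e k))
  let c : Multiplicative (ZMod (p ^ e j)) ≃* Multiplicative (ZMod (p ^ e i)) :=
    (ZMod.ringEquivCongr (congrArg (p ^ ·) he.symm)).toAddEquiv.toMultiplicative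
  let ψ : (∀ k, Multiplicative (ZMod (p ^ e k))) →*
      (Multiplicative (ZMod (p ^ e i)) × Multiplicative (ZMod (p ^ e i))) × H :=
    MonoidHom.mk' (fun f => ((f i, c (f j)), fun k => f k)) fun f g => by
      refine Prod.ext (Prod.ext rfl ?_) rfl
      exact map_mul c (f j) (g j)
  refine ⟨H, inferInstance, ⟨φ.trans (MulEquiv.ofBijective ψ ⟨fun f g h => ?_, fun q => ?_⟩)⟩⟩
  · simp only [ψ, MonoidHom.mk'_apply, Prod.mk.injEq] at h
    funext k
    by_cases hki : k = i
    · subst hki; exact h.1.1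
    by_cases hkj : k = j
    · subst hkj; exact c.injective h.1.2
    exact congrFun h.2 ⟨k, hki, hkj⟩
  · refine ⟨fun k => if hki : k = i then hki ▸ q.1.1 else if hkj : k = j then hkj ▸ c.symm q.1.2 else q.2 ⟨k, hki, hkj⟩, ?_⟩
    refine Prod.ext (Prod.ext ?_ ?_) (funext fun k => ?_)
    · simp [ψ]
    · simp [ψ, hij.symm]
    · simp [ψ, k.2.1, k.2.2]

end CfsgLib.Fusion.AbelianChain
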