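import Cfsg.Agent.Lib.Fusion.KNormalizer
import Cfsg.Agent.Lib.Fusion.Series
import Cfsg.Agent.Lib.Fusion.Control

/-! The centre of a saturated system as a direct factor of `Z(S)`. (helper6) -/

set_option autoImplicit false
set_option linter.unusedSectionVars false
set_option linter.style.haveILetI false

namespace CfsgLib.Fusion

open Cfsg Cfsg.FusionSystem
open scoped IsMulCommutative

universe u

variable {Ω : Type u} [Group Ω] {S : Subgroup Ω} {F : FusionSystem S} {p : ℕ}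

theorem center_le (hF : F.IsCentral F.center) : F.center ≤ S ⊓ Subgroup.centralizer (S : Set Ω) := by
  intro z hz
  refine Subgroup.mem_inf.mpr ⟨hF.1 hz, Subgroup.mem_centralizer_iff.mpr fun s hs => ?_⟩
  obtain ⟨ψ, hψ, hψP, hψz⟩ := hF.2 S (conjHom S z) (F.conj_mem le_rfl (hF.1 hz))
  have h1 := hψP ⟨s, hs⟩
  have h2 := hψz ⟨z, hz⟩
  have hsub : (S ⊔ F.center : Subgroup Ω) = S := sup_eq_left.mpr hF.1
  obtain ⟨χ, hχ, hχP, hχz⟩ := hF.2 S (conjHom S s) (F.conj_mem le_rfl hs)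
  have h3 : χ (Subgroup.inclusion le_sup_left (⟨z, hF.1 hz⟩ : ↥S)) = z := hχz ⟨z, hz⟩
  rw [hχP] at h3
  exact mul_inv_eq_iff_eq_mul.mp (show s * z * s⁻¹ = z from h3)

variable [Finite ↥S] [Fact p.Prime]

/-- If `Z(S) ≤ O_p(F)` then `Z(F)` is a direct factor of `Z(S)`. -/
theorem exists_factor_of_le_core (hS : IsPGroup p ↥S) (hF : F.IsSaturated p)
    (hZ : S ⊓ Subgroup.centralizer (S : Set Ω) ≤ F.core) :
    ∃ K : Subgroup Ω, K ≤ S ⊓ Subgroup.centralizer (S : Set Ω) ∧ F.center ⊓ K = ⊥ ∧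
      F.center ⊔ K = S ⊓ Subgroup.centralizer (S : Set Ω) := by
  classical
  set Q := F.core with hQdef
  set Z := S ⊓ Subgroup.centralizer (S : Set Ω) with hZdef
  have hQn : F.IsNormal Q := isNormal_core F
  have hQN : S ≤ Subgroup.normalizer (Q : Set Ω) := StronglyClosed.normal (isNormal_stronglyClosed hQn)
  have hcC := isCentral_center F
  have hCZ : F.center ≤ Z := center_le hcC
  haveI := finite_of_le hQn.1
  haveI := finite_aut_of_le hQn.1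
  set A := F.autGroup Q
  obtain ⟨-, TS, hTS⟩ := fullyNormalized_automized p hS hF (fullyNormalized_of_normal hQn.1 hQN)
  -- fixed points
  have hmemC : ∀ (z : Ω) (hz : z ∈ Z), (∀ a : ↥A, ((a : MulAut ↥Q) ⟨z, hZ hz⟩ : Ω) = z) → z ∈ F.center := by
    intro z hz hfix
    have hle : Subgroup.zpowers z ≤ Q := Subgroup.zpowers_le.mpr (hZ hz)
    refine (le_sSup (show F.IsCentral (Subgroup.zpowers z) from ⟨hle.trans hQn.1, fun P φ hφ => ?_⟩) :
      Subgroup.zpowers z ≤ F.center) (Subgroup.mem_zpowers z)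
    obtain ⟨ψ, hψ, hψP, hψQ⟩ := hQn.2 P φ hφ
    refine ⟨ψ.comp (Subgroup.inclusion (sup_le_sup_left hle P)), restrict_mem hψ _, fun x => hψP x, fun x => ?_⟩
    obtain ⟨β, hβ, hβe⟩ := isNormal_restrict hQn hψ
    have hx : ((β ⟨x, hle x.2⟩ : ↥Q) : Ω) = x := by
      obtain ⟨i, hi⟩ := Subgroup.mem_zpowers_iff.mp x.2
      rw [show (⟨(x : Ω), hle x.2⟩ : ↥Q) = ⟨z, hZ hz⟩ ^ i from Subtype.ext hi.symm, map_zpow, Subgroup.coe_zpow,
        hfix ⟨β, hβ⟩, hi]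
    exact (hβe ⟨x, Subgroup.mem_sup_right (hle x.2)⟩ (hle x.2)).symm.trans hx
  have hfixC : ∀ c (hc : c ∈ F.center) (a : ↥A), ((a : MulAut ↥Q) ⟨c, hZ (hCZ hc)⟩ : Ω) = c := by
    intro c hc a
    obtain ⟨ψ, hψ, hψP, hψc⟩ := hcC.2 Q _ ((autGroup_carrier F hQn.1 _).mp a.2)
    have h1 := hψP ⟨c, hZ (hCZ hc)⟩
    exact h1.symm.trans (hψc ⟨c, hc⟩)
  -- the norm map
  set V := Subgroup.center ↥Q
  have hV : ∀ z ∈ Z, ∀ h : z ∈ Q, (⟨z, h⟩ : ↥Q) ∈ V := fun z hz h => Subgroup.mem_center_iff.mpr fun q =>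
    Subtype.ext (Subgroup.mem_centralizer_iff.mp (Subgroup.mem_inf.mp hz).2 q (hQn.1 q.2))
  have hVpres : ∀ (a : MulAut ↥Q) (v : ↥Q), v ∈ V → a v ∈ V := fun a v hv => Subgroup.mem_center_iff.mpr fun q => by
    obtain ⟨q, rfl⟩ := a.surjective q
    rw [← map_mul, ← map_mul, Subgroup.mem_center_iff.mp hv q]
  letI : Fintype (↥A ⧸ (TS : Subgroup ↥A)) := Fintype.ofFinite _
  let τ : ↥Z →* ↥V := ∏ q : ↥A ⧸ (TS : Subgroup ↥A),
    { toFun := fun z => ⟨(q.out : MulAut ↥Q) ⟨z, hZ z.2⟩, hVpres _ _ (hV _ z.2 _)⟩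
      map_one' := Subtype.ext (map_one _)
      map_mul' := fun x y => Subtype.ext (by
        show (q.out : MulAut ↥Q) (⟨x, hZ x.2⟩ * ⟨y, hZ y.2⟩) = _
        rw [map_mul]; rfl) }
  have hτ : ∀ z : ↥Z, τ z = ∏ q : ↥A ⧸ (TS : Subgroup ↥A),
      (⟨(q.out : MulAut ↥Q) ⟨z, hZ z.2⟩, hVpres _ _ (hV _ z.2 _)⟩ : ↥V) := fun z => MonoidHom.finsetProd_apply _ _ _
  have hS' : ∀ (b : ↥A), b ∈ (TS : Subgroup ↥A) → ∀ z : ↥Z, (b : MulAut ↥Q) ⟨z, hZ z.2⟩ = ⟨z, hZ z.2⟩ := by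
    intro b hb z
    rw [hTS] at hb
    obtain ⟨s, hs, hse⟩ := (mem_autInducedBy _).mp hb
    refine Subtype.ext ((hse ⟨z, hZ z.2⟩).trans ?_)
    show s * (z : Ω) * s⁻¹ = z
    rw [Subgroup.mem_centralizer_iff.mp (Subgroup.mem_inf.mp z.2).2 s hs, mul_inv_cancel_right]
  have hinv : ∀ (z : ↥Z) (a : ↥A), (a : MulAut ↥Q) ((τ z : ↥V) : ↥Q) = ((τ z : ↥V) : ↥Q) := by
    intro z a
    let f : ↥V →* ↥V :=
      { toFun := fun v => ⟨(a : MulAut ↥Q) v, hVpres _ _ v.2⟩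
        map_one' := Subtype.ext (map_one _)
        map_mul' := fun x y => Subtype.ext (map_mul _ _ _) }
    refine congrArg Subtype.val (?_ : f (τ z) = τ z)
    rw [hτ, map_prod]
    refine Fintype.prod_equiv (MulAction.toPerm a) _ _ fun q => Subtype.ext ?_
    show (a : MulAut ↥Q) ((q.out : MulAut ↥Q) ⟨z, hZ z.2⟩) = ((a • q).out : MulAut ↥Q) ⟨z, hZ z.2⟩
    have hmk : (QuotientGroup.mk (a * q.out) : ↥A ⧸ (TS : Subgroup ↥A)) = a • q := by
      conv_rhs => rw [← QuotientGroup.out_eq' q]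
      rfl
    have h1 : (a * q.out)⁻¹ * (a • q).out ∈ (TS : Subgroup ↥A) :=
      QuotientGroup.eq.mp (hmk.trans (QuotientGroup.out_eq' _).symm)
    conv_rhs => rw [show (a • q).out = a * q.out * ((a * q.out)⁻¹ * (a • q).out) by group]
    rw [Subgroup.coe_mul, MulAut.mul_apply, hS' _ h1, Subgroup.coe_mul, MulAut.mul_apply]
  have hτC : ∀ z : ↥Z, (((τ z : ↥V) : ↥Q) : Ω) ∈ F.center := fun z => by
    set w := ((τ z : ↥V) : ↥Q)
    have hwZ : (w : Ω) ∈ Z := Subgroup.mem_inf.mpr ⟨hQn.1 w.2, Subgroup.mem_centralizer_iff.mpr fun s hs => by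
      have hb : Q.normalizerMonoidHom ⟨s, hQN hs⟩ ∈ autInducedBy S Q := (mem_autInducedBy _).mpr ⟨s, hs, fun _ => rfl⟩
      have h : s * (w : Ω) * s⁻¹ = w := congrArg Subtype.val (hinv z ⟨_, autInducedBy_le_autGroup F hQn.1 hb⟩)
      exact mul_inv_eq_iff_eq_mul.mp h⟩
    exact hmemC w hwZ fun a => congrArg Subtype.val (hinv z a)
  set m := Fintype.card (↥A ⧸ (TS : Subgroup ↥A))
  have hm : ¬ p ∣ m := by
    have := TS.not_dvd_index
    rwa [Subgroup.index, Nat.card_eq_fintype_card] at this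
  have hcopr : ∀ c ∈ S, c ^ m = 1 → c = 1 := fun c hc h => by
    obtain ⟨k, hk⟩ := hS ⟨c, hc⟩
    have hk' : c ^ p ^ k = 1 := congrArg Subtype.val hk
    rw [← orderOf_eq_one_iff]
    exact Nat.eq_one_of_dvd_coprimes (Nat.Coprime.pow_left k ((Fact.out : p.Prime).coprime_iff_not_dvd.mpr hm))
      (orderOf_dvd_of_pow_eq_one hk') (orderOf_dvd_of_pow_eq_one h)
  have hτc : ∀ z : ↥Z, (z : Ω) ∈ F.center → (((τ z : ↥V) : ↥Q) : Ω) = (z : Ω) ^ m := fun z hz => by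
    rw [hτ, Finset.prod_congr rfl fun q _ => (Subtype.ext (Subtype.ext (hfixC z hz q.out)) :
      (⟨(q.out : MulAut ↥Q) ⟨z, hZ z.2⟩, hVpres _ _ (hV _ z.2 _)⟩ : ↥V) = ⟨⟨z, hZ z.2⟩, hV _ z.2 _⟩),
      Finset.prod_const]
    rfl
  refine ⟨τ.ker.map Z.subtype, Subgroup.map_subtype_le _, ?_, le_antisymm (sup_le hCZ (Subgroup.map_subtype_le _)) ?_⟩
  · refine (Subgroup.eq_bot_iff_forall _).mpr fun x hx => ?_
    obtain ⟨hxC, z, hz, rfl⟩ := Subgroup.mem_inf.mp hx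
    refine hcopr _ (Subgroup.mem_inf.mp z.2).1 ((hτc z hxC).symm.trans ?_)
    rw [MonoidHom.mem_ker.mp hz]; rfl
  · intro z hz
    have hwC := hτC ⟨z, hz⟩
    set w := (((τ ⟨z, hz⟩ : ↥V) : ↥Q) : Ω)
    obtain ⟨k, hk⟩ := IsPGroup.iff_card.mp hS
    obtain ⟨i, hi⟩ := Nat.exists_mul_mod_eq_one_of_coprime
      (n := m) (k := p ^ (k + 1)) (Nat.Coprime.pow_right _ (Nat.Coprime.symm ((Fact.out : p.Prime).coprime_iff_not_dvd.mpr hm)))
      (Nat.one_lt_pow (Nat.succ_ne_zero _) (Fact.out : p.Prime).one_lt)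
    have hu : w ^ (i : ℕ) ∈ F.center := pow_mem hwC _
    have hpow : (w ^ (i : ℕ)) ^ m = w := by
      have h1 : w ^ p ^ (k + 1) = 1 := by
        rw [pow_succ, pow_mul, ← hk, show w ^ Nat.card ↥S = 1 from
          congrArg Subtype.val (pow_card_eq_one' (x := (⟨w, hcC.1 hwC⟩ : ↥S))), one_pow]
      rw [← pow_mul, mul_comm, ← Nat.div_add_mod (m * i) (p ^ (k + 1)), pow_add, pow_mul, h1, one_pow, one_mul, hi.2, pow_one]
    have hker : (⟨w ^ (i : ℕ), hCZ hu⟩⁻¹ * ⟨z, hz⟩ : ↥Z) ∈ τ.ker := by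
      rw [MonoidHom.mem_ker, map_mul, map_inv, inv_mul_eq_one]
      exact Subtype.ext (Subtype.ext ((hτc ⟨_, hCZ hu⟩ hu).trans hpow))
    rw [show z = w ^ (i : ℕ) * ((w ^ (i : ℕ))⁻¹ * z) by group]
    exact mul_mem (Subgroup.mem_sup_left hu) (Subgroup.mem_sup_right ⟨_, hker, rfl⟩)

end CfsgLib.Fusion
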