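import Cfsg.Agent.Lib.Fusion.Transfer

/-! The hyperfocal subgroup: `foc = hyp · S'` and `hyp ∩ S' = [hyp, S]`. -/

set_option autoImplicit false
set_option linter.unusedSectionVars false

namespace CfsgLib.Biset

open Cfsg Cfsg.FusionSystem CfsgLib.Fusion
open scoped commutatorElement

universe u

variable {Ω : Type u} [Group Ω] {S : Subgroup Ω} {F : FusionSystem S}

theorem hyp_le (p : ℕ) (F : FusionSystem S) : F.hyperfocalSubgroup p ≤ S := by
  refine (Subgroup.closure_le _).mpr ?_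
  rintro _ ⟨P, α, x, hP, -, rfl⟩
  exact mul_mem (inv_mem (hP x.2)) (hP ((α : MulAut ↥P) x).2)

theorem hyp_le_focal (p : ℕ) (F : FusionSystem S) : F.hyperfocalSubgroup p ≤ F.focalSubgroup := by
  refine (Subgroup.closure_le _).mpr ?_
  rintro _ ⟨P, α, x, hP, -, rfl⟩
  exact Subgroup.subset_closure ⟨P, _, x, (autGroup_carrier F hP _).mp α.2, rfl⟩

theorem hyp_conj (p : ℕ) (F : FusionSystem S) {s y : Ω} (hs : s ∈ S) (hy : y ∈ F.hyperfocalSubgroup p) :
    s * y * s⁻¹ ∈ F.hyperfocalSubgroup p := by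
  refine (Subgroup.closure_le ((F.hyperfocalSubgroup p).comap (MulAut.conj s).toMonoidHom)).mpr ?_ hy
  rintro _ ⟨P, α, x, hP, hα, rfl⟩
  set e : ↥P ≃* ↥(P.map (MulAut.conj s).toMonoidHom) := (MulAut.conj s).subgroupMap P
  have hP' : P.map (MulAut.conj s).toMonoidHom ≤ S := by
    rintro _ ⟨z, hz, rfl⟩
    exact mul_mem (mul_mem hs (hP hz)) (inv_mem hs)
  have he : (P.map (MulAut.conj s).toMonoidHom).subtype.comp e.toMonoidHom ∈ F.Hom P :=
    conj_mem_of_eq F hP hs fun z => rfl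
  let ι : ↥(F.autGroup P) →* ↥(F.autGroup (P.map (MulAut.conj s).toMonoidHom)) :=
    MonoidHom.codRestrict ((MulAut.congr e).toMonoidHom.comp (F.autGroup P).subtype) _ fun b =>
      (autGroup_carrier F hP' _).mpr
        (trans_mem e.symm (((b : MulAut ↥P)).trans e) (symm_mem e he)
          (trans_mem (b : MulAut ↥P) e ((autGroup_carrier F hP _).mp b.2) he))
  refine Subgroup.subset_closure ⟨_, ι α, e x, hP', CfsgLib.PResidual.map_pResidual ι ⟨α, hα, rfl⟩, ?_⟩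
  show s * ((x : Ω)⁻¹ * ((α : MulAut ↥P) x : P)) * s⁻¹ =
    (s * (x : Ω) * s⁻¹)⁻¹ * ((e ((α : MulAut ↥P) (e.symm (e x))) : _) : Ω)
  rw [e.symm_apply_apply]
  show _ = (s * (x : Ω) * s⁻¹)⁻¹ * (s * ((α : MulAut ↥P) x : P) * s⁻¹)
  group

/-- The hyperfocal subgroup inside `S`. -/
def hypS (p : ℕ) (F : FusionSystem S) : Subgroup ↥S := (F.hyperfocalSubgroup p).subgroupOf S

instance hypS_normal (p : ℕ) (F : FusionSystem S) : (hypS p F).Normal :=
  ⟨fun _ hy s => Subgroup.mem_subgroupOf.mpr (hyp_conj p F s.2 (Subgroup.mem_subgroupOf.mp hy))⟩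

theorem mem_hypS_of_aut {p : ℕ} {P : Subgroup Ω} (hP : P ≤ S) {α : ↥(F.autGroup P)}
    (hα : α ∈ pResidual p ↥(F.autGroup P)) (x : P) :
    (⟨x, hP x.2⟩ : ↥S)⁻¹ * ⟨(α : MulAut ↥P) x, hP ((α : MulAut ↥P) x).2⟩ ∈ hypS p F :=
  Subgroup.mem_subgroupOf.mpr (Subgroup.subset_closure ⟨P, α, x, hP, hα, rfl⟩)

variable [Finite ↥S] (p : ℕ) [Fact p.Prime]

/-- Modulo the hyperfocal subgroup every map is induced by conjugation. -/
theorem exists_conj_mod_hyp (hS : IsPGroup p ↥S) (hF : F.IsSaturated p) {P : Subgroup Ω} {φ : ↥P →* Ω}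
    (hφ : φ ∈ F.Hom P) :
    ∃ q : ↥S ⧸ hypS p F, ∀ (x : P) (h₁ : (x : Ω) ∈ S) (h₂ : φ x ∈ S),
      (QuotientGroup.mk ⟨φ x, h₂⟩ : ↥S ⧸ hypS p F) = q * QuotientGroup.mk ⟨x, h₁⟩ * q⁻¹ := by
  refine alperin_induction p hS hF (fun P φ => ∃ q : ↥S ⧸ hypS p F, ∀ (x : P) (h₁ : (x : Ω) ∈ S) (h₂ : φ x ∈ S),
    (QuotientGroup.mk ⟨φ x, h₂⟩ : ↥S ⧸ hypS p F) = q * QuotientGroup.mk ⟨x, h₁⟩ * q⁻¹) ?_ ?_ ?_ ?_ hφ
  · intro P g _ hg
    exact ⟨QuotientGroup.mk ⟨g, hg⟩, fun x h₁ h₂ => rfl⟩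
  · rintro P Q φ ψ hφ ⟨q, hq⟩ hψ ⟨r, hr⟩ h
    refine ⟨r * q, fun x h₁ h₂ => ?_⟩
    refine (hr ⟨φ x, h x⟩ (apply_mem_S hφ x) h₂).trans ?_
    rw [hq x h₁]
    simp [mul_assoc]
  · rintro P φ hφ ⟨q, hq⟩ ψ hψ hψe
    refine ⟨q⁻¹, ?_⟩
    rintro ⟨_, x, rfl⟩ h₁ h₂
    have := hq x (le_S hφ x.2) h₁
    rw [show (⟨ψ ⟨φ x, ⟨x, rfl⟩⟩, h₂⟩ : ↥S) = ⟨x, le_S hφ x.2⟩ from Subtype.ext (hψe x), this]
    simp [mul_assoc]
  · intro R hR _ _ α hα
    have hRS := hR.1
    haveI := finite_of_le hRS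
    haveI := finite_aut_of_le hRS
    obtain ⟨-, T, hT⟩ := fullyNormalized_automized p hS hF hR
    let π : ↥R →* ↥S ⧸ hypS p F := (QuotientGroup.mk' (hypS p F)).comp (Subgroup.inclusion hRS)
    let K : Subgroup ↥(F.autGroup R) :=
      { carrier := {β | ∃ q : ↥S ⧸ hypS p F, ∀ x : R, π ((β : MulAut ↥R) x) = q * π x * q⁻¹}
        one_mem' := ⟨1, fun x => by simp⟩
        mul_mem' := by
          rintro a b ⟨q, hq⟩ ⟨r, hr⟩
          refine ⟨q * r, fun x => ?_⟩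
          show π ((a : MulAut ↥R) ((b : MulAut ↥R) x)) = _
          rw [hq, hr]
          simp [mul_assoc]
        inv_mem' := by
          rintro a ⟨q, hq⟩
          refine ⟨q⁻¹, fun x => ?_⟩
          have := hq (((a⁻¹ : ↥(F.autGroup R)) : MulAut ↥R) x)
          rw [Subgroup.coe_inv, MulAut.apply_inv_self] at this
          rw [this, Subgroup.coe_inv]
          simp [mul_assoc] }
    have hK : (⊤ : Subgroup ↥(F.autGroup R)) ≤ K := by
      rw [← CfsgLib.PResidual.sup_pResidual_eq_top T]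
      refine sup_le (fun β hβ => ?_) fun β hβ => ⟨1, fun x => ?_⟩
      · rw [hT] at hβ
        obtain ⟨g, hg, hgβ⟩ := (mem_autInducedBy _).mp hβ
        refine ⟨QuotientGroup.mk ⟨g, hg⟩, fun x => ?_⟩
        show QuotientGroup.mk (Subgroup.inclusion hRS ((β : MulAut ↥R) x)) = _
        rw [show Subgroup.inclusion hRS ((β : MulAut ↥R) x) =
          ⟨g, hg⟩ * Subgroup.inclusion hRS x * (⟨g, hg⟩ : ↥S)⁻¹ from Subtype.ext (hgβ x)]
        rfl
      · rw [one_mul, inv_one, mul_one]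
        exact (QuotientGroup.eq.mpr (mem_hypS_of_aut hRS hβ x)).symm
    obtain ⟨q, hq⟩ := hK (Subgroup.mem_top ⟨α, hα⟩)
    exact ⟨q, fun x _ _ => hq x⟩

/-- The focal subgroup is generated by the hyperfocal one and the derived group. -/
theorem focal_eq_sup (hS : IsPGroup p ↥S) (hF : F.IsSaturated p) :
    F.focalSubgroup = F.hyperfocalSubgroup p ⊔ ⁅S, S⁆ := by
  refine le_antisymm ?_ (sup_le (hyp_le_focal p F) (commutator_le_focal F))
  refine (Subgroup.closure_le _).mpr ?_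
  rintro _ ⟨P, φ, x, hφ, rfl⟩
  obtain ⟨q, hq⟩ := exists_conj_mod_hyp p hS hF hφ
  obtain ⟨g, rfl⟩ := QuotientGroup.mk_surjective q
  have h := QuotientGroup.eq.mp (hq x (le_S hφ x.2) (apply_mem_S hφ x)).symm
  have h' : ((g : Ω) * x * (g : Ω)⁻¹)⁻¹ * φ x ∈ F.hyperfocalSubgroup p := Subgroup.mem_subgroupOf.mp h
  have hc : ⁅(x : Ω)⁻¹, (g : Ω)⁆ ∈ ⁅S, S⁆ := Subgroup.commutator_mem_commutator (inv_mem (le_S hφ x.2)) g.2
  rw [show (x : Ω)⁻¹ * φ x = ⁅(x : Ω)⁻¹, (g : Ω)⁆ * (((g : Ω) * x * (g : Ω)⁻¹)⁻¹ * φ x) from by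
    rw [commutatorElement_def]; group]
  exact mul_mem (Subgroup.mem_sup_right hc) (Subgroup.mem_sup_left h')

/-- In a nilpotent group `A ≤ B[A,G]` forces `A ≤ B`. -/
theorem le_of_le_sup_commutator {G : Type*} [Group G] [hG : Group.IsNilpotent G] {A B : Subgroup G} [B.Normal]
    (h : A ≤ B ⊔ ⁅A, (⊤ : Subgroup G)⁆) : A ≤ B := by
  have hA : ∀ n, A.map (QuotientGroup.mk' B) ≤ Subgroup.lowerCentralSeries (⊤ : Subgroup (G ⧸ B)) n := by
    intro n
    induction n with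
    | zero => simp
    | succ n ih =>
      refine (Subgroup.map_mono h).trans ?_
      rw [Subgroup.map_sup, QuotientGroup.map_mk'_self, bot_sup_eq, Subgroup.map_commutator]
      exact Subgroup.commutator_mono ih le_top
  obtain ⟨n, hn⟩ := Subgroup.nilpotent_iff_lowerCentralSeries.mp (inferInstance : Group.IsNilpotent (G ⧸ B))
  have := hn ▸ hA n
  rw [Subgroup.map_le_iff_le_comap, MonoidHom.comap_bot, QuotientGroup.ker_mk'] at this
  exact this

/-- Left multiplication and right inverse multiplication through a map to a group. -/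
def biAct {T Q : Type*} [Group T] [Group Q] (π : T →* Q) : T × T →* Equiv.Perm Q :=
  MonoidHom.mk'
    (fun g =>
      { toFun := fun y => π g.1 * y * (π g.2)⁻¹
        invFun := fun y => (π g.1)⁻¹ * y * π g.2
        left_inv := fun y => by group
        right_inv := fun y => by group })
    fun g h => Equiv.ext fun y => by simp [mul_assoc]

/-- The hyperfocal subgroup meets the derived group in its commutator with `S`. -/
theorem hyp_inf_commutator (hS : IsPGroup p ↥S) (hF : F.IsSaturated p) :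
    hypS p F ⊓ commutator ↥S ≤ ⁅hypS p F, (⊤ : Subgroup ↥S)⁆ := by
  classical
  obtain ⟨B, d, hst, hd, hc, -⟩ := exists_characteristic p hS hF
  set A := hypS p F with hA
  set N := ⁅A, (⊤ : Subgroup ↥S)⁆ with hN
  have hNA : N ≤ A := Subgroup.commutator_le_left A ⊤
  let π : ↥S →* ↥S ⧸ N := QuotientGroup.mk' N
  let σ : ↥S ⧸ N →* ↥S ⧸ A := QuotientGroup.map N A (MonoidHom.id _) (fun x hx => hNA hx)
  have hσπ : ∀ s, σ (π s) = QuotientGroup.mk s := fun s => rfl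
  have hker : ∀ z : ↥S ⧸ N, σ z = 1 → z ∈ Subgroup.center (↥S ⧸ N) := by
    intro z hz
    obtain ⟨a, rfl⟩ := QuotientGroup.mk_surjective z
    have ha : a ∈ A := (QuotientGroup.eq_one_iff a).mp hz
    refine Subgroup.mem_center_iff.mpr fun w => ?_
    obtain ⟨w, rfl⟩ := QuotientGroup.mk_surjective w
    refine QuotientGroup.eq.mpr ?_
    have := (Subgroup.commutator_mem_commutator (inv_mem ha) (Subgroup.mem_top w⁻¹) :
      ⁅a⁻¹, w⁻¹⁆ ∈ N)
    simpa [commutatorElement_def, mul_assoc, hN] using this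
  -- the twisted map to the quotient by the hyperfocal subgroup
  obtain ⟨κ', -, hκ'⟩ := exists_equivariant (X := B.X) (MonoidHom.id (↥S × ↥S)) (biAct (QuotientGroup.mk' A))
    (fun _ _ => True) (fun _ _ _ _ => trivial) (fun x => by
      obtain ⟨Q, ψ, hψ, he⟩ := B.twisted x
      obtain ⟨q, hq⟩ := exists_conj_mod_hyp p hS hF hψ
      refine ⟨q, trivial, fun g hg => ?_⟩
      obtain ⟨y, h1, h2⟩ : g ∈ graph S Q ψ := he ▸ hg
      show QuotientGroup.mk g.1 * q * (QuotientGroup.mk g.2)⁻¹ = q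
      have h3 := hq y (le_S hψ y.2) (apply_mem_S hψ y)
      rw [show (⟨ψ y, apply_mem_S hψ y⟩ : ↥S) = g.1 from Subtype.ext h1.symm,
        show (⟨(y : Ω), le_S hψ y.2⟩ : ↥S) = g.2 from Subtype.ext h2.symm] at h3
      rw [h3]
      simp [mul_assoc, hA])
  have hκ'm : ∀ (u v : ↥S) x, κ' (((u, v) : ↥S × ↥S) • x) = QuotientGroup.mk u * κ' x * (QuotientGroup.mk v)⁻¹ :=
    fun u v x => hκ' (u, v) x
  -- a lift
  obtain ⟨κ, hκπ, hκ⟩ := exists_equivariant (X := B.X) (MonoidHom.inl ↥S ↥S)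
    ((MulAction.toPermHom (↥S ⧸ N) (↥S ⧸ N)).comp π) (fun x y => σ y = κ' x)
    (fun s x y h => by
      show σ (π s * y) = κ' (((s, 1) : ↥S × ↥S) • x)
      rw [hκ'm, map_mul, h, hσπ]
      simp)
    (fun x => by
      obtain ⟨q, hq⟩ := QuotientGroup.mk_surjective (κ' x)
      refine ⟨π q, hq, fun s hs => ?_⟩
      obtain rfl := B.lfree s x hs
      simp)
  have hκl : ∀ (s : ↥S) x, κ (((s, 1) : ↥S × ↥S) • x) = π s * κ x := fun s x => hκ s x
  let Z := Subgroup.center (↥S ⧸ N)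
  letI : CommGroup ↥Z :=
    { (inferInstance : Group ↥Z) with
      mul_comm := fun a b => Subtype.ext (Subgroup.mem_center_iff.mp b.2 a) }
  have hδ : ∀ (q : ↥S) x, κ (((1, q) : ↥S × ↥S) • x) * π q * (κ x)⁻¹ ∈ Z := fun q x => hker _ (by
    rw [map_mul, map_mul, map_inv, hκπ, hκπ, hσπ, hκ'm]
    simp)
  let δ : ↥S → B.X → ↥Z := fun q x => ⟨_, hδ q x⟩
  have hδc : ∀ q x y, (lrel ↥S B.X).r x y → δ q x = δ q y := by
    rintro q x _ ⟨s, rfl⟩
    refine Subtype.ext ?_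
    show _ = κ (((1, q) : ↥S × ↥S) • ((s, 1) : ↥S × ↥S) • x) * π q * (κ (((s, 1) : ↥S × ↥S) • x))⁻¹
    rw [← mul_smul, show ((1, q) : ↥S × ↥S) * (s, 1) = (s, 1) * (1, q) from by ext <;> simp, mul_smul, hκl, hκl,
      show π s * κ (((1, q) : ↥S × ↥S) • x) * π q * (π s * κ x)⁻¹ =
        π s * (κ (((1, q) : ↥S × ↥S) • x) * π q * (κ x)⁻¹) * (π s)⁻¹ from by group,
      Subgroup.mem_center_iff.mp (hδ q x) (π s), mul_inv_cancel_right]
  haveI : Fintype (LOrb ↥S B.X) := Fintype.ofFinite _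
  have hcard : Fintype.card (LOrb ↥S B.X) = d := by rw [← Nat.card_eq_fintype_card]; exact B.card_lorb hc
  let h₀ : ↥S →* ↥Z := MonoidHom.mk' (fun q => ∏ o : LOrb ↥S B.X, δ q o.out) fun u v => by
    rw [← Equiv.prod_comp (lshift v) fun o : LOrb ↥S B.X => δ u o.out, ← Finset.prod_mul_distrib]
    refine Finset.prod_congr rfl fun o _ => ?_
    have h : (lrel ↥S B.X).r (lshift v o).out (((1, v) : ↥S × ↥S) • o.out) := by
      refine Quotient.exact ?_
      rw [Quotient.out_eq]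
      conv_lhs => rw [← Quotient.out_eq o]
      rfl
    rw [hδc u _ _ h]
    refine Subtype.ext ?_
    show κ (((1, u * v) : ↥S × ↥S) • o.out) * π (u * v) * (κ o.out)⁻¹ =
      κ (((1, u) : ↥S × ↥S) • ((1, v) : ↥S × ↥S) • o.out) * π u * (κ (((1, v) : ↥S × ↥S) • o.out))⁻¹ *
        (κ (((1, v) : ↥S × ↥S) • o.out) * π v * (κ o.out)⁻¹)
    rw [← mul_smul, show ((1, u) : ↥S × ↥S) * (1, v) = (1, u * v) from by ext <;> simp, map_mul]
    group
  have hAZ : ∀ a : ↥A, π a ∈ Z := fun a => hker _ ((QuotientGroup.eq_one_iff _).mpr a.2)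
  let j : ↥A →* ↥Z := (π.comp A.subtype).codRestrict Z hAZ
  let T : ↥A →* ↥Z := h₀.comp A.subtype * (j ^ d)⁻¹
  -- T as a product
  have hT : ∀ (a : ↥A) (o : B.X), σ (κ (((1, (a : ↥S)) : ↥S × ↥S) • o) * (κ o)⁻¹) = 1 := fun a o => by
    rw [map_mul, map_inv, hκπ, hκπ, hκ'm, (QuotientGroup.eq_one_iff _).mpr a.2]
    simp
  have hTa : ∀ a : ↥A, T a = ∏ o : LOrb ↥S B.X, (⟨_, hker _ (hT a o.out)⟩ : ↥Z) := by
    intro a
    show (∏ o : LOrb ↥S B.X, δ a o.out) * (j a ^ d)⁻¹ = _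
    rw [← hcard, ← Finset.card_univ, ← Finset.prod_const, ← Finset.prod_inv_distrib, ← Finset.prod_mul_distrib]
    refine Finset.prod_congr rfl fun o _ => Subtype.ext ?_
    show κ _ * π a * (κ o.out)⁻¹ * (π a)⁻¹ = κ _ * (κ o.out)⁻¹
    rw [mul_assoc (κ _) (π a), ← Subgroup.mem_center_iff.mp (hAZ a) (κ o.out)⁻¹, ← mul_assoc, mul_inv_cancel_right]
  -- invariance
  have hinv : ∀ (P : Subgroup Ω) (φ : ↥P →* Ω) (hφ : φ ∈ F.Hom P) (x : ↥P) (a b : ↥A),
      ((a : ↥S) : Ω) = x → ((b : ↥S) : Ω) = φ x → T b = T a := by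
    intro P φ hφ x a b ha hb
    obtain ⟨e, he⟩ := B.exists_twist hst hφ
    have hel : ∀ (s : ↥S) y, e (((s, 1) : ↥S × ↥S) • y) = ((s, 1) : ↥S × ↥S) • e y := by
      intro s y
      convert he s 1 y using 3 <;> first | rfl | exact Subtype.ext (map_one φ).symm
    have hea : ∀ y, e (((1, (a : ↥S)) : ↥S × ↥S) • y) = ((1, (b : ↥S)) : ↥S × ↥S) • e y := by
      intro y
      have h := he 1 x y
      rw [show (⟨φ x, apply_mem_S hφ x⟩ : ↥S) = (b : ↥S) from Subtype.ext hb.symm] at h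
      convert h using 4
      exact Subtype.ext ha
    let μ : B.X → ↥S ⧸ N := fun y => κ (e y) * (κ y)⁻¹
    have hμl : ∀ (s : ↥S) y, μ (((s, 1) : ↥S × ↥S) • y) = π s * μ y * (π s)⁻¹ := fun s y => by
      simp only [μ, hel, hκl]
      group
    have hμa : ∀ y, σ (μ (((1, (a : ↥S)) : ↥S × ↥S) • y)) = σ (μ y) := fun y => by
      simp only [μ, map_mul, map_inv, hκπ, hea, hκ'm, (QuotientGroup.eq_one_iff _).mpr a.2,
        (QuotientGroup.eq_one_iff _).mpr b.2]
      simp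
    have hμz : ∀ (v : ↥(Subgroup.zpowers (a : ↥S))) y,
        σ (μ (((1, (v : ↥S)) : ↥S × ↥S) • y)) = σ (μ y) := by
      rintro ⟨v, hv⟩
      have : ∀ v ∈ Subgroup.zpowers (a : ↥S), ∀ y, σ (μ (((1, v) : ↥S × ↥S) • y)) = σ (μ y) := by
        rw [Subgroup.zpowers_eq_closure]
        intro v hv
        induction hv using Subgroup.closure_induction with
        | mem w hw => rw [Set.mem_singleton_iff.mp hw]; exact hμa
        | one => intro y; rw [show ((1, 1) : ↥S × ↥S) = 1 from rfl, one_smul]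
        | mul v w _ _ hv hw =>
          intro y
          rw [show ((1, v * w) : ↥S × ↥S) = (1, v) * (1, w) from by ext <;> simp, mul_smul, hv, hw]
        | inv v _ hv =>
          intro y
          have := hv (((1, v⁻¹) : ↥S × ↥S) • y)
          rw [← mul_smul, show ((1, v) : ↥S × ↥S) * (1, v⁻¹) = 1 from by ext <;> simp, one_smul] at this
          exact this.symm
      exact this v hv
    obtain ⟨ν, hνπ, hν⟩ := exists_equivariant (X := B.X)
      ((MonoidHom.id ↥S).prodMap (Subgroup.zpowers (a : ↥S)).subtype)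
      ((MulAut.toPerm (↥S ⧸ N)).comp ((MulAut.conj).comp (π.comp (MonoidHom.fst _ _))))
      (fun y z => σ z = σ (μ y))
      (fun g y z h => by
        show σ (π g.1 * z * (π g.1)⁻¹) = σ (μ (((g.1, (g.2 : ↥S)) : ↥S × ↥S) • y))
        rw [show ((g.1, (g.2 : ↥S)) : ↥S × ↥S) = (g.1, 1) * (1, (g.2 : ↥S)) from by ext <;> simp, mul_smul, hμl,
          map_mul, map_mul, map_mul, map_mul, h, hμz])
      (fun y => ⟨μ y, rfl, fun g hg => by
        have h1 : κ' (((g.1, (g.2 : ↥S)) : ↥S × ↥S) • y) = κ' y := congrArg κ' hg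
        have h2 : (g.2 : ↥S) ∈ A := (Subgroup.zpowers_le.mpr a.2) g.2.2
        rw [hκ'm, (QuotientGroup.eq_one_iff _).mpr h2, inv_one, mul_one, mul_eq_right] at h1
        show π g.1 * μ y * (π g.1)⁻¹ = μ y
        rw [← Subgroup.mem_center_iff.mp (hker (π g.1) h1) (μ y), mul_inv_cancel_right]⟩)
    have hζ : ∀ y, σ (μ y * (ν y)⁻¹) = 1 := fun y => by rw [map_mul, map_inv, hνπ, mul_inv_cancel]
    let ζ : LOrb ↥S B.X → ↥Z := Quotient.lift (fun y => ⟨_, hker _ (hζ y)⟩) (by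
      rintro y _ ⟨s, rfl⟩
      refine Subtype.ext ?_
      show μ y * (ν y)⁻¹ = μ (((s, 1) : ↥S × ↥S) • y) * (ν (((s, 1) : ↥S × ↥S) • y))⁻¹
      have h1 : ν (((s, 1) : ↥S × ↥S) • y) = π s * ν y * (π s)⁻¹ := hν (s, 1) y
      rw [hμl, h1, show π s * μ y * (π s)⁻¹ * (π s * ν y * (π s)⁻¹)⁻¹ =
        π s * (μ y * (ν y)⁻¹) * (π s)⁻¹ from by group,
        Subgroup.mem_center_iff.mp (hker _ (hζ y)) (π s), mul_inv_cancel_right])
    let E : LOrb ↥S B.X ≃ LOrb ↥S B.X := Quotient.congr e fun y z =>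
      ⟨fun ⟨s, hs⟩ => ⟨s, by rw [← hel, hs]⟩, fun ⟨s, hs⟩ => ⟨s, e.injective (by rw [hel, hs])⟩⟩
    rw [hTa, hTa, ← E.prod_comp]
    have key : ∀ o : LOrb ↥S B.X, (⟨_, hker _ (hT b (E o).out)⟩ : ↥Z) =
        (⟨_, hker _ (hT a o.out)⟩ : ↥Z) * (ζ (lshift (a : ↥S) o) * (ζ o)⁻¹) := by
      intro o
      have h : (lrel ↥S B.X).r (E o).out (e o.out) := by
        refine Quotient.exact ?_
        rw [Quotient.out_eq]
        conv_lhs => rw [← Quotient.out_eq o]
        rfl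
      obtain ⟨s, hs⟩ := h
      refine Subtype.ext ?_
      conv_rhs => rw [← Quotient.out_eq o]
      show κ (((1, (b : ↥S)) : ↥S × ↥S) • (E o).out) * (κ (E o).out)⁻¹ =
        κ (((1, (a : ↥S)) : ↥S × ↥S) • (Quotient.mk _ o.out : LOrb ↥S B.X).out) *
          (κ (Quotient.mk _ o.out : LOrb ↥S B.X).out)⁻¹ *
          ((μ (((1, (a : ↥S)) : ↥S × ↥S) • o.out) * (ν (((1, (a : ↥S)) : ↥S × ↥S) • o.out))⁻¹) *
            (μ o.out * (ν o.out)⁻¹)⁻¹)
      rw [Quotient.out_eq]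
      have hνa : ν (((1, (a : ↥S)) : ↥S × ↥S) • o.out) = ν o.out := by
        have := hν (1, ⟨a, Subgroup.mem_zpowers _⟩) o.out
        refine this.trans ?_
        show π 1 * ν o.out * (π 1)⁻¹ = ν o.out
        simp
      have hb' : κ (((1, (b : ↥S)) : ↥S × ↥S) • e o.out) * (κ (e o.out))⁻¹ =
          κ (((1, (b : ↥S)) : ↥S × ↥S) • (E o).out) * (κ (E o).out)⁻¹ := by
        rw [← hs, ← mul_smul, show ((1, (b : ↥S)) : ↥S × ↥S) * (s, 1) = (s, 1) * (1, (b : ↥S)) from by ext <;> simp,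
          mul_smul, hκl, hκl, show π s * κ (((1, (b : ↥S)) : ↥S × ↥S) • (E o).out) * (π s * κ (E o).out)⁻¹ =
            π s * (κ (((1, (b : ↥S)) : ↥S × ↥S) • (E o).out) * (κ (E o).out)⁻¹) * (π s)⁻¹ from by group,
          Subgroup.mem_center_iff.mp (hker _ (hT b (E o).out)) (π s), mul_inv_cancel_right]
      have hc' := Subgroup.mem_center_iff.mp (hker _ (hT a o.out)) (μ (((1, (a : ↥S)) : ↥S × ↥S) • o.out))
      rw [← hb', ← hea, hνa]
      simp only [μ] at hc' ⊢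
      generalize κ (e (((1, (a : ↥S)) : ↥S × ↥S) • o.out)) = A₁ at hc' ⊢
      generalize κ (e o.out) = A₀
      generalize κ (((1, (a : ↥S)) : ↥S × ↥S) • o.out) = C₁ at hc' ⊢
      generalize κ o.out = C₀ at hc' ⊢
      generalize ν o.out = D
      calc A₁ * A₀⁻¹ = A₁ * C₁⁻¹ * (C₁ * C₀⁻¹) * (C₀ * A₀⁻¹) := by group
        _ = C₁ * C₀⁻¹ * (A₁ * C₁⁻¹) * (C₀ * A₀⁻¹) := by rw [hc']
        _ = _ := by group
    rw [Finset.prod_congr rfl fun o _ => key o, Finset.prod_mul_distrib, Finset.prod_mul_distrib,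
      Equiv.prod_comp (lshift (a : ↥S)) ζ, Finset.prod_inv_distrib, mul_inv_cancel, mul_one]
  -- T vanishes
  have hZp : IsPGroup p ↥Z := (hS.to_quotient N).to_subgroup _
  have hT1 : ∀ a : ↥A, T a = 1 := by
    suffices h : ∀ y ∈ F.hyperfocalSubgroup p, ∀ (a : ↥A), ((a : ↥S) : Ω) = y → T a = 1 from
      fun a => h _ (Subgroup.mem_subgroupOf.mp a.2) a rfl
    have hgen : ∀ (P : Subgroup Ω) (hP : P ≤ S) (α : ↥(F.autGroup P)), α ∈ pResidual p ↥(F.autGroup P) →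
        ∀ x : P, ∀ a : ↥A, ((a : ↥S) : Ω) = (x : Ω)⁻¹ * ((α : MulAut ↥P) x : P) → T a = 1 := by
      intro P hP α hα
      haveI := finite_of_le hP
      induction hα using Subgroup.closure_induction with
      | one =>
        intro x a ha
        rw [show a = 1 from Subtype.ext (Subtype.ext (ha.trans (by simp))), map_one]
      | mul α β hα hβ iα iβ =>
        intro x a ha
        let a₁ : ↥A := ⟨_, mem_hypS_of_aut hP hβ x⟩
        let a₂ : ↥A := ⟨_, mem_hypS_of_aut hP hα ((β : MulAut ↥P) x)⟩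
        rw [show a = a₁ * a₂ from Subtype.ext (Subtype.ext (ha.trans (by simp [a₁, a₂, mul_assoc]))), map_mul,
          iβ x a₁ rfl, iα _ a₂ rfl, one_mul]
      | inv α hα iα =>
        intro x a ha
        rw [← inv_inv (T a), ← map_inv, inv_eq_one]
        refine iα (((α⁻¹ : ↥(F.autGroup P)) : MulAut ↥P) x) a⁻¹ ?_
        show ((a : ↥S) : Ω)⁻¹ = _
        rw [ha]
        simp
      | mem α hcop =>
        have hα' : α ∈ pResidual p ↥(F.autGroup P) := Subgroup.subset_closure hcop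
        have hαF := (autGroup_carrier F hP _).mp α.2
        let a : ↥P → ↥A := fun x => ⟨_, mem_hypS_of_aut hP hα' x⟩
        have hmul : ∀ x y, T (a (x * y)) = T (a x) * T (a y) := by
          intro x y
          let a' : ↥A := ⟨(⟨(y : Ω), hP y.2⟩ : ↥S)⁻¹ * (a x : ↥S) * ⟨(y : Ω), hP y.2⟩,
            (hypS_normal p F).conj_mem' _ (a x).2 _⟩
          rw [show a (x * y) = a' * a y from Subtype.ext (Subtype.ext (by simp [a, a', mul_assoc])), map_mul]
          congr 1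
          refine hinv P (conjHom P (y : Ω)⁻¹) (F.conj_mem hP (inv_mem (hP y.2)))
            (x⁻¹ * (α : MulAut ↥P) x) (a x) a' rfl ?_
          simp [a', conjHom, a]
        have hfix : ∀ x, T (a ((α : MulAut ↥P) x)) = T (a x) := by
          intro x
          refine hinv P _ hαF (x⁻¹ * (α : MulAut ↥P) x) (a x) _ rfl ?_
          simp [a]
        have hpow : ∀ (i : ℕ) (x : P) (c : ↥A),
            ((c : ↥S) : Ω) = (x : Ω)⁻¹ * (((α ^ i : ↥(F.autGroup P)) : MulAut ↥P) x : P) → T c = T (a x) ^ i := by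
          intro i
          induction i with
          | zero =>
            intro x c hc
            rw [show c = 1 from Subtype.ext (Subtype.ext (hc.trans (by simp))), map_one, pow_zero]
          | succ i ih =>
            intro x c hc
            let c₁ : ↥A := ⟨_, mem_hypS_of_aut hP (pow_mem hα' i) ((α : MulAut ↥P) x)⟩
            rw [show c = a x * c₁ from Subtype.ext (Subtype.ext (hc.trans (by
              simp [a, c₁, pow_succ, mul_assoc]))), map_mul, ih _ c₁ rfl, hfix, pow_succ']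
        intro x c hc
        have h1 := hpow (orderOf α) x 1 (by rw [pow_orderOf_eq_one]; simp)
        rw [map_one] at h1
        have h2 : T (a x) = 1 := eq_one_of_pow_eq_one hZp
          ((Fact.out : p.Prime).coprime_iff_not_dvd.mp hcop.symm) h1.symm
        rw [show c = a x from Subtype.ext (Subtype.ext hc)]
        exact h2
    intro y hy
    induction hy using Subgroup.closure_induction with
    | mem y hy =>
      obtain ⟨P, α, x, hP, hα, rfl⟩ := hy
      exact hgen P hP α hα x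
    | one => intro a ha; rw [show a = 1 from Subtype.ext (Subtype.ext ha), map_one]
    | mul y z hy hz iy iz =>
      intro a ha
      let a₁ : ↥A := ⟨⟨y, hyp_le p F hy⟩, Subgroup.mem_subgroupOf.mpr hy⟩
      let a₂ : ↥A := ⟨⟨z, hyp_le p F hz⟩, Subgroup.mem_subgroupOf.mpr hz⟩
      rw [show a = a₁ * a₂ from Subtype.ext (Subtype.ext ha), map_mul, iy a₁ rfl, iz a₂ rfl, one_mul]
    | inv y hy iy =>
      intro a ha
      rw [← inv_inv (T a), ← map_inv, inv_eq_one]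
      refine iy a⁻¹ ?_
      show ((a : ↥S) : Ω)⁻¹ = y
      rw [ha, inv_inv]
  rintro s ⟨hsA, hsc⟩
  have h1 := hT1 ⟨s, hsA⟩
  have h2 : h₀ s = 1 := Abelianization.commutator_subset_ker h₀ hsc
  have h3 : T ⟨s, hsA⟩ = h₀ s * (j ⟨s, hsA⟩ ^ d)⁻¹ := rfl
  rw [h1, h2, one_mul, eq_comm, inv_eq_one] at h3
  have h4 := congrArg Subtype.val (eq_one_of_pow_eq_one hZp hd h3)
  exact (QuotientGroup.eq_one_iff s).mp h4

end CfsgLib.Biset
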