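import Cfsg.Agent.Lib.Fusion.Series
import Cfsg.Agent.Lib.Fusion.Control
import Cfsg.Agent.Lib.Fusion.Hyperfocal
import Cfsg.Agent.Lib.Fusion.IndexPrimeCentre
import Cfsg.Agent.Lib.Core
import Cfsg.Agent.Lib.MaximalClass

/-! Systems over two-groups whose centre has index four. -/

set_option autoImplicit false
set_option linter.unusedSectionVars false
set_option linter.style.haveILetI false

namespace CfsgLib.Fusion.CentreIndexSq

open Cfsg Cfsg.FusionSystem CfsgLib.Fusion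

universe u

variable {Ω : Type u} [Group Ω] {S : Subgroup Ω} [Finite ↥S] {F : FusionSystem S}

/-- The centre of `S`, in the ambient group. -/
def cen (S : Subgroup Ω) : Subgroup Ω := S ⊓ Subgroup.centralizer (S : Set Ω)

/-- `S` is nonabelian, its centre has index four, and `z` is its commutator. -/
structure Ctx (S : Subgroup Ω) (z : Ω) : Prop where
  zC : z ∈ cen S
  ne_one : z ≠ 1
  sq_one : z * z = 1
  comm : ∀ a ∈ S, ∀ b ∈ S, a * b * a⁻¹ * b⁻¹ = 1 ∨ a * b * a⁻¹ * b⁻¹ = z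
  sq_mem : ∀ a ∈ S, a * a ∈ cen S
  exh : ∀ a ∈ S, ∀ b ∈ S, a ∉ cen S → b ∉ cen S → a * b ∉ cen S →
    ∀ v ∈ S, v ∈ cen S ∨ v * a ∈ cen S ∨ v * b ∈ cen S ∨ v * (a * b) ∈ cen S

theorem commC {c v : Ω} (hc : c ∈ cen S) (hv : v ∈ S) : v * c = c * v :=
  Subgroup.mem_centralizer_iff.mp hc.2 v hv

theorem Ctx.noncomm {z : Ω} (h : Ctx S z) {a b : Ω} (ha : a ∈ S) (hb : b ∈ S) (ha' : a ∉ cen S) (hb' : b ∉ cen S)
    (hab : a * b ∉ cen S) : a * b * a⁻¹ = b * z := by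
  rcases h.comm a ha b hb with h1 | h1
  · exfalso
    have hab' : a * b = b * a := mul_inv_eq_iff_eq_mul.mp (mul_inv_eq_one.mp h1)
    refine ha' ⟨ha, Subgroup.mem_centralizer_iff.mpr fun v hv => ?_⟩
    let P : Subgroup Ω := Subgroup.centralizer ({a} : Set Ω)
    have hC : ∀ c ∈ cen S, c ∈ P := fun c hc => Subgroup.mem_centralizer_singleton_iff.mpr (commC hc ha).symm
    have haP : a ∈ P := Subgroup.mem_centralizer_singleton_iff.mpr rfl
    have hbP : b ∈ P := Subgroup.mem_centralizer_singleton_iff.mpr hab'.symm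
    have hvP : v ∈ P := by
      rcases h.exh a ha b hb ha' hb' hab v hv with h2 | h2 | h2 | h2
      · exact hC v h2
      · exact (P.mul_mem_cancel_right haP).mp (hC _ h2)
      · exact (P.mul_mem_cancel_right hbP).mp (hC _ h2)
      · exact (P.mul_mem_cancel_right (P.mul_mem haP hbP)).mp (hC _ h2)
    exact Subgroup.mem_centralizer_singleton_iff.mp hvP
  · rw [show a * b * a⁻¹ = a * b * a⁻¹ * b⁻¹ * b by group, h1, commC h.zC hb]

/-- A proper subgroup strictly above the centre. -/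
def Half (S R : Subgroup Ω) : Prop :=
  cen S ≤ R ∧ R ≤ S ∧ (∃ r ∈ R, r ∉ cen S) ∧ (∃ s ∈ S, s ∉ R)

/-- An abelian subgroup of index two whose automizer moves the commutator out of the centre. -/
def Good (F : FusionSystem S) (z : Ω) (R : Subgroup Ω) : Prop :=
  cen S ≤ R ∧ R ≤ S ∧ (∃ r ∈ R, r ∉ cen S) ∧ (∃ s ∈ S, s ∉ R) ∧
    ∃ g ∈ F.autGroup R, ∃ v : ↥R, (v : Ω) = z ∧ ((g v : ↥R) : Ω) ∉ cen S

theorem Good.half {z : Ω} {R : Subgroup Ω} (hR : Good F z R) : Half S R :=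
  ⟨hR.1, hR.2.1, hR.2.2.1, hR.2.2.2.1⟩

theorem Half.mul_mem {z : Ω} (h : Ctx S z) {R : Subgroup Ω} (hR : Half S R) {v w : Ω} (hv : v ∈ R) (hw : w ∈ R)
    (hv' : v ∉ cen S) (hw' : w ∉ cen S) : v * w ∈ cen S := by
  obtain ⟨hCR, hRS, -, ⟨s, hs, hsR⟩⟩ := hR
  have hs' : s ∉ cen S := fun hc => hsR (hCR hc)
  have hws : w * s ∉ cen S := fun hc => hsR ((R.mul_mem_cancel_left hw).mp (hCR hc))
  rcases h.exh w (hRS hw) s hs hw' hs' hws v (hRS hv) with h1 | h1 | h1 | h1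
  · exact absurd h1 hv'
  · exact h1
  · exact absurd ((R.mul_mem_cancel_left hv).mp (hCR h1)) hsR
  · exact absurd ((R.mul_mem_cancel_left hw).mp ((R.mul_mem_cancel_left hv).mp (hCR h1))) hsR

theorem Half.conj_eq {z : Ω} (h : Ctx S z) {R : Subgroup Ω} (hR : Half S R) {v s : Ω} (hv : v ∈ R)
    (hv' : v ∉ cen S) (hs : s ∈ S) (hsR : s ∉ R) : s * v * s⁻¹ = v * z :=
  h.noncomm hs (hR.2.1 hv) (fun hc => hsR (hR.1 hc)) hv'
    fun hc => hsR ((R.mul_mem_cancel_right hv).mp (hR.1 hc))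

theorem Half.abelian {z : Ω} (h : Ctx S z) {R : Subgroup Ω} (hR : Half S R) {v w : Ω} (hv : v ∈ R) (hw : w ∈ R) :
    v * w = w * v := by
  by_cases hv' : v ∈ cen S
  · exact (commC hv' (hR.2.1 hw)).symm
  by_cases hw' : w ∈ cen S
  · exact commC hw' (hR.2.1 hv)
  have h1 := commC (hR.mul_mem h hv hw hv' hw') (hR.2.1 hv)
  rw [mul_assoc v w v] at h1
  exact mul_left_cancel h1

theorem Half.normalizes {z : Ω} (h : Ctx S z) {R : Subgroup Ω} (hR : Half S R) :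
    S ≤ Subgroup.normalizer (R : Set Ω) := by
  have key : ∀ s ∈ S, ∀ r ∈ R, s * r * s⁻¹ ∈ R := fun s hs r hr => by
    rw [show s * r * s⁻¹ = s * r * s⁻¹ * r⁻¹ * r by group]
    refine R.mul_mem ?_ hr
    rcases h.comm s hs r (hR.2.1 hr) with h1 | h1
    · rw [h1]; exact R.one_mem
    · rw [h1]; exact hR.1 h.zC
  intro s hs
  refine Subgroup.mem_normalizer_iff.mpr fun r => ⟨key s hs r, fun hm => ?_⟩
  have h1 := key s⁻¹ (S.inv_mem hs) _ hm
  simpa [mul_assoc] using h1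

theorem Half.fullyNormalized {z : Ω} (h : Ctx S z) {R : Subgroup Ω} (hR : Half S R) : F.IsFullyNormalized R := by
  refine ⟨hR.2.1, fun Q _ => ?_⟩
  rw [show normalizerIn S R = S from inf_eq_left.mpr (hR.normalizes h)]
  exact Subgroup.card_le_of_le inf_le_left

/-- The elements of `R` every automorphism of which lands in the centre. -/
def kerC (F : FusionSystem S) (R : Subgroup Ω) : Subgroup Ω where
  carrier := {d | ∃ hd : d ∈ R, ∀ a ∈ F.autGroup R, ((a ⟨d, hd⟩ : ↥R) : Ω) ∈ cen S}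
  one_mem' := ⟨R.one_mem, fun a _ => by
    rw [show (⟨1, R.one_mem⟩ : ↥R) = 1 from rfl, map_one]; exact (cen S).one_mem⟩
  mul_mem' := by
    rintro a b ⟨ha, ha'⟩ ⟨hb, hb'⟩
    refine ⟨R.mul_mem ha hb, fun f hf => ?_⟩
    rw [show (⟨a * b, R.mul_mem ha hb⟩ : ↥R) = ⟨a, ha⟩ * ⟨b, hb⟩ from rfl, map_mul]
    exact (cen S).mul_mem (ha' f hf) (hb' f hf)
  inv_mem' := by
    rintro a ⟨ha, ha'⟩
    refine ⟨R.inv_mem ha, fun f hf => ?_⟩
    rw [show (⟨a⁻¹, R.inv_mem ha⟩ : ↥R) = ⟨a, ha⟩⁻¹ from rfl, map_inv]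
    exact (cen S).inv_mem (ha' f hf)

theorem kerC_le {R : Subgroup Ω} : kerC F R ≤ cen S := by
  rintro d ⟨hd, h⟩
  exact h 1 (one_mem _)

/-- The structure of the automizer of a good subgroup. -/
theorem local_structure (hS : IsPGroup 2 ↥S) (hF : F.IsSaturated 2) {z : Ω} (h : Ctx S z) {R : Subgroup Ω}
    (hR : Half S R) (hmove : F.IsRadical 2 R ∨ Good F z R) :
    ∃ x ∈ R, x ∉ cen S ∧ x * x = 1 ∧ z ∉ kerC F R ∧
      (∀ c ∈ cen S, c ∈ kerC F R ∨ c * z ∈ kerC F R) ∧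
      ∀ a ∈ F.autGroup R, ∃ β ∈ F.autGroup S, ∀ (v : Ω) (hv : v ∈ R) (hvS : v ∈ S),
        ((β ⟨v, hvS⟩ : ↥S) : Ω)⁻¹ * ((a ⟨v, hv⟩ : ↥R) : Ω) ∈ Subgroup.closure {z, x} ∧
        (v ∈ kerC F R → ((a ⟨v, hv⟩ : ↥R) : Ω) = ((β ⟨v, hvS⟩ : ↥S) : Ω)) := by
  classical
  haveI : Fact (Nat.Prime 2) := ⟨Nat.prime_two⟩
  have hRS := hR.2.1
  haveI := finite_of_le hRS
  haveI := finite_aut_of_le hRS
  set A := F.autGroup R with hA
  obtain ⟨-, T, hT⟩ := fullyNormalized_automized 2 hS hF (hR.fullyNormalized h)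
  obtain ⟨hCR, -, ⟨r, hr, hrC⟩, ⟨s, hs, hsR⟩⟩ := id hR
  let zR : ↥R := ⟨z, hCR h.zC⟩
  have hzR : (zR : Ω) = z := rfl
  have hSn := hR.normalizes h
  have hz2 : zR * zR = 1 := Subtype.ext (by rw [Subgroup.coe_mul, hzR]; exact h.sq_one)
  have hz1 : zR ≠ 1 := fun e => h.ne_one (hzR ▸ congrArg Subtype.val e)
  have htT : R.normalizerMonoidHom ⟨s, hSn hs⟩ ∈ autInducedBy S R := (mem_autInducedBy _).mpr ⟨s, hs, fun _ => rfl⟩
  let t : ↥A := ⟨_, autInducedBy_le_autGroup F hRS htT⟩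
  have htmem : t ∈ (T : Subgroup ↥A) := hT.ge htT
  have htC : ∀ c : ↥R, (c : Ω) ∈ cen S → (t : MulAut ↥R) c = c := fun c hc => Subtype.ext (by
    show s * (c : Ω) * s⁻¹ = c
    rw [commC hc hs, mul_inv_cancel_right])
  have htN : ∀ c : ↥R, (c : Ω) ∉ cen S → (t : MulAut ↥R) c = c * zR := fun c hc => Subtype.ext (by
    show s * (c : Ω) * s⁻¹ = _
    rw [hR.conj_eq h c.2 hc hs hsR, Subgroup.coe_mul, hzR])
  have hzC : (zR : Ω) ∈ cen S := hzR ▸ h.zC
  have hT2 : ∀ a ∈ (T : Subgroup ↥A), a = 1 ∨ a = t := by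
    intro a ha
    rw [hT] at ha
    obtain ⟨u, hu, hue⟩ := (mem_autInducedBy _).mp ha
    by_cases huR : u ∈ R
    · left
      refine Subtype.ext (MulEquiv.ext fun v => Subtype.ext ((hue v).trans ?_))
      rw [hR.abelian h huR v.2, mul_inv_cancel_right]
      rfl
    · right
      refine Subtype.ext (MulEquiv.ext fun v => Subtype.ext ((hue v).trans ?_))
      by_cases hv : (v : Ω) ∈ cen S
      · rw [htC v hv, commC hv hu, mul_inv_cancel_right]
      · rw [htN v hv, hR.conj_eq h v.2 hv hu huR, Subgroup.coe_mul, hzR]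
  have ht1 : t ≠ 1 := fun e => hz1 (by
    have h1 := htN ⟨r, hr⟩ hrC
    rw [e] at h1
    exact mul_eq_left.mp h1.symm)
  -- automorphisms fixing the centre
  have hfix : ∀ a : ↥A, (∀ c : ↥R, (c : Ω) ∈ cen S → (a : MulAut ↥R) c = c) → a ∈ (T : Subgroup ↥A) := by
    intro a ha
    let G₀ : Subgroup ↥A :=
      { carrier := {b | ∀ c : ↥R, (c : Ω) ∈ cen S → (b : MulAut ↥R) c = c}
        one_mem' := fun _ _ => rfl
        mul_mem' := fun {b b'} hb hb' c hc => by rw [Subgroup.coe_mul, MulAut.mul_apply, hb' c hc, hb c hc]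
        inv_mem' := fun {b} hb c hc => by
          show (b : MulAut ↥R)⁻¹ c = c
          conv_lhs => rw [← hb c hc, MulAut.inv_apply_self] }
    obtain ⟨n, hn⟩ := IsPGroup.iff_card.mp hS
    have hG₀ : IsPGroup 2 ↥G₀ := by
      rintro ⟨b, hb⟩
      refine ⟨n, Subtype.ext (Subtype.ext (MulEquiv.ext fun v => ?_))⟩
      have hd : ((v⁻¹ * (b : MulAut ↥R) v : ↥R) : Ω) ∈ cen S := by
        by_cases hv : (v : Ω) ∈ cen S
        · rw [hb v hv, inv_mul_cancel]; exact (cen S).one_mem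
        · refine hR.mul_mem h (R.inv_mem v.2) ((b : MulAut ↥R) v).2 (fun hm => hv ((inv_mem_iff).mp hm)) fun hm => hv ?_
          have h1 := hb _ hm
          rw [show v = (b : MulAut ↥R) v from ((b : MulAut ↥R).injective h1).symm]
          exact hm
      have hpow : ∀ k : ℕ, ((b : MulAut ↥R) ^ k) v = v * (v⁻¹ * (b : MulAut ↥R) v) ^ k := by
        intro k
        induction k with
        | zero => simp
        | succ k ih =>
          rw [pow_succ', MulAut.mul_apply, ih, map_mul, map_pow, hb _ hd,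
            show (b : MulAut ↥R) v = v * (v⁻¹ * (b : MulAut ↥R) v) by rw [mul_inv_cancel_left],
            inv_mul_cancel_left, mul_assoc, ← pow_succ']
      have hd1 : (v⁻¹ * (b : MulAut ↥R) v) ^ 2 ^ n = 1 := by
        have hdS : ((v⁻¹ * (b : MulAut ↥R) v : ↥R) : Ω) ∈ S := hRS (v⁻¹ * (b : MulAut ↥R) v).2
        refine Subtype.ext ?_
        rw [SubmonoidClass.coe_pow]
        exact congrArg Subtype.val (hn ▸ pow_card_eq_one' : (⟨_, hdS⟩ : ↥S) ^ 2 ^ n = 1)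
      simp only [SubmonoidClass.coe_pow, hpow, hd1, mul_one, OneMemClass.coe_one, MulAut.one_apply]
    have hle : (T : Subgroup ↥A) ≤ G₀ := fun b hb c hc => by
      rcases hT2 b hb with rfl | rfl
      · rfl
      · exact htC c hc
    rw [← T.3 hG₀ hle]
    exact ha
  have htt : t * t = 1 := by
    rcases hT2 _ (mul_mem htmem htmem) with h1 | h1
    · exact h1
    · exact absurd (mul_eq_left.mp h1) ht1
  have hgC : ∀ g : ↥A, g * t = t * g → ∀ c : ↥R, (c : Ω) ∈ cen S → (((g : MulAut ↥R) c : ↥R) : Ω) ∈ cen S := by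
    intro g hg c hc
    by_contra hn
    have h1 := DFunLike.congr_fun (congrArg Subtype.val hg) c
    simp only [Subgroup.coe_mul, MulAut.mul_apply, htC c hc, htN _ hn] at h1
    exact hz1 (mul_eq_left.mp h1.symm)
  have hgfix : ∀ g : ↥A, g * t = t * g → (g : MulAut ↥R) zR = zR := by
    intro g hg
    have hgr : (((g : MulAut ↥R) ⟨r, hr⟩ : ↥R) : Ω) ∉ cen S := by
      intro hm
      have hg' : g⁻¹ * t = t * g⁻¹ := ((show Commute g t from hg).inv_left).eq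
      have h1 := hgC g⁻¹ hg' _ hm
      rw [show ((g⁻¹ : ↥A) : MulAut ↥R) = (g : MulAut ↥R)⁻¹ from rfl, MulAut.inv_apply_self] at h1
      exact hrC h1
    have h1 := DFunLike.congr_fun (congrArg Subtype.val hg) ⟨r, hr⟩
    simp only [Subgroup.coe_mul, MulAut.mul_apply, htN ⟨r, hr⟩ hrC, htN _ hgr, map_mul] at h1
    exact mul_left_cancel h1
  -- a conjugate with direction in the centre is trivial
  have hkey : ∀ g : ↥A, (((g : MulAut ↥R) zR : ↥R) : Ω) ∈ cen S → g * t = t * g := by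
    intro g hg
    have hu : ∀ c : ↥R, (c : Ω) ∈ cen S → (((g * t * g⁻¹ : ↥A) : MulAut ↥R) c : Ω) ∈ cen S := by
      intro c hc
      simp only [Subgroup.coe_mul, MulAut.mul_apply, InvMemClass.coe_inv]
      by_cases hgc : (((g : MulAut ↥R)⁻¹ c : ↥R) : Ω) ∈ cen S
      · rw [htC _ hgc, MulAut.apply_inv_self]; exact hc
      · rw [htN _ hgc, map_mul, MulAut.apply_inv_self, Subgroup.coe_mul]
        exact (cen S).mul_mem hc hg
    set u := g * t * g⁻¹ with hudef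
    have huu : u * u = 1 := by
      rw [hudef, show g * t * g⁻¹ * (g * t * g⁻¹) = g * (t * t) * g⁻¹ by group, htt]; group
    have huinv : u⁻¹ = u := inv_eq_of_mul_eq_one_right huu
    have hconj : u * t * u⁻¹ = t := by
      have hmem : u * t * u⁻¹ ∈ (T : Subgroup ↥A) := hfix _ fun c hc => by
        rw [huinv]
        simp only [Subgroup.coe_mul, MulAut.mul_apply]
        rw [htC _ (hu c hc), ← MulAut.mul_apply, ← Subgroup.coe_mul, huu]
        rfl
      rcases hT2 _ hmem with h1 | h1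
      · exact absurd (conj_eq_one_iff.mp h1) ht1
      · exact h1
    have hut : u * t = t * u := mul_inv_eq_iff_eq_mul.mp hconj
    have hnorm : Subgroup.zpowers u ≤ Subgroup.normalizer ((T : Subgroup ↥A) : Set ↥A) := by
      refine Subgroup.zpowers_le.mpr (Subgroup.mem_normalizer_iff.mpr fun b => ?_)
      constructor
      · intro hb
        rcases hT2 b hb with rfl | rfl
        · simp
        · rw [hconj]; exact htmem
      · intro hb
        rcases hT2 _ hb with h1 | h1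
        · rw [conj_eq_one_iff.mp h1]; exact one_mem _
        · rw [show b = t from mul_left_cancel (mul_right_cancel (h1.trans hconj.symm))]; exact htmem
    have hup : IsPGroup 2 ↥(Subgroup.zpowers u) := fun ⟨b, hb⟩ => ⟨1, Subtype.ext (by
      obtain ⟨k, rfl⟩ := Subgroup.mem_zpowers_iff.mp hb
      rw [SubmonoidClass.coe_pow, pow_one, ← zpow_natCast, zpow_comm, zpow_natCast, pow_two, huu, one_zpow]
      rfl)⟩
    have huT : u ∈ (T : Subgroup ↥A) :=
      (T.3 (IsPGroup.to_sup_of_normal_left' T.2 hup hnorm) le_sup_left).le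
        (le_sup_right (a := (T : Subgroup ↥A)) (Subgroup.mem_zpowers u))
    rcases hT2 u huT with h1 | h1
    · exact absurd (conj_eq_one_iff.mp h1) ht1
    · exact mul_inv_eq_iff_eq_mul.mp h1
  obtain ⟨g₀, hg₀, hgz⟩ : ∃ g₀ ∈ A, ((g₀ zR : ↥R) : Ω) ∉ cen S := by
    rcases hmove with hrad | ⟨-, -, -, -, g₀, hg₀, v, hv, hgv⟩
    · by_contra hno
      push Not at hno
      have hTn : (T : Subgroup ↥A).Normal := ⟨fun b hb c => by
        have h1 : c * t = t * c := hkey c (hno _ c.2)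
        rcases hT2 b hb with rfl | rfl
        · simp
        · rw [h1, mul_inv_cancel_right]; exact htmem⟩
      have htI : (t : MulAut ↥R) ∈ Inn ↥R := hrad.2 ▸ ⟨t, CfsgLib.Core.le_pCore hTn T.2 htmem, rfl⟩
      obtain ⟨u, hu⟩ := (htI : (t : MulAut ↥R) ∈ MulAut.conj.range)
      refine ht1 (Subtype.ext ?_)
      rw [← hu]
      refine MulEquiv.ext fun w => Subtype.ext ?_
      show (u : Ω) * w * (u : Ω)⁻¹ = w
      rw [hR.abelian h u.2 w.2, mul_inv_cancel_right]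
    · exact ⟨g₀, hg₀, by rwa [show zR = v from Subtype.ext (hzR.trans hv.symm)]⟩
  set g : ↥A := ⟨g₀, hg₀⟩ with hgdef
  have hgzC : (((g : MulAut ↥R) zR : ↥R) : Ω) ∉ cen S := hgz
  set x : ↥R := (g : MulAut ↥R) zR with hxdef
  set u := g * t * g⁻¹ with hudef
  have hne : u ≠ t := fun e => hgzC (by
    rw [hxdef, hgfix g (mul_inv_eq_iff_eq_mul.mp e)]; exact hzC)
  have huu : u * u = 1 := by
    rw [hudef, show g * t * g⁻¹ * (g * t * g⁻¹) = g * (t * t) * g⁻¹ by group, htt]; group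
  have huinv : u⁻¹ = u := inv_eq_of_mul_eq_one_right huu
  have htinv : t⁻¹ = t := inv_eq_of_mul_eq_one_right htt
  have hsame : ∀ f f' : ↥A, ((((f⁻¹ * f' : ↥A) : MulAut ↥R) zR : ↥R) : Ω) ∈ cen S → f * t * f⁻¹ = f' * t * f'⁻¹ := by
    intro f f' hm
    have h1 := hkey _ hm
    calc f * t * f⁻¹ = f * (t * (f⁻¹ * f')) * f'⁻¹ := by group
      _ = f' * t * f'⁻¹ := by rw [← h1]; group
  -- there are only three conjugates
  have hthree : ∀ f : ↥A, f * t * f⁻¹ = t ∨ f * t * f⁻¹ = u ∨ f * t * f⁻¹ = t * u * t := by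
    intro f
    by_contra hno
    push Not at hno
    have hA1 : ∀ f' : ↥A, f * t * f⁻¹ ≠ f' * t * f'⁻¹ → (((f : MulAut ↥R)⁻¹ ((f' : MulAut ↥R) zR) : ↥R) : Ω) ∉ cen S :=
      fun f' hf' hm => hf' (hsame f f' hm)
    have h1 := hA1 g hno.2.1
    have h2 := hA1 (t * g) (by
      rw [mul_inv_rev, htinv, show t * g * t * (g⁻¹ * t) = t * (g * t * g⁻¹) * t by group]
      exact hno.2.2)
    have h3 : (((f : MulAut ↥R)⁻¹ zR : ↥R) : Ω) ∉ cen S := by
      have h' := hA1 1 (by simpa using hno.1)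
      simpa using h'
    apply h2
    rw [Subgroup.coe_mul, MulAut.mul_apply, htN _ hgzC, map_mul, Subgroup.coe_mul]
    exact hR.mul_mem h (Subtype.coe_prop _) (Subtype.coe_prop _) h1 h3
  have hthird : u * t * u⁻¹ = t * u * t := by
    rcases hthree u with h1 | h1 | h1
    · exfalso
      refine hgzC ?_
      rw [hxdef]
      have h2 : u * t = t * u := mul_inv_eq_iff_eq_mul.mp h1
      have h3 : (u : MulAut ↥R) zR = zR := hgfix u h2
      rw [hudef, Subgroup.coe_mul, Subgroup.coe_mul, MulAut.mul_apply, MulAut.mul_apply] at h3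
      by_contra hn
      by_cases hgi : ((((g⁻¹ : ↥A) : MulAut ↥R) zR : ↥R) : Ω) ∈ cen S
      · have h4 := hgfix g⁻¹ (hkey _ hgi)
        rw [InvMemClass.coe_inv, MulAut.inv_apply] at h4
        exact hn (by rw [show (g : MulAut ↥R) zR = zR from (MulEquiv.symm_apply_eq _).mp h4 |>.symm]; exact hzC)
      · rw [htN _ hgi, map_mul, InvMemClass.coe_inv, MulAut.apply_inv_self, mul_eq_left] at h3
        rw [h3] at hn
        exact hn (cen S).one_mem
    · exact absurd (mul_left_cancel (mul_inv_eq_iff_eq_mul.mp h1)).symm hne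
    · exact h1
  have hgi : ((((g⁻¹ : ↥A) : MulAut ↥R) zR : ↥R) : Ω) ∉ cen S := fun hm => by
    have h4 := hgfix g⁻¹ (hkey _ hm)
    rw [InvMemClass.coe_inv, MulAut.inv_apply] at h4
    exact hgzC (by rw [hxdef, show (g : MulAut ↥R) zR = zR from ((MulEquiv.symm_apply_eq _).mp h4).symm]; exact hzC)
  have huC : ∀ v : ↥R, ((((g⁻¹ : ↥A) : MulAut ↥R) v : ↥R) : Ω) ∈ cen S → (u : MulAut ↥R) v = v := fun v hv => by
    rw [hudef, Subgroup.coe_mul, Subgroup.coe_mul, MulAut.mul_apply, MulAut.mul_apply, htC _ hv, InvMemClass.coe_inv,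
      MulAut.apply_inv_self]
  have huN : ∀ v : ↥R, ((((g⁻¹ : ↥A) : MulAut ↥R) v : ↥R) : Ω) ∉ cen S → (u : MulAut ↥R) v = v * x := fun v hv => by
    rw [hudef, Subgroup.coe_mul, Subgroup.coe_mul, MulAut.mul_apply, MulAut.mul_apply, htN _ hv, map_mul,
      InvMemClass.coe_inv, MulAut.apply_inv_self]
  have hker : ∀ d : ↥R, (d : Ω) ∈ cen S → ((((g⁻¹ : ↥A) : MulAut ↥R) d : ↥R) : Ω) ∈ cen S → (d : Ω) ∈ kerC F R := by
    intro d hd hd'
    refine ⟨d.2, fun a ha => ?_⟩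
    set f : ↥A := ⟨a, ha⟩
    have hw : ((f⁻¹ * t * f : ↥A) : MulAut ↥R) d = d := by
      have h0 := hthree f⁻¹
      rw [inv_inv] at h0
      rcases h0 with h1 | h1 | h1 <;> rw [h1]
      · exact htC d hd
      · exact huC d hd'
      · rw [Subgroup.coe_mul, Subgroup.coe_mul, MulAut.mul_apply, MulAut.mul_apply, htC d hd, huC d hd', htC d hd]
    rw [Subgroup.coe_mul, Subgroup.coe_mul, MulAut.mul_apply, MulAut.mul_apply, InvMemClass.coe_inv,
      MulAut.inv_apply, MulEquiv.symm_apply_eq] at hw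
    by_contra hn
    rw [htN _ hn] at hw
    exact hz1 (mul_eq_left.mp hw)
  refine ⟨x, x.2, hgzC, ?_, ?_, fun c hc => ?_, fun a ha => ?_⟩
  · exact congrArg Subtype.val (by rw [hxdef, ← map_mul, hz2, map_one] : x * x = 1)
  · rintro ⟨hd, hd'⟩
    exact hgzC (hxdef ▸ (show (⟨z, hd⟩ : ↥R) = zR from Subtype.ext hzR.symm) ▸ hd' g₀ hg₀)
  · by_cases hci : ((((g⁻¹ : ↥A) : MulAut ↥R) ⟨c, hCR hc⟩ : ↥R) : Ω) ∈ cen S
    · exact Or.inl (hker ⟨c, hCR hc⟩ hc hci)
    · refine Or.inr ?_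
      have h1 := hker (⟨c, hCR hc⟩ * zR) (by rw [Subgroup.coe_mul]; exact (cen S).mul_mem hc hzC)
        (by rw [map_mul, Subgroup.coe_mul]; exact hR.mul_mem h (Subtype.coe_prop _) (Subtype.coe_prop _) hci hgi)
      rwa [Subgroup.coe_mul, hzR] at h1
  set f : ↥A := ⟨a, ha⟩
  have hz_mem : z ∈ Subgroup.closure ({z, (x : Ω)} : Set Ω) := Subgroup.subset_closure (Or.inl rfl)
  have hx_mem : (x : Ω) ∈ Subgroup.closure ({z, (x : Ω)} : Set Ω) := Subgroup.subset_closure (Or.inr rfl)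
  set V := Subgroup.closure ({z, (x : Ω)} : Set Ω)
  let B : Subgroup ↥A :=
    { carrier := {b | (∀ v : ↥R, (v : Ω)⁻¹ * ((b : MulAut ↥R) v : ↥R) ∈ V) ∧
        ∀ v : ↥R, (v : Ω) ∈ kerC F R → (b : MulAut ↥R) v = v}
      one_mem' := ⟨fun v => by simp, fun v _ => rfl⟩
      mul_mem' := fun {b b'} hb hb' => by
        refine ⟨fun v => ?_, fun v hv => ?_⟩
        · show (v : Ω)⁻¹ * (((b : MulAut ↥R) ((b' : MulAut ↥R) v) : ↥R) : Ω) ∈ V
          rw [show (v : Ω)⁻¹ * (((b : MulAut ↥R) ((b' : MulAut ↥R) v) : ↥R) : Ω) =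
            (v : Ω)⁻¹ * (((b' : MulAut ↥R) v : ↥R) : Ω) *
              ((((b' : MulAut ↥R) v : ↥R) : Ω)⁻¹ * (((b : MulAut ↥R) ((b' : MulAut ↥R) v) : ↥R) : Ω)) by group]
          exact V.mul_mem (hb'.1 v) (hb.1 _)
        · rw [Subgroup.coe_mul, MulAut.mul_apply, hb'.2 v hv, hb.2 v hv]
      inv_mem' := fun {b} hb => by
        refine ⟨fun v => ?_, fun v hv => ?_⟩
        · have h1 := hb.1 ((b : MulAut ↥R)⁻¹ v)
          rw [MulAut.apply_inv_self] at h1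
          have h2 := V.inv_mem h1
          rwa [mul_inv_rev, inv_inv] at h2
        · show (b : MulAut ↥R)⁻¹ v = v
          conv_lhs => rw [← hb.2 v hv, MulAut.inv_apply_self] }
  have htB : t ∈ B := by
    refine ⟨fun v => ?_, fun v hv => htC v (kerC_le hv)⟩
    by_cases hv : (v : Ω) ∈ cen S
    · rw [htC v hv, inv_mul_cancel]; exact V.one_mem
    · rw [htN v hv, Subgroup.coe_mul, inv_mul_cancel_left, hzR]; exact hz_mem
  have huB : u ∈ B := by
    refine ⟨fun v => ?_, fun v hv => ?_⟩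
    · by_cases hv : ((((g⁻¹ : ↥A) : MulAut ↥R) v : ↥R) : Ω) ∈ cen S
      · rw [huC v hv, inv_mul_cancel]; exact V.one_mem
      · rw [huN v hv, Subgroup.coe_mul, inv_mul_cancel_left]; exact hx_mem
    · obtain ⟨hd, hd'⟩ := hv
      exact huC v (hd' _ (g⁻¹).2)
  obtain ⟨w, hw, hwf⟩ : ∃ w ∈ B, f * t * f⁻¹ = w * t * w⁻¹ := by
    rcases hthree f with h1 | h1 | h1
    · exact ⟨1, one_mem _, by simpa using h1⟩
    · refine ⟨t * u, mul_mem htB huB, h1.trans ?_⟩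
      rw [show t * u * t * (t * u)⁻¹ = t * (u * t * u⁻¹) * t⁻¹ by group, hthird, htinv,
        show t * (t * u * t) * t = (t * t) * u * (t * t) by group, htt, one_mul, mul_one]
    · exact ⟨u, huB, h1.trans hthird.symm⟩
  set f' := w⁻¹ * f with hf'
  have hf't : f' * t = t * f' := by
    refine mul_inv_eq_iff_eq_mul.mp ?_
    rw [hf', show w⁻¹ * f * t * (w⁻¹ * f)⁻¹ = w⁻¹ * (f * t * f⁻¹) * w by group, hwf]
    group
  have hext : S ≤ extender S R (R.subtype.comp (f' : MulAut ↥R).toMonoidHom) := by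
    intro v hv
    obtain ⟨b, hb, hbe⟩ : ∃ b ∈ (T : Subgroup ↥A), (b : MulAut ↥R) = R.normalizerMonoidHom ⟨v, hSn hv⟩ := by
      have h1 : R.normalizerMonoidHom ⟨v, hSn hv⟩ ∈ autInducedBy S R := (mem_autInducedBy _).mpr ⟨v, hv, fun _ => rfl⟩
      exact ⟨⟨_, autInducedBy_le_autGroup F hRS h1⟩, hT.ge h1, rfl⟩
    have hcomm : f' * b = b * f' := by
      rcases hT2 b hb with rfl | rfl
      · simp
      · exact hf't
    refine mem_extender ⟨hv, hSn hv⟩ hv fun y hy => ?_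
    have h1 := DFunLike.congr_fun (congrArg Subtype.val hcomm) y
    clear_value f'
    rw [Subgroup.coe_mul, Subgroup.coe_mul, MulAut.mul_apply, MulAut.mul_apply, hbe] at h1
    exact congrArg Subtype.val h1
  obtain ⟨ψ, hψ, hψe⟩ := (fullyNormalized_receptive 2 hS hF (hR.fullyNormalized h)).2 R _
    ((autGroup_carrier F hRS _).mp f'.2) (by
      ext y
      exact ⟨fun ⟨v, hv⟩ => hv ▸ ((f' : MulAut ↥R) v).2, fun hy => ⟨(f' : MulAut ↥R)⁻¹ ⟨y, hy⟩, by
        show (((f' : MulAut ↥R) ((f' : MulAut ↥R)⁻¹ ⟨y, hy⟩) : ↥R) : Ω) = y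
        rw [MulAut.apply_inv_self]⟩⟩)
  let b : ↥S →* ↥S := (ψ.comp (Subgroup.inclusion hext)).codRestrict S fun v => apply_mem_S hψ _
  have hb : Function.Injective b := fun v v' e =>
    Subgroup.inclusion_injective hext (F.injective_of_mem hψ (congrArg Subtype.val e :))
  refine ⟨MulEquiv.ofBijective b ⟨hb, Finite.injective_iff_surjective.mp hb⟩,
    (autGroup_carrier F le_rfl _).mpr (restrict_mem_of_eq hψ hext fun v => rfl), fun v hv hvS => ?_⟩
  have hbv : ((b ⟨v, hvS⟩ : ↥S) : Ω) = (((f' : MulAut ↥R) ⟨v, hv⟩ : ↥R) : Ω) := hψe v hv (hext hvS)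
  have hav : (a ⟨v, hv⟩ : ↥R) = (w : MulAut ↥R) ((f' : MulAut ↥R) ⟨v, hv⟩) := by
    rw [← MulAut.mul_apply, ← Subgroup.coe_mul, hf', mul_inv_cancel_left]
  show (((b ⟨v, hvS⟩ : ↥S) : Ω))⁻¹ * _ ∈ _ ∧ (_ → _ = ((b ⟨v, hvS⟩ : ↥S) : Ω))
  rw [hbv, hav]
  refine ⟨hw.1 _, fun hk => congrArg Subtype.val (hw.2 _ ?_)⟩
  obtain ⟨hd, hd'⟩ := hk
  refine ⟨Subtype.coe_prop _, fun e he => ?_⟩
  have h1 := hd' (e * (f' : MulAut ↥R)) (mul_mem he f'.2)
  exact h1

theorem exists_conj_of_two (hS : IsPGroup 2 ↥S) (hF : F.IsSaturated 2)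
    (h : ∀ β ∈ F.autGroup S, ∃ k : ℕ, β ^ 2 ^ k = 1) {β : MulAut ↥S} (hβ : β ∈ F.autGroup S) :
    ∃ w ∈ S, ∀ v : ↥S, ((β v : ↥S) : Ω) = w * v * w⁻¹ := by
  haveI : Fact (Nat.Prime 2) := ⟨Nat.prime_two⟩
  obtain ⟨-, T, hT⟩ := fullyNormalized_automized 2 hS hF (fullyNormalized_S F)
  have hA : IsPGroup 2 ↥(F.autGroup S) := fun b => by
    obtain ⟨k, hk⟩ := h _ b.2
    exact ⟨k, Subtype.ext hk⟩
  have hm : (⟨β, hβ⟩ : ↥(F.autGroup S)) ∈ (T : Subgroup ↥(F.autGroup S)) := by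
    rw [← T.3 (hA.to_subgroup ⊤) le_top]; trivial
  rw [hT] at hm
  obtain ⟨w, hw, hwe⟩ := (mem_autInducedBy _).mp hm
  exact ⟨w, hw, hwe⟩

theorem autS_cen {β : MulAut ↥S} {v : ↥S} : ((β v : ↥S) : Ω) ∈ cen S ↔ (v : Ω) ∈ cen S := by
  have key : ∀ (β : MulAut ↥S) (v : ↥S), (v : Ω) ∈ cen S → ((β v : ↥S) : Ω) ∈ cen S := fun β v hv => by
    refine ⟨(β v).2, Subgroup.mem_centralizer_iff.mpr fun y hy => ?_⟩
    have h1 : v * β⁻¹ ⟨y, hy⟩ = β⁻¹ ⟨y, hy⟩ * v := Subtype.ext (commC hv (β⁻¹ ⟨y, hy⟩ : ↥S).2).symm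
    have h2 := congrArg (fun u => ((β u : ↥S) : Ω)) h1
    simp only [map_mul, MulAut.apply_inv_self] at h2
    exact h2.symm
  refine ⟨fun hv => ?_, key β v⟩
  have h1 := key β⁻¹ _ hv
  rwa [MulAut.inv_apply_self] at h1

theorem Ctx.fix_z {z : Ω} (h : Ctx S z) (β : MulAut ↥S) (zS : ↥S) (hz : (zS : Ω) = z) (a b : ↥S)
    (ha : (a : Ω) ∉ cen S) (hb : (b : Ω) ∉ cen S) (hab : (a : Ω) * b ∉ cen S) : β zS = zS := by
  have h0 : a * b * a⁻¹ = b * zS := Subtype.ext (by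
    simp only [Subgroup.coe_mul, InvMemClass.coe_inv, hz]; exact h.noncomm a.2 b.2 ha hb hab)
  have h1 : β a * β b * (β a)⁻¹ = β b * β zS := by rw [← map_inv, ← map_mul, ← map_mul, h0, map_mul]
  have h2 := h.noncomm (β a).2 (β b).2 (fun hc => ha (autS_cen.mp hc)) (fun hc => hb (autS_cen.mp hc)) fun hc =>
    hab (autS_cen.mp (show ((β (a * b) : ↥S) : Ω) ∈ cen S by rw [map_mul]; exact hc))
  have h3 : β a * β b * (β a)⁻¹ = β b * zS := Subtype.ext (by
    simp only [Subgroup.coe_mul, InvMemClass.coe_inv, hz]; exact h2)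
  exact mul_left_cancel (h1.symm.trans h3)

theorem Good.image {z : Ω} (h : Ctx S z) {R : Subgroup Ω} (hR : Good F z R) {β : MulAut ↥S} (hβ : β ∈ F.autGroup S) :
    ∃ R', Good F z R' ∧ (∀ v : ↥S, (v : Ω) ∈ R → ((β v : ↥S) : Ω) ∈ R') ∧
      ∀ v : ↥S, ((β v : ↥S) : Ω) ∈ kerC F R' → (v : Ω) ∈ kerC F R := by
  obtain ⟨hCR, hRS, ⟨r, hr, hrC⟩, ⟨s, hs, hsR⟩, g, hg, zR, hzR, hgz⟩ := id hR
  set φ : ↥R →* Ω := S.subtype.comp (β.toMonoidHom.comp (Subgroup.inclusion hRS))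
  have hφ : φ ∈ F.Hom R := restrict_mem ((autGroup_carrier F le_rfl β).mp hβ) hRS
  have hR'S : φ.range ≤ S := range_le_S hφ
  have hmem : ∀ v : ↥S, ((β v : ↥S) : Ω) ∈ φ.range ↔ (v : Ω) ∈ R := fun v => by
    refine ⟨fun ⟨u, hu⟩ => ?_, fun hv => ⟨⟨v, hv⟩, rfl⟩⟩
    rw [show v = ⟨u, hRS u.2⟩ from (β.injective (Subtype.ext hu)).symm]
    exact u.2
  let e : ↥R ≃* ↥φ.range := MonoidHom.ofInjective (F.injective_of_mem hφ)
  have hcongr : ∀ a ∈ F.autGroup R, MulAut.congr e a ∈ F.autGroup φ.range := fun a ha =>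
    congr_autGroup e hφ ha
  have hcong : ∀ (a : MulAut ↥R) (v : ↥R), MulAut.congr e a (e v) = e (a v) := fun a v => by
    show e (a (e.symm (e v))) = e (a v)
    rw [e.symm_apply_apply]
  refine ⟨φ.range, ⟨fun c hc => ?_, hR'S, ⟨_, ⟨⟨r, hr⟩, rfl⟩, fun hc => hrC (autS_cen.mp hc)⟩,
    ⟨_, (β ⟨s, hs⟩).2, fun hm => hsR ((hmem _).mp hm)⟩, _, hcongr g hg, e zR, ?_, ?_⟩,
    fun v hv => (hmem v).mpr hv, fun v hv => ?_⟩
  · obtain ⟨u, hu⟩ := β.surjective ⟨c, hc.1⟩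
    have h1 : ((β u : ↥S) : Ω) = c := congrArg Subtype.val hu
    exact h1 ▸ (hmem u).mpr (hCR (autS_cen.mp (h1.symm ▸ hc)))
  · show φ zR = z
    exact (congrArg Subtype.val (h.fix_z β ⟨_, hRS zR.2⟩ hzR ⟨r, hRS hr⟩ ⟨s, hs⟩ hrC (fun hc => hsR (hCR hc))
      fun hc => hsR ((R.mul_mem_cancel_left hr).mp (hCR hc)))).trans hzR
  · rw [hcong]
    exact fun hc => hgz (autS_cen.mp hc)
  · have hvR : (v : Ω) ∈ R := (hmem v).mp hv.1
    refine ⟨hvR, fun a ha => ?_⟩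
    obtain ⟨hd, hd'⟩ := hv
    have h1 := hd' _ (hcongr a ha)
    rw [show (⟨_, hd⟩ : ↥φ.range) = e ⟨v, hvR⟩ from rfl, hcong] at h1
    exact (autS_cen (v := ⟨_, hRS (a ⟨v, hvR⟩).2⟩)).mp h1

theorem half_of_centric {R : Subgroup Ω} (hR : F.IsFullyNormalized R) (hRc : F.IsCentric R) (hRS : R ≠ S) :
    Half S R := by
  refine ⟨fun c hc => hRc.2 R (IsConj.refl F hR.1)
    ⟨hc.1, Subgroup.mem_centralizer_iff.mpr fun y hy => commC hc (hR.1 hy)⟩, hR.1, ?_, ?_⟩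
  · by_contra hno
    push Not at hno
    exact hRS (le_antisymm hR.1 fun v hv => hRc.2 R (IsConj.refl F hR.1)
      ⟨hv, Subgroup.mem_centralizer_iff.mpr fun y hy => (commC (hno y hy) hv).symm⟩)
  · by_contra hno
    push Not at hno
    exact hRS (le_antisymm hR.1 hno)

theorem good_of_radical (hS : IsPGroup 2 ↥S) (hF : F.IsSaturated 2) {z : Ω} (h : Ctx S z) {R : Subgroup Ω}
    (hR : F.IsFullyNormalized R) (hRc : F.IsCentric R) (hRr : F.IsRadical 2 R) (hRS : R ≠ S) : Good F z R := by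
  have hH : Half S R := half_of_centric hR hRc hRS
  obtain ⟨-, -, -, -, hz, -⟩ := local_structure hS hF h hH (Or.inl hRr)
  refine ⟨hH.1, hH.2.1, hH.2.2.1, hH.2.2.2, ?_⟩
  by_contra hno
  push Not at hno
  exact hz ⟨hH.1 h.zC, fun a ha => hno a ha ⟨z, hH.1 h.zC⟩ rfl⟩

/-- Elements outside two good subgroups lie in the product class. -/
theorem cover {z : Ω} (h : Ctx S z) {R₁ R₂ : Subgroup Ω} (h1 : Half S R₁) (h2 : Half S R₂) {x₁ x₂ : Ω}
    (hx₁ : x₁ ∈ R₁) (hx₁' : x₁ ∉ cen S) (hx₂ : x₂ ∈ R₂) (hx₂' : x₂ ∉ cen S) (hne : x₂ ∉ R₁) :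
    ∀ v ∈ S, v ∈ R₁ ∨ v ∈ R₂ ∨ v * (x₁ * x₂) ∈ cen S := by
  intro v hv
  have hp : x₁ * x₂ ∉ cen S := fun hc => hne ((R₁.mul_mem_cancel_left hx₁).mp (h1.1 hc))
  rcases h.exh x₁ (h1.2.1 hx₁) x₂ (h2.2.1 hx₂) hx₁' hx₂' hp v hv with hc | hc | hc | hc
  · exact Or.inl (h1.1 hc)
  · exact Or.inl ((R₁.mul_mem_cancel_right hx₁).mp (h1.1 hc))
  · exact Or.inr (Or.inl ((R₂.mul_mem_cancel_right hx₂).mp (h2.1 hc)))
  · exact Or.inr (Or.inr hc)

theorem half_le_of_mem {z : Ω} (h : Ctx S z) {R₁ R₂ : Subgroup Ω} (h1 : Half S R₁) (h2 : Half S R₂) {x : Ω}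
    (hx : x ∉ cen S) (hx1 : x ∈ R₁) (hx2 : x ∈ R₂) : R₁ ≤ R₂ := fun v hv => by
  by_cases hc : v ∈ cen S
  · exact h2.1 hc
  · exact (R₂.mul_mem_cancel_right hx2).mp (h2.1 (h1.mul_mem h hv hx1 hc hx))

/-- The centre of the group is generated by the commutator when the core is trivial and the hyperfocal
subgroup is everything. -/
theorem centre_eq (hS : IsPGroup 2 ↥S) (hF : F.IsSaturated 2) {z : Ω} (h : Ctx S z) (hcore : F.core = ⊥)
    (hhyp : F.hyperfocalSubgroup 2 = S) :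
    (∀ c ∈ cen S, c = 1 ∨ c = z) ∧ ∃ x ∈ S, x ∉ cen S ∧ x * x = 1 := by
  classical
  haveI : Fact (Nat.Prime 2) := ⟨Nat.prime_two⟩
  have hbot : ∀ L : Subgroup Ω, F.IsNormal L → L = ⊥ := fun L hL =>
    le_bot_iff.mp (hcore ▸ le_sSup (s := {Q : Subgroup Ω | F.IsNormal Q}) hL)
  -- some good subgroup exists
  obtain ⟨R₁, hR₁⟩ : ∃ R, Good F z R := by
    by_contra hno
    push Not at hno
    have hSn : F.IsNormal S := isNormal_of_le_radical 2 hS hF
      ⟨le_rfl, fun Q _ φ hφ x => apply_mem_S hφ x⟩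
      fun R hR hRc hRr => by
        by_cases hRS : R = S
        · exact hRS.ge
        · exact absurd (good_of_radical hS hF h hR hRc hRr hRS) (hno R)
    exact h.ne_one (Subgroup.mem_bot.mp (hbot S hSn ▸ h.zC.1))
  obtain ⟨x₁, hx₁R, hx₁C, hx₁2, hz₁, hsplit₁, hfac₁⟩ := local_structure hS hF h hR₁.half (Or.inr hR₁)
  -- the common kernel is normal
  let L : Subgroup Ω := cen S ⊓ ⨅ (R : Subgroup Ω) (_ : Good F z R), kerC F R
  have hLmem : ∀ d : Ω, d ∈ L ↔ d ∈ cen S ∧ ∀ R, Good F z R → d ∈ kerC F R := fun d => by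
    simp only [L, Subgroup.mem_inf, Subgroup.mem_iInf]
  have hLβ : ∀ β ∈ F.autGroup S, ∀ v : ↥S, (v : Ω) ∈ L → ((β v : ↥S) : Ω) ∈ L := by
    intro β hβ v hv
    rw [hLmem] at hv ⊢
    refine ⟨autS_cen.mpr hv.1, fun R hR => ?_⟩
    obtain ⟨R', hR', -, hker⟩ := hR.image h (inv_mem hβ)
    -- pull back along the inverse
    have h1 := hv.2 R' hR'
    have h2 := hker (β v) (by rwa [MulAut.inv_apply_self])
    exact h2
  have hL : F.IsNormal L := by
    refine IndexPrimeCentre.normal_of_invariant hS hF inf_le_left fun R hR hRc hRr a ha v hv => ?_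
    by_cases hRS : R = S
    · subst hRS; exact hLβ a ha v hv
    · have hG := good_of_radical hS hF h hR hRc hRr hRS
      obtain ⟨x, -, -, -, -, -, hfac⟩ := local_structure hS hF h hG.half (Or.inr hG)
      obtain ⟨β, hβ, hβe⟩ := hfac a ha
      have hvS : (v : Ω) ∈ S := hR.1 v.2
      rw [show ((a v : ↥R) : Ω) = ((a ⟨v, v.2⟩ : ↥R) : Ω) from rfl,
        (hβe v v.2 hvS).2 (((hLmem _).mp hv).2 R hG)]
      exact hLβ β hβ ⟨v, hvS⟩ hv
  have hL1 := hbot L hL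
  refine ⟨?_, x₁, hR₁.2.1 hx₁R, hx₁C, hx₁2⟩
  by_cases hone : ∀ R, Good F z R → R = R₁
  · intro c hc
    have hk : ∀ d ∈ kerC F R₁, d = 1 := fun d hd => Subgroup.mem_bot.mp (hL1 ▸ (hLmem d).mpr
      ⟨kerC_le hd, fun R hR => by rw [hone R hR]; exact hd⟩)
    rcases hsplit₁ c hc with h1 | h1
    · exact Or.inl (hk _ h1)
    · exact Or.inr ((eq_inv_of_mul_eq_one_left (hk _ h1)).trans (inv_eq_of_mul_eq_one_right h.sq_one))
  push Not at hone
  obtain ⟨R₂, hR₂, hR₂ne⟩ := hone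
  obtain ⟨x₂, hx₂R, hx₂C, hx₂2, hz₂, hsplit₂, hfac₂⟩ := local_structure hS hF h hR₂.half (Or.inr hR₂)
  have hx21 : x₂ ∉ R₁ := fun hm => hR₂ne (le_antisymm (half_le_of_mem h hR₂.half hR₁.half hx₂C hx₂R hm)
    (half_le_of_mem h hR₁.half hR₂.half hx₂C hm hx₂R))
  have hx12 : x₁ * x₂ * x₁⁻¹ = x₂ * z :=
    h.noncomm (hR₁.2.1 hx₁R) (hR₂.2.1 hx₂R) hx₁C hx₂C
      fun hc => hx21 ((R₁.mul_mem_cancel_left hx₁R).mp (hR₁.1 hc))
  have hx1i : x₁⁻¹ = x₁ := inv_eq_of_mul_eq_one_right hx₁2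
  -- there is no third good subgroup
  have htwo : ∀ R, Good F z R → R = R₁ ∨ R = R₂ := by
    intro R hR
    obtain ⟨x₃, hx₃R, hx₃C, hx₃2, -⟩ := local_structure hS hF h hR.half (Or.inr hR)
    rcases cover h hR₁.half hR₂.half hx₁R hx₁C hx₂R hx₂C hx21 x₃ (hR.2.1 hx₃R) with hm | hm | hm
    · exact Or.inl (le_antisymm (half_le_of_mem h hR.half hR₁.half hx₃C hx₃R hm)
        (half_le_of_mem h hR₁.half hR.half hx₃C hm hx₃R))
    · exact Or.inr (le_antisymm (half_le_of_mem h hR.half hR₂.half hx₃C hx₃R hm)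
        (half_le_of_mem h hR₂.half hR.half hx₃C hm hx₃R))
    · exfalso
      set c := x₃ * (x₁ * x₂) with hc
      have hcz : c * c = z := by
        have hp : x₁ * x₂ * (x₁ * x₂) = z := by
          have e : x₁ * x₂ * x₁ = x₂ * z := by rw [← hx12, hx1i]
          rw [show x₁ * x₂ * (x₁ * x₂) = x₁ * x₂ * x₁ * x₂ by group, e, mul_assoc,
            ← commC h.zC (hR₂.2.1 hx₂R), ← mul_assoc, hx₂2, one_mul]
        calc c * c = x₃ * ((x₁ * x₂) * c) := by rw [hc]; group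
          _ = x₃ * c * (x₁ * x₂) := by
            rw [commC hm (S.mul_mem (hR₁.2.1 hx₁R) (hR₂.2.1 hx₂R))]; group
          _ = z := by rw [hc, ← mul_assoc x₃ x₃, hx₃2, one_mul, hp]
      rcases hsplit₁ c hm with h1 | h1
      · exact hz₁ (hcz ▸ mul_mem h1 h1)
      · refine hz₁ ?_
        have h2 := mul_mem h1 h1
        rwa [show c * z * (c * z) = c * (z * c) * z by group, commC hm h.zC.1,
          show c * (c * z) * z = c * c * (z * z) by group, hcz, h.sq_one, mul_one] at h2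
  -- the centre is small
  have hinter : ∀ d, d ∈ kerC F R₁ → d ∈ kerC F R₂ → d = 1 := fun d h1 h2 =>
    Subgroup.mem_bot.mp (hL1 ▸ (hLmem d).mpr ⟨kerC_le h1, fun R hR => by rcases htwo R hR with rfl | rfl <;> assumption⟩)
  have hk2 : ∀ d, d ∈ kerC F R₁ → d * d = 1 := fun d hd => by
    refine hinter _ (mul_mem hd hd) ?_
    rcases hsplit₂ d (kerC_le hd) with h1 | h1
    · exact mul_mem h1 h1
    · have h2 := mul_mem h1 h1
      rwa [show d * z * (d * z) = d * (z * d) * z by group, commC (kerC_le hd) h.zC.1,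
        show d * (d * z) * z = d * d * (z * z) by group, h.sq_one, mul_one] at h2
  have hkuniq : ∀ d e, d ∈ kerC F R₁ → e ∈ kerC F R₁ → d ≠ 1 → e ≠ 1 → d = e := fun d e hd he hd1 he1 => by
    have hdz : d * z ∈ kerC F R₂ := (hsplit₂ d (kerC_le hd)).resolve_left fun h1 => hd1 (hinter d hd h1)
    have hez : e * z ∈ kerC F R₂ := (hsplit₂ e (kerC_le he)).resolve_left fun h1 => he1 (hinter e he h1)
    have h2 := mul_mem hdz (inv_mem hez)
    rw [mul_inv_rev, ← mul_assoc, mul_assoc d z, mul_inv_cancel, mul_one] at h2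
    exact mul_inv_eq_one.mp (hinter _ (mul_mem hd (inv_mem he)) h2)
  have hc2 : ∀ c ∈ cen S, c * c = 1 := fun c hc => by
    rcases hsplit₁ c hc with h1 | h1
    · exact hk2 _ h1
    · have h2 := hk2 _ h1
      rwa [show c * z * (c * z) = c * (z * c) * z by group, commC hc h.zC.1,
        show c * (c * z) * z = c * c * (z * z) by group, h.sq_one, mul_one] at h2
  -- the automiser of `S` is inner
  have hAutS : ∀ β ∈ F.autGroup S, ∃ w ∈ S, ∀ v : ↥S, ((β v : ↥S) : Ω) = w * v * w⁻¹ := by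
    intro β₀ hβ₀
    refine exists_conj_of_two hS hF (fun β hβ => ⟨2, ?_⟩) hβ₀
    let zS : ↥S := ⟨z, h.zC.1⟩
    let y₁ : ↥S := ⟨x₁, hR₁.2.1 hx₁R⟩
    let y₂ : ↥S := ⟨x₂, hR₂.2.1 hx₂R⟩
    have hy : (y₁ : Ω) * y₂ ∉ cen S := fun hc => hx21 ((R₁.mul_mem_cancel_left hx₁R).mp (hR₁.1 hc))
    have hβz : β zS = zS := h.fix_z β zS rfl y₁ y₂ hx₁C hx₂C hy
    have hcen : ∀ v : ↥S, (v : Ω) ∈ cen S → β (β v) = v := by
      intro v hv
      by_cases hv1 : v = 1
      · rw [hv1, map_one, map_one]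
      by_cases hvz : v = zS
      · rw [hvz, hβz, hβz]
      -- the remaining two elements are exchanged or fixed
      have hcls : ∀ u u' : ↥S, (u : Ω) ∈ cen S → (u' : Ω) ∈ cen S → u ≠ 1 → u ≠ zS → u' ≠ 1 → u' ≠ zS →
          u' = u ∨ u' = u * zS := by
        intro u u' hu hu' hu1 huz hu1' huz'
        have key : ∀ w : ↥S, (w : Ω) ∈ cen S → w ≠ 1 → w ≠ zS → ∃ d, d ∈ kerC F R₁ ∧ d ≠ 1 ∧
            ((w : Ω) = d ∨ (w : Ω) = d * z) := fun w hw hw1 hwz => by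
          rcases hsplit₁ _ hw with h1 | h1
          · exact ⟨_, h1, fun e => hw1 (Subtype.ext e), Or.inl rfl⟩
          · refine ⟨_, h1, fun e => hwz (Subtype.ext ?_), Or.inr (by rw [mul_assoc, h.sq_one, mul_one])⟩
            exact (eq_inv_of_mul_eq_one_left e).trans (inv_eq_of_mul_eq_one_right h.sq_one)
        obtain ⟨d, hd, hd1, he⟩ := key u hu hu1 huz
        obtain ⟨d', hd', hd1', he'⟩ := key u' hu' hu1' huz'
        obtain rfl := hkuniq d d' hd hd' hd1 hd1'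
        rcases he with e | e <;> rcases he' with e' | e'
        · exact Or.inl (Subtype.ext (e'.trans e.symm))
        · exact Or.inr (Subtype.ext (by rw [Subgroup.coe_mul, e', e]))
        · exact Or.inr (Subtype.ext (by rw [Subgroup.coe_mul, e', e, mul_assoc]; exact (by rw [h.sq_one, mul_one])))
        · exact Or.inl (Subtype.ext (e'.trans e.symm))
      have hne1 : β v ≠ 1 := fun e => hv1 (β.injective (e.trans (map_one β).symm))
      have hnez : β v ≠ zS := fun e => hvz (β.injective (e.trans hβz.symm))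
      rcases hcls v (β v) hv (autS_cen.mpr hv) hv1 hvz hne1 hnez with e | e
      · rw [e, e]
      · rw [e, map_mul, e, hβz, mul_assoc, show zS * zS = 1 from Subtype.ext h.sq_one, mul_one]
    -- the two good subgroups are fixed by the square
    obtain ⟨R', hR', hβR', -⟩ := hR₁.image h hβ
    obtain ⟨R'', hR'', hβR'', -⟩ := hR₂.image h hβ
    have hmove : ∀ v : ↥S, ((v⁻¹ * β (β v) : ↥S) : Ω) ∈ cen S := by
      have hgen : ∀ (R : Subgroup Ω) (x : ↥S), Good F z R → (x : Ω) ∈ R → (x : Ω) ∉ cen S →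
          ((β (β x) : ↥S) : Ω) ∈ R → ((x⁻¹ * β (β x) : ↥S) : Ω) ∈ cen S := fun R x hR hx hxC hbx =>
        hR.half.mul_mem h (R.inv_mem hx) hbx (fun hm => hxC (inv_mem_iff.mp hm))
          fun hm => hxC (autS_cen.mp (autS_cen.mp hm))
      have hb12 : R' ≠ R'' := fun e => by
        subst e
        obtain ⟨c, hc⟩ : ∃ c, c = β y₁ := ⟨_, rfl⟩
        have h1 : ((β (y₁ * y₂) : ↥S) : Ω) ∈ cen S := by
          rw [map_mul, Subgroup.coe_mul]
          exact hR'.half.mul_mem h (hβR' y₁ hx₁R) (hβR'' y₂ hx₂R) (fun hm => hx₁C (autS_cen.mp hm))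
            fun hm => hx₂C (autS_cen.mp hm)
        exact hy (by simpa using autS_cen.mp h1)
      have hsq : ((β (β y₁) : ↥S) : Ω) ∈ R₁ ∧ ((β (β y₂) : ↥S) : Ω) ∈ R₂ := by
        rcases htwo R' hR' with e1 | e1 <;> rcases htwo R'' hR'' with e2 | e2
        · exact absurd (e1.trans e2.symm) hb12
        · exact ⟨e1 ▸ hβR' (β y₁) (e1 ▸ hβR' y₁ hx₁R), e2 ▸ hβR'' (β y₂) (e2 ▸ hβR'' y₂ hx₂R)⟩
        · exact ⟨e2 ▸ hβR'' (β y₁) (e1 ▸ hβR' y₁ hx₁R), e1 ▸ hβR' (β y₂) (e2 ▸ hβR'' y₂ hx₂R)⟩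
        · exact absurd (e1.trans e2.symm) hb12
      intro v
      let K : Subgroup ↥S :=
        { carrier := {v | ((v⁻¹ * β (β v) : ↥S) : Ω) ∈ cen S}
          one_mem' := by simp
          mul_mem' := fun {a b} ha hb => by
            show (((a * b)⁻¹ * β (β (a * b)) : ↥S) : Ω) ∈ cen S
            rw [show (a * b)⁻¹ * β (β (a * b)) = b⁻¹ * ((a⁻¹ * β (β a)) * β (β b)) by rw [map_mul, map_mul]; group,
              show (a⁻¹ * β (β a)) * β (β b) = β (β b) * (a⁻¹ * β (β a)) from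
                Subtype.ext (commC ha (β (β b)).2).symm, ← mul_assoc, Subgroup.coe_mul]
            exact (cen S).mul_mem hb ha
          inv_mem' := fun {a} ha => by
            show ((a⁻¹⁻¹ * β (β a⁻¹) : ↥S) : Ω) ∈ cen S
            rw [map_inv, map_inv, show a⁻¹⁻¹ * (β (β a))⁻¹ = a * (a⁻¹ * β (β a))⁻¹ * a⁻¹ by group]
            have hi : (a⁻¹ * β (β a))⁻¹ ∈ Subgroup.center ↥S := inv_mem (Subgroup.mem_center_iff.mpr fun w =>
              Subtype.ext (commC ha w.2))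
            rw [Subgroup.mem_center_iff.mp hi a, mul_inv_cancel_right, InvMemClass.coe_inv]
            exact (cen S).inv_mem ha }
      have hKC : ∀ w : ↥S, (w : Ω) ∈ cen S → w ∈ K := fun w hw => by
        show ((w⁻¹ * β (β w) : ↥S) : Ω) ∈ cen S
        rw [hcen w hw, inv_mul_cancel]; exact (cen S).one_mem
      have h1 : y₁ ∈ K := hgen R₁ y₁ hR₁ hx₁R hx₁C hsq.1
      have h2 : y₂ ∈ K := hgen R₂ y₂ hR₂ hx₂R hx₂C hsq.2
      show v ∈ K
      rcases h.exh x₁ (hR₁.2.1 hx₁R) x₂ (hR₂.2.1 hx₂R) hx₁C hx₂C hy v v.2 with hc | hc | hc | hc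
      · exact hKC v hc
      · exact (K.mul_mem_cancel_right h1).mp (hKC (v * y₁) hc)
      · exact (K.mul_mem_cancel_right h2).mp (hKC (v * y₂) hc)
      · exact (K.mul_mem_cancel_right (mul_mem h1 h2)).mp (hKC (v * (y₁ * y₂)) hc)
    refine MulEquiv.ext fun v => ?_
    have hd := hmove v
    have hd2 : (v⁻¹ * β (β v)) * (v⁻¹ * β (β v)) = 1 := Subtype.ext (hc2 _ hd)
    show (β ^ 4) v = v
    simp only [pow_succ, pow_zero, one_mul, MulAut.mul_apply]
    have e : β (β v) = v * (v⁻¹ * β (β v)) := (mul_inv_cancel_left _ _).symm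
    rw [e, map_mul β v, map_mul β (β v), hcen _ hd, e, inv_mul_cancel_left, mul_assoc, hd2, mul_one]
  -- everything moves inside the group generated by the involutions
  set D : Subgroup Ω := Subgroup.closure ({z, x₁} : Set Ω) ⊔ Subgroup.zpowers x₂ with hD
  have hzD : z ∈ D := le_sup_left (a := Subgroup.closure ({z, x₁} : Set Ω)) (Subgroup.subset_closure (Or.inl rfl))
  have hx₁D : x₁ ∈ D := le_sup_left (a := Subgroup.closure ({z, x₁} : Set Ω)) (Subgroup.subset_closure (Or.inr rfl))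
  have hx₂D : x₂ ∈ D := le_sup_right (a := Subgroup.closure ({z, x₁} : Set Ω)) (Subgroup.mem_zpowers x₂)
  have hconjD : ∀ s ∈ S, ∀ v ∈ S, v⁻¹ * (s * v * s⁻¹) ∈ D := by
    intro s hs v hv
    rw [show v⁻¹ * (s * v * s⁻¹) = v⁻¹ * (s * v * s⁻¹ * v⁻¹) * v by group]
    rcases h.comm s hs v hv with e | e
    · rw [e, mul_one, inv_mul_cancel]; exact D.one_mem
    · rw [e, mul_assoc, ← commC h.zC hv, inv_mul_cancel_left]; exact hzD
  have hSD : S ≤ D := by
    rw [← hhyp]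
    refine (CfsgLib.Biset.hyp_le_focal 2 F).trans ((Subgroup.closure_le _).mpr ?_)
    rintro _ ⟨P, φ, v, hφ, rfl⟩
    refine alperin_induction 2 hS hF (fun P φ => ∀ v : ↥P, (v : Ω)⁻¹ * φ v ∈ D) ?_ ?_ ?_ ?_ hφ v
    · intro P g hP hg v
      exact hconjD g hg v (hP v.2)
    · intro P Q φ ψ _ hMφ _ hMψ hh v
      have e : (v : Ω)⁻¹ * ψ ⟨φ v, hh v⟩ = (v : Ω)⁻¹ * φ v * ((φ v)⁻¹ * ψ ⟨φ v, hh v⟩) := by group
      show (v : Ω)⁻¹ * ψ ⟨φ v, hh v⟩ ∈ D
      rw [e]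
      exact D.mul_mem (hMφ v) (hMψ ⟨φ v, hh v⟩)
    · intro P φ hφ hMφ ψ hψ he w
      obtain ⟨_, u, rfl⟩ := w
      rw [he u]
      have := D.inv_mem (hMφ u)
      rwa [mul_inv_rev, inv_inv] at this
    · intro R hR hRc hRr a ha v
      show (v : Ω)⁻¹ * ((a v : ↥R) : Ω) ∈ D
      by_cases hRS : R = S
      · subst hRS
        obtain ⟨w, hw, hwe⟩ := hAutS a ha
        rw [hwe v]; exact hconjD w hw v v.2
      have hG := good_of_radical hS hF h hR hRc hRr hRS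
      have main : ∀ x ∈ D, (∀ a ∈ F.autGroup R, ∃ β ∈ F.autGroup S, ∀ (v : Ω) (hv : v ∈ R) (hvS : v ∈ S),
          ((β ⟨v, hvS⟩ : ↥S) : Ω)⁻¹ * ((a ⟨v, hv⟩ : ↥R) : Ω) ∈ Subgroup.closure {z, x} ∧
          (v ∈ kerC F R → ((a ⟨v, hv⟩ : ↥R) : Ω) = ((β ⟨v, hvS⟩ : ↥S) : Ω))) →
          (v : Ω)⁻¹ * ((a v : ↥R) : Ω) ∈ D := by
        intro x hx hfac
        obtain ⟨β, hβ, hβe⟩ := hfac a ha
        obtain ⟨w, hw, hwe⟩ := hAutS β hβ
        have h1 := (hβe v v.2 (hR.1 v.2)).1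
        have h2 : Subgroup.closure ({z, x} : Set Ω) ≤ D := (Subgroup.closure_le _).mpr (by
          rintro _ (rfl | rfl) <;> assumption)
        rw [hwe] at h1
        rw [show (v : Ω)⁻¹ * ((a v : ↥R) : Ω) =
          ((v : Ω)⁻¹ * (w * v * w⁻¹)) * ((w * v * w⁻¹)⁻¹ * ((a v : ↥R) : Ω)) by group]
        exact D.mul_mem (hconjD w hw v (hR.1 v.2)) (h2 h1)
      rcases htwo R hG with rfl | rfl
      · exact main x₁ hx₁D hfac₁
      · exact main x₂ hx₂D hfac₂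
  -- the central elements of `D`
  have hVR : Subgroup.closure ({z, x₁} : Set Ω) ≤ R₁ := (Subgroup.closure_le _).mpr (by
    rintro _ (rfl | rfl)
    exacts [hR₁.1 h.zC, hx₁R])
  have hVelem : ∀ u ∈ Subgroup.closure ({z, x₁} : Set Ω), u = 1 ∨ u = z ∨ u = x₁ ∨ u = x₁ * z := by
    intro u hu
    have hxz : x₁ * z = z * x₁ := commC h.zC (hR₁.2.1 hx₁R)
    have hxxz : ∀ w, x₁ * (x₁ * w) = w := fun w => by rw [← mul_assoc, hx₁2, one_mul]
    have hzzw : ∀ w, z * (z * w) = w := fun w => by rw [← mul_assoc, h.sq_one, one_mul]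
    have hzxw : ∀ w, z * (x₁ * w) = x₁ * (z * w) := fun w => by rw [← mul_assoc, ← hxz, mul_assoc]
    induction hu using Subgroup.closure_induction with
    | mem u hu => rcases hu with rfl | rfl <;> simp
    | one => simp
    | mul u v _ _ hu hv =>
      rcases hu with rfl | rfl | rfl | rfl <;> rcases hv with rfl | rfl | rfl | rfl <;>
        simp [mul_assoc, h.sq_one, hx₁2, ← hxz, hxxz, hzxw]
    | inv u _ hu =>
      have hzi := inv_eq_of_mul_eq_one_right h.sq_one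
      rcases hu with rfl | rfl | rfl | rfl <;> simp [hx1i, hzi, ← hxz, mul_inv_rev]
  have hnorm : Subgroup.zpowers x₂ ≤ Subgroup.normalizer (Subgroup.closure ({z, x₁} : Set Ω) : Set Ω) := by
    set V := Subgroup.closure ({z, x₁} : Set Ω)
    have hx2i : x₂⁻¹ = x₂ := inv_eq_of_mul_eq_one_right hx₂2
    have key : ∀ u ∈ V, x₂ * u * x₂⁻¹ ∈ V := by
      intro u hu
      rw [show x₂ * u * x₂⁻¹ = u * (u⁻¹ * (x₂ * u * x₂⁻¹)) by group]
      refine V.mul_mem hu ?_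
      have huS := hR₁.2.1 (hVR hu)
      have hx₂S := hR₂.2.1 hx₂R
      rw [show u⁻¹ * (x₂ * u * x₂⁻¹) = u⁻¹ * (x₂ * u * x₂⁻¹ * u⁻¹) * u by group]
      rcases h.comm x₂ hx₂S u huS with e | e
      · rw [e, mul_one, inv_mul_cancel]; exact V.one_mem
      · rw [e, mul_assoc, ← commC h.zC huS, inv_mul_cancel_left]; exact Subgroup.subset_closure (Or.inl rfl)
    refine Subgroup.zpowers_le.mpr (Subgroup.mem_normalizer_iff.mpr fun u => ⟨key u, fun hm => ?_⟩)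
    have h1 := key _ hm
    rwa [hx2i, show x₂ * (x₂ * u * x₂) * x₂ = (x₂ * x₂) * u * (x₂ * x₂) by group, hx₂2, one_mul, mul_one] at h1
  intro c hc
  have hcD : c ∈ (D : Set Ω) := hSD hc.1
  rw [hD, Subgroup.coe_mul_of_right_le_normalizer_left _ _ hnorm] at hcD
  obtain ⟨u, hu, y, hy, rfl⟩ := Set.mem_mul.mp hcD
  have hy2 : y = 1 ∨ y = x₂ := by
    obtain ⟨k, rfl⟩ := Subgroup.mem_zpowers_iff.mp hy
    rcases Int.even_or_odd k with ⟨m, rfl⟩ | ⟨m, rfl⟩
    · left; rw [← two_mul, zpow_mul, zpow_two, hx₂2, one_zpow]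
    · right; rw [zpow_add, zpow_mul, zpow_two, hx₂2, one_zpow, one_mul, zpow_one]
  rcases hy2 with rfl | rfl
  · rw [mul_one] at hc ⊢
    rcases hVelem u hu with rfl | rfl | rfl | rfl
    · exact Or.inl rfl
    · exact Or.inr rfl
    · exact absurd hc hx₁C
    · exact absurd (((cen S).mul_mem_cancel_right h.zC).mp hc) hx₁C
  · exact absurd ((R₁.mul_mem_cancel_left (hVR hu)).mp (hR₁.1 hc)) hx21

theorem ctx_of_index {a b : ↥S} (hab : a * b ≠ b * a) (hidx : (Subgroup.center ↥S).index ≤ 4)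
    (hsq : ∀ v : ↥S, v * v ∈ Subgroup.center ↥S) : Ctx S ((a : Ω) * b * (a : Ω)⁻¹ * (b : Ω)⁻¹) := by
  classical
  set Z := Subgroup.center ↥S with hZ
  have hcen : ∀ {v : ↥S}, v ∈ Z → ∀ w : ↥S, w * v = v * w := fun {v} hv => Subgroup.mem_center_iff.mp hv
  have hmem : ∀ v : ↥S, (v : Ω) ∈ cen S ↔ v ∈ Z := fun v => by
    rw [hZ, Subgroup.mem_center_iff]
    exact ⟨fun hv w => Subtype.ext (commC hv w.2), fun hv => ⟨v.2, Subgroup.mem_centralizer_iff.mpr
      fun w hw => congrArg Subtype.val (hv ⟨w, hw⟩)⟩⟩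
  have hexh : ∀ u w : ↥S, u ∉ Z → w ∉ Z → u * w ∉ Z → ∀ v : ↥S,
      v ∈ Z ∨ v * u ∈ Z ∨ v * w ∈ Z ∨ v * (u * w) ∈ Z := by
    intro u w hu hw huw v
    by_contra hno
    push Not at hno
    obtain ⟨hv, hvu, hvw, hvuw⟩ := hno
    -- five distinct classes
    have hd : ∀ x y : ↥S, (x : ↥S ⧸ Z) = y → x * y ∈ Z := fun x y e => by
      have h2 := mul_mem (hsq x) (QuotientGroup.eq.mp e)
      rwa [show x * x * (x⁻¹ * y) = x * y by group] at h2
    have h12 : u * (u * w) ∉ Z := fun hm => hw ((Z.mul_mem_cancel_left (hsq u)).mp (by rwa [mul_assoc]))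
    have h23 : w * (u * w) ∉ Z := fun hm => hu ((Z.mul_mem_cancel_right (hsq w)).mp (by
      rwa [show u * (w * w) = w⁻¹ * (w * (u * w)) * w by group, mul_assoc, ← hcen hm w, inv_mul_cancel_left]))
    let q : Fin 5 → ↥S ⧸ Z := fun i => ((![1, u, w, u * w, v] i : ↥S) : ↥S ⧸ Z)
    have hle : Nat.card (Fin 5) ≤ Nat.card (↥S ⧸ Z) := by
      refine Nat.card_le_card_of_injective q fun i j e => ?_
      have h0 := hd _ _ e
      have h0' := hd _ _ e.symm
      fin_cases i <;> fin_cases j <;> simp at h0 h0' <;> first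
        | rfl
        | contradiction
    rw [Nat.card_fin] at hle
    exact absurd (hle.trans hidx) (by decide)
  have hc : ∀ u v : ↥S, u * v * u⁻¹ * v⁻¹ ∈ Z := fun u v => by
    rw [show u * v * u⁻¹ * v⁻¹ = (u * u) * ((u⁻¹ * v) * (u⁻¹ * v)) * (v * v)⁻¹ by group]
    exact mul_mem (mul_mem (hsq u) (hsq _)) (inv_mem (hsq v))
  set c := a * b * a⁻¹ * b⁻¹ with hcdef
  have ha : a ∉ Z := fun hm => hab (hcen hm b).symm
  have hb : b ∉ Z := fun hm => hab (hcen hm a)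
  have hab' : a * b ∉ Z := fun hm => hab (mul_left_cancel ((hcen hm a).trans (mul_assoc a b a)))
  have hc1 : c ≠ 1 := fun e => hab (mul_inv_eq_iff_eq_mul.mp (mul_inv_eq_one.mp e))
  have hconj : a * b * a⁻¹ = c * b := by rw [hcdef]; group
  have hcc : c * c = 1 := by
    have h1 : a * a * b * (a * a)⁻¹ = b := by rw [← hcen (hsq a) b, mul_inv_cancel_right]
    have h2 : a * c * a⁻¹ = c := by rw [hcen (hc a b) a, mul_inv_cancel_right]
    have h3 : a * a * b * (a * a)⁻¹ = c * c * b := by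
      clear_value c
      rw [show a * a * b * (a * a)⁻¹ = a * (a * b * a⁻¹) * a⁻¹ by group, hconj,
        show a * (c * b) * a⁻¹ = a * c * a⁻¹ * (a * b * a⁻¹) by group, h2, hconj, mul_assoc]
    exact mul_eq_right.mp (h3.symm.trans h1)
  -- all commutators are powers of `c`
  let K : ↥S → Subgroup ↥S := fun u =>
    { carrier := {v | u * v * u⁻¹ * v⁻¹ ∈ Subgroup.zpowers c}
      one_mem' := by simp
      mul_mem' := fun {x y} hx hy => by
        show u * (x * y) * u⁻¹ * (x * y)⁻¹ ∈ Subgroup.zpowers c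
        rw [show u * (x * y) * u⁻¹ * (x * y)⁻¹ = (u * x * u⁻¹ * x⁻¹) * (x * (u * y * u⁻¹ * y⁻¹) * x⁻¹) by group,
          hcen (hc u y) x, mul_inv_cancel_right]
        exact mul_mem hx hy
      inv_mem' := fun {x} hx => by
        show u * x⁻¹ * u⁻¹ * x⁻¹⁻¹ ∈ Subgroup.zpowers c
        rw [show u * x⁻¹ * u⁻¹ * x⁻¹⁻¹ = x⁻¹ * (u * x * u⁻¹ * x⁻¹)⁻¹ * x by group,
          hcen (inv_mem (hc u x)) x⁻¹, inv_mul_cancel_right]
        exact inv_mem hx }
  have hKtop : ∀ u, a ∈ K u → b ∈ K u → ∀ v, v ∈ K u := by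
    intro u h1 h2 v
    have hZK : ∀ w ∈ Z, w ∈ K u := fun w hw => by
      show u * w * u⁻¹ * w⁻¹ ∈ Subgroup.zpowers c
      rw [hcen hw u, mul_inv_cancel_right, mul_inv_cancel]; exact one_mem _
    rcases hexh a b ha hb hab' v with h | h | h | h
    · exact hZK v h
    · exact ((K u).mul_mem_cancel_right h1).mp (hZK _ h)
    · exact ((K u).mul_mem_cancel_right h2).mp (hZK _ h)
    · exact ((K u).mul_mem_cancel_right (mul_mem h1 h2)).mp (hZK _ h)
  have hswap : ∀ u v, v ∈ K u → u ∈ K v := fun u v h => by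
    show v * u * v⁻¹ * u⁻¹ ∈ Subgroup.zpowers c
    rw [show v * u * v⁻¹ * u⁻¹ = (u * v * u⁻¹ * v⁻¹)⁻¹ by group]; exact inv_mem h
  have hself : ∀ u, u ∈ K u := fun u => by
    show u * u * u⁻¹ * u⁻¹ ∈ Subgroup.zpowers c
    simp
  have hKa : ∀ v, v ∈ K a := hKtop a (hself a) (Subgroup.mem_zpowers c)
  have hKb : ∀ v, v ∈ K b := hKtop b (hswap a b (hKa b)) (hself b)
  have hall : ∀ u v, u * v * u⁻¹ * v⁻¹ = 1 ∨ u * v * u⁻¹ * v⁻¹ = c := fun u v => by
    obtain ⟨k, hk⟩ := Subgroup.mem_zpowers_iff.mp (hKtop u (hswap a u (hKa u)) (hswap b u (hKb u)) v :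
      u * v * u⁻¹ * v⁻¹ ∈ Subgroup.zpowers c)
    rcases Int.even_or_odd k with ⟨m, rfl⟩ | ⟨m, rfl⟩
    · left; rw [← hk, ← two_mul, zpow_mul, zpow_two, hcc, one_zpow]
    · right; rw [← hk, zpow_add, zpow_mul, zpow_two, hcc, one_zpow, one_mul, zpow_one]
  refine ⟨(hmem c).mpr (hc a b), fun e => hc1 (Subtype.ext e), congrArg Subtype.val hcc, fun x hx y hy => ?_,
    fun x hx => (hmem (⟨x, hx⟩ * ⟨x, hx⟩)).mpr (hsq ⟨x, hx⟩), fun x hx y hy hx' hy' hxy v hv => ?_⟩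
  · exact (hall ⟨x, hx⟩ ⟨y, hy⟩).imp (congrArg Subtype.val) (congrArg Subtype.val)
  · rcases hexh ⟨x, hx⟩ ⟨y, hy⟩ (fun h => hx' ((hmem _).mpr h)) (fun h => hy' ((hmem _).mpr h))
      (fun h => hxy ((hmem (⟨x, hx⟩ * ⟨y, hy⟩)).mpr h)) ⟨v, hv⟩ with h | h | h | h
    · exact Or.inl ((hmem _).mpr h)
    · exact Or.inr (Or.inl ((hmem (⟨v, hv⟩ * ⟨x, hx⟩)).mpr h))
    · exact Or.inr (Or.inr (Or.inl ((hmem (⟨v, hv⟩ * ⟨y, hy⟩)).mpr h)))
    · exact Or.inr (Or.inr (Or.inr ((hmem (⟨v, hv⟩ * (⟨x, hx⟩ * ⟨y, hy⟩))).mpr h)))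

/-- The order and isomorphism type. -/
theorem dihedral_of_index (hS : IsPGroup 2 ↥S) (hF : F.IsSaturated 2) {z : Ω} (h : Ctx S z)
    (hcore : F.core = ⊥) (hhyp : F.hyperfocalSubgroup 2 = S) (hidx : (Subgroup.center ↥S).index = 4) :
    Nat.card ↥S = 2 ^ 3 ∧ Nonempty (↥S ≃* DihedralGroup 4) := by
  classical
  obtain ⟨hcs, x, hx, hxC, hx2⟩ := centre_eq hS hF h hcore hhyp
  have hmem : ∀ v : ↥S, (v : Ω) ∈ cen S ↔ v ∈ Subgroup.center ↥S := fun v => by
    rw [Subgroup.mem_center_iff]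
    exact ⟨fun hv w => Subtype.ext (commC hv w.2), fun hv => ⟨v.2, Subgroup.mem_centralizer_iff.mpr
      fun w hw => congrArg Subtype.val (hv ⟨w, hw⟩)⟩⟩
  let zS : ↥S := ⟨z, h.zC.1⟩
  have hz2 : zS * zS = 1 := Subtype.ext h.sq_one
  have hz1 : zS ≠ 1 := fun e => h.ne_one (congrArg Subtype.val e)
  have hZc : Nat.card ↥(Subgroup.center ↥S) = 2 := by
    rw [Nat.card_eq_two_iff]
    refine ⟨1, ⟨zS, (hmem zS).mp h.zC⟩, fun e => hz1 (congrArg Subtype.val e).symm, Set.eq_univ_iff_forall.mpr fun w => ?_⟩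
    rcases hcs _ ((hmem w).mpr w.2) with e | e
    · exact Or.inl (Subtype.ext (Subtype.ext e))
    · exact Or.inr (Subtype.ext (Subtype.ext e))
  have hcard : Nat.card ↥S = 2 ^ 3 := by
    rw [← (Subgroup.center ↥S).card_mul_index, hZc, hidx]; norm_num
  refine ⟨hcard, ?_⟩
  set xS : ↥S := ⟨x, hx⟩
  have hxS2 : xS * xS = 1 := Subtype.ext hx2
  have hnonab : ∃ a : ↥S, a * a ≠ 1 := by
    by_contra hno
    push Not at hno
    refine hxC ((hmem xS).mpr (Subgroup.mem_center_iff.mpr fun w => ?_))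
    have hinv : ∀ u : ↥S, u⁻¹ = u := fun u => inv_eq_of_mul_eq_one_right (hno u)
    rw [← hinv (w * xS), mul_inv_rev, hinv, hinv]
  obtain ⟨a, ha⟩ := hnonab
  have haC : (a : Ω) ∉ cen S := fun hc => ha (by
    rcases hcs _ hc with e | e
    · rw [show a = 1 from Subtype.ext e, mul_one]
    · rw [show a = zS from Subtype.ext e, hz2])
  have ha2 : a * a = zS := by
    rcases hcs _ (h.sq_mem a a.2) with e | e
    · exact absurd (Subtype.ext e) ha
    · exact Subtype.ext e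
  have ha4 : orderOf a = 4 := by
    have h1 : a ^ 4 = 1 := by rw [show (4 : ℕ) = 2 * 2 from rfl, pow_mul, pow_two a, ha2, pow_two, hz2]
    have := orderOf_eq_prime_pow (p := 2) (n := 1) (by simpa [pow_two] using ha) (by simpa using h1)
    simpa using this
  have hxa : xS ∉ Subgroup.zpowers a := by
    intro hm
    obtain ⟨k, hk⟩ := Subgroup.mem_zpowers_iff.mp hm
    rcases Int.even_or_odd k with ⟨m, rfl⟩ | ⟨m, rfl⟩
    · refine hxC ((hmem xS).mpr (hk ▸ ?_))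
      rw [← two_mul, zpow_mul, zpow_two, ha2]
      exact zpow_mem ((hmem zS).mp h.zC) m
    · have e : xS * xS = zS := by
        rw [← hk, ← zpow_add, show 2 * m + 1 + (2 * m + 1) = 2 * (2 * m + 1) by ring, zpow_mul, zpow_two, ha2,
          zpow_add, zpow_mul, zpow_two, hz2, one_zpow, one_mul, zpow_one]
      exact hz1 (e.symm.trans hxS2)
  have hxaC : x * (a : Ω) ∉ cen S := fun hc => hxa (by
    rcases hcs _ hc with e | e
    · rw [show xS = a⁻¹ from eq_inv_of_mul_eq_one_left (Subtype.ext e)]; exact inv_mem (Subgroup.mem_zpowers a)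
    · rw [show xS = zS * a⁻¹ from eq_mul_inv_of_mul_eq (Subtype.ext e), ← ha2]
      exact mul_mem (mul_mem (Subgroup.mem_zpowers a) (Subgroup.mem_zpowers a)) (inv_mem (Subgroup.mem_zpowers a)))
  have hinv : xS * a * xS⁻¹ = a⁻¹ := by
    refine eq_inv_of_mul_eq_one_left ?_
    rw [show xS * a * xS⁻¹ = a * zS from Subtype.ext (h.noncomm hx a.2 hxC haC hxaC), mul_assoc,
      show zS * a = a * zS from (Subgroup.mem_center_iff.mp ((hmem zS).mp h.zC) a).symm, ← mul_assoc, ha2, hz2]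
  exact CfsgLib.MaximalClass.dihedral_iso hxS2 ha4 (by rw [hcard]; norm_num) hxa hinv

end CfsgLib.Fusion.CentreIndexSq
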