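import Cfsg.Agent.Lib.Fusion.Dihedral

/-! Simplicity of a fusion system from a self-normalizing Sylow subgroup and a fusion chain. -/

set_option autoImplicit false

namespace CfsgLib.Fusion

open Cfsg Cfsg.FusionSystem

variable {G : Type*} [Group G] [Finite G] {p : ℕ} [Fact p.Prime]

/-- A `p`-subgroup equal to its normalizer is a Sylow subgroup. -/
theorem exists_sylow_eq_of_normalizer_eq {H : Subgroup G} (hp : IsPGroup p ↥H)
    (hN : Subgroup.normalizer (H : Set G) ≤ H) : ∃ P : Sylow p G, (P : Subgroup G) = H := by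
  obtain ⟨P, hP⟩ := hp.exists_le_sylow
  refine ⟨P, le_antisymm ?_ hP⟩
  by_contra hne
  haveI : Group.IsNilpotent ↥(P : Subgroup G) := IsPGroup.isNilpotent P.2
  have hH : H.subgroupOf (P : Subgroup G) < ⊤ :=
    lt_top_iff_ne_top.mpr fun h => hne (Subgroup.subgroupOf_eq_top.mp h)
  obtain ⟨s, hsN, hsR⟩ := SetLike.exists_of_lt (Group.normalizerCondition_of_isNilpotent _ hH)
  have key : ∀ t : ↥(P : Subgroup G), t ∈ Subgroup.normalizer (H.subgroupOf (P : Subgroup G) : Set ↥(P : Subgroup G)) →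
      ∀ x ∈ H, (t : G) * x * (t : G)⁻¹ ∈ H := fun t ht x hx =>
    (Subgroup.mem_normalizer_iff.mp ht ⟨x, hP hx⟩).mp hx
  refine hsR (hN (Subgroup.mem_normalizer_iff.mpr fun x => ⟨key s hsN x, fun hx => ?_⟩))
  simpa [mul_assoc] using key s⁻¹ (inv_mem hsN) _ hx

/-- A self-normalizing Sylow subgroup with a cyclic chain of fusion gives a simple fusion system.
The data may be given on any one Sylow subgroup `P`. -/
theorem isSimple_of_chain (S P : Sylow p G) (z : G)
    (hne : (P : Subgroup G) ≠ ⊥)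
    (hz : ∀ x ∈ (P : Subgroup G), (∀ y ∈ (P : Subgroup G), x * y = y * x) → x ≠ 1 → z ∈ Subgroup.zpowers x)
    (hN : Subgroup.normalizer ((P : Subgroup G) : Set G) ≤ (P : Subgroup G))
    (hgen : ∀ T : Subgroup G, T ≤ (P : Subgroup G) → z ∈ T →
      (∀ x ∈ T, ∀ g : G, g * x * g⁻¹ ∈ (P : Subgroup G) → g * x * g⁻¹ ∈ T) → (P : Subgroup G) ≤ T) :
    (groupFusionSystem (S : Subgroup G)).IsSimple p := by
  obtain ⟨c, hc⟩ := MulAction.exists_smul_eq G P S
  have hcj : (S : Subgroup G) = cj c (P : Subgroup G) := by rw [← hc]; rfl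
  have hS : (S : Subgroup G) ≠ ⊥ := fun h => hne (by
    have : Nat.card ↥(P : Subgroup G) = 1 := by
      rw [← card_cj c, ← hcj, h, Subgroup.card_bot]
    exact Subgroup.card_eq_one.mp this)
  have hNS : Subgroup.normalizer ((S : Subgroup G) : Set G) ≤ (S : Subgroup G) := by
    rw [hcj, ← cj_normalizer]
    exact Subgroup.map_mono hN
  refine isSimple_of_inn p (group_isSaturated S) hS ?_ ?_
  · rw [group_autGroup le_rfl]
    refine le_antisymm ?_ ?_
    · refine (Subgroup.closure_le _).mpr ?_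
      rintro α ⟨g, -, h⟩
      have hg : g ∈ Subgroup.normalizer ((S : Subgroup G) : Set G) := by
        rw [mem_normalizer_iff_cj]
        refine Subgroup.eq_of_le_of_card_ge ?_ (by rw [card_cj])
        rw [cj_le_iff]
        intro x hx
        rw [← h ⟨x, hx⟩]
        exact (α ⟨x, hx⟩).2
      exact ⟨⟨g, hNS hg⟩, MulEquiv.ext fun x => Subtype.ext (h x).symm⟩
    · rintro _ ⟨g, rfl⟩
      exact Subgroup.subset_closure ⟨g, trivial, fun x => rfl⟩
  · intro T hT
    by_cases h : T = ⊥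
    · exact Or.inl h
    right
    refine le_antisymm hT.1 ?_
    have hclosed : ∀ x ∈ T, ∀ g : G, g * x * g⁻¹ ∈ (S : Subgroup G) → g * x * g⁻¹ ∈ T := by
      intro x hx g hg
      have hle : Subgroup.zpowers x ≤ T := Subgroup.zpowers_le.mpr hx
      have hmem : conjHom (Subgroup.zpowers x) g ∈
          (groupFusionSystem (S : Subgroup G)).Hom (Subgroup.zpowers x) := by
        refine ⟨hle.trans hT.1, fun y => ?_, g, fun y => rfl⟩
        obtain ⟨k, hk⟩ := Subgroup.mem_zpowers_iff.mp y.2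
        show g * (y : G) * g⁻¹ ∈ (S : Subgroup G)
        rw [← hk, ← conj_zpow]
        exact zpow_mem hg k
      exact hT.2 _ hle _ hmem ⟨x, Subgroup.mem_zpowers x⟩
    set U := cj c⁻¹ T with hU
    have hUP : U ≤ (P : Subgroup G) := by
      rw [hU, cj_le_iff]
      intro x hx
      obtain ⟨y, hy, rfl⟩ := mem_cj.mp (hcj ▸ hT.1 hx : x ∈ cj c (P : Subgroup G))
      simpa [mul_assoc] using hy
    have hUclosed : ∀ x ∈ U, ∀ g : G, g * x * g⁻¹ ∈ (P : Subgroup G) → g * x * g⁻¹ ∈ U := by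
      intro x hx g hg
      obtain ⟨y, hy, rfl⟩ := mem_cj.mp hx
      have h1 : c * g * c⁻¹ * y * (c * g * c⁻¹)⁻¹ ∈ (S : Subgroup G) := by
        rw [hcj]
        exact mem_cj.mpr ⟨_, hg, by group⟩
      exact mem_cj.mpr ⟨_, hclosed y hy _ h1, by group⟩
    have hzU : z ∈ U := by
      set N : Subgroup ↥(P : Subgroup G) := U.subgroupOf (P : Subgroup G)
      have hN' : N.Normal := ⟨fun x hx s => hUclosed x hx s
        ((P : Subgroup G).mul_mem ((P : Subgroup G).mul_mem s.2 x.2) ((P : Subgroup G).inv_mem s.2))⟩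
      have hNne : N ≠ ⊥ := by
        intro hb
        apply h
        have hU0 : Nat.card ↥U = 1 := by
          have := Nat.card_congr (Subgroup.subgroupOfEquivOfLe hUP).toEquiv
          rw [← this]
          exact (Subgroup.card_eq_one).mpr hb
        exact Subgroup.card_eq_one.mp (by rw [← card_cj c⁻¹]; exact hU0)
      letI : MulAction ↥(P : Subgroup G) ↥N :=
        MulAction.compHom ↥N (MulAut.conjNormal : ↥(P : Subgroup G) →* MulAut ↥N)
      haveI : Nontrivial ↥N := (Subgroup.nontrivial_iff_ne_bot N).mpr hNne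
      obtain ⟨k, hk0, hk⟩ := (P.2.to_subgroup N).nontrivial_iff_card.mp inferInstance
      have h1 : (1 : ↥N) ∈ MulAction.fixedPoints ↥(P : Subgroup G) ↥N :=
        fun g => map_one (MulAut.conjNormal (H := N) g)
      obtain ⟨w, hw, hw1⟩ :=
        P.2.exists_fixed_point_of_prime_dvd_card_of_fixed_point ↥N (hk ▸ dvd_pow_self p hk0.ne') h1
      have hcomm : ∀ y ∈ (P : Subgroup G), ((w : ↥(P : Subgroup G)) : G) * y = y * ((w : ↥(P : Subgroup G)) : G) := by
        intro y hy
        have h2 : ((MulAut.conjNormal (⟨y, hy⟩ : ↥(P : Subgroup G)) w : ↥N) : ↥(P : Subgroup G)) = w :=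
          congrArg Subtype.val (hw ⟨y, hy⟩)
        rw [MulAut.conjNormal_apply] at h2
        exact (congrArg Subtype.val (mul_inv_eq_iff_eq_mul.mp h2)).symm
      have hne1 : ((w : ↥(P : Subgroup G)) : G) ≠ 1 := fun e => hw1 (Subtype.ext (Subtype.ext e.symm))
      exact (Subgroup.zpowers_le.mpr (show ((w : ↥(P : Subgroup G)) : G) ∈ U from w.2))
        (hz _ w.1.2 hcomm hne1)
    have hPU := hgen U hUP hzU hUclosed
    rw [hcj]
    intro x hx
    obtain ⟨y, hy, rfl⟩ := mem_cj.mp hx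
    obtain ⟨w, hw, hwe⟩ := mem_cj.mp (hPU hy)
    rwa [show c * y * c⁻¹ = w by rw [← hwe]; group]

end CfsgLib.Fusion
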