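import Cfsg.Agent.Lib.Fusion.Realized
import Cfsg.Agent.Lib.Fusion.Series
import Cfsg.Agent.Lib.Fusion.ConstrainedNormal
import Cfsg.Agent.Lib.Fusion.Essential

/-! Chains with cyclic steps, and saturated systems all of whose strongly closed chains are cyclic. (helper6) -/

set_option autoImplicit false
set_option linter.unusedSectionVars false
set_option linter.style.haveILetI false

namespace CfsgLib.Fusion.CyclicChain

open Cfsg Cfsg.FusionSystem CfsgLib.Fusion

universe u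

/-- An invariant chain with cyclic steps. -/
structure Inv {R : Type*} [Group R] (A : Subgroup (MulAut R)) (m : ℕ) (c : ℕ → Subgroup R) : Prop where
  bot : c 0 = ⊥
  top : c m = ⊤
  normal : ∀ i, (c i).Normal
  le : ∀ i < m, c i ≤ c (i + 1)
  cyc : ∀ i < m, ∃ x ∈ c (i + 1), c (i + 1) ≤ c i ⊔ Subgroup.zpowers x
  inv : ∀ a ∈ A, ∀ i, ∀ y ∈ c i, a y ∈ c i

section Chain

variable {R : Type*} [Group R] {A : Subgroup (MulAut R)} {m : ℕ} {c : ℕ → Subgroup R}

theorem factor_form (h : Inv A m c) {i : ℕ} (hi : i < m) {x : R} (hc : c (i + 1) ≤ c i ⊔ Subgroup.zpowers x)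
    {y : R} (hy : y ∈ c (i + 1)) :
    haveI := h.normal i
    ∃ k : ℤ, QuotientGroup.mk' (c i) y = QuotientGroup.mk' (c i) x ^ k := by
  haveI := h.normal i
  obtain ⟨u, hu, _, ⟨k, rfl⟩, rfl⟩ := Subgroup.mem_sup_of_normal_left.mp (hc hy)
  refine ⟨k, ?_⟩
  rw [map_mul, map_zpow, show QuotientGroup.mk' (c i) u = 1 from (QuotientGroup.eq_one_iff u).mpr hu, one_mul]

theorem act_eq (h : Inv A m c) {a : MulAut R} (ha : a ∈ A) (i : ℕ) {y z : R} :
    haveI := h.normal i
    QuotientGroup.mk' (c i) y = QuotientGroup.mk' (c i) z →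
      QuotientGroup.mk' (c i) (a y) = QuotientGroup.mk' (c i) (a z) := by
  intro e
  simp only [QuotientGroup.mk'_apply, QuotientGroup.eq] at e ⊢
  rw [← map_inv, ← map_mul]
  exact h.inv a ha i _ e

theorem act_zpow (h : Inv A m c) {a : MulAut R} (ha : a ∈ A) {i : ℕ} {x : R} {l : ℤ} :
    haveI := h.normal i
    QuotientGroup.mk' (c i) (a x) = QuotientGroup.mk' (c i) x ^ l → ∀ (y : R) (k : ℤ),
      QuotientGroup.mk' (c i) y = QuotientGroup.mk' (c i) x ^ k →
        QuotientGroup.mk' (c i) (a y) = QuotientGroup.mk' (c i) x ^ (l * k) := by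
  haveI := h.normal i
  intro hl y k hy
  rw [← map_zpow] at hy
  rw [act_eq h ha i hy, map_zpow, map_zpow, hl, ← zpow_mul]

variable [Finite R] {p : ℕ} [hp : Fact p.Prime]

/-- The stabilizer of the chain consists of `p`-elements. -/
theorem pow_of_stable (hR : IsPGroup p R) (h : Inv A m c) {a : MulAut R}
    (hs : ∀ i < m, ∀ y ∈ c (i + 1), y⁻¹ * a y ∈ c i) : ∃ N, a ^ p ^ N = 1 := by
  obtain ⟨K, hK⟩ := IsPGroup.iff_card.mp hR
  have key : ∀ i ≤ m, ∀ y ∈ c i, (a ^ p ^ (i * K)) y = y := by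
    intro i
    induction i with
    | zero =>
      intro _ y hy
      rw [h.bot, Subgroup.mem_bot] at hy
      rw [hy, map_one]
    | succ i ih =>
      intro hi y hy
      set b := a ^ p ^ (i * K) with hb
      have hfix := ih (by omega)
      have hd : y⁻¹ * b y ∈ c i := by
        have : ∀ n : ℕ, y⁻¹ * (a ^ n) y ∈ c i := by
          intro n
          induction n with
          | zero => simp
          | succ n ihn =>
            have hay : (a ^ n) y ∈ c (i + 1) := by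
              have := (c (i + 1)).mul_mem hy (h.le i (by omega) ihn)
              rwa [mul_inv_cancel_left] at this
            rw [pow_succ', MulAut.mul_apply,
              show y⁻¹ * a ((a ^ n) y) = y⁻¹ * (a ^ n) y * (((a ^ n) y)⁻¹ * a ((a ^ n) y)) by group]
            exact (c i).mul_mem ihn (hs i (by omega) _ hay)
        exact this _
      rw [Nat.succ_mul, pow_add, pow_mul, ← hb,
        CfsgLib.Fusion.iter_fix b (mul_inv_cancel_left y (b y)).symm (hfix _ hd),
        show (y⁻¹ * b y) ^ p ^ K = 1 by rw [← hK]; exact pow_card_eq_one', mul_one]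
  exact ⟨m * K, MulEquiv.ext fun y => key m le_rfl y (h.top.ge (Subgroup.mem_top y))⟩

/-- Commutators stabilize the chain. -/
theorem commutator_stable (h : Inv A m c) {a b : MulAut R} (ha : a ∈ A) (hb : b ∈ A) :
    ∀ i < m, ∀ y ∈ c (i + 1), y⁻¹ * (a * b * a⁻¹ * b⁻¹) y ∈ c i := by
  intro i hi y hy
  haveI := h.normal i
  obtain ⟨x, hx, hc⟩ := h.cyc i hi
  obtain ⟨k, hk⟩ := factor_form h hi hc (h.inv a ha _ _ hx)
  obtain ⟨l, hl⟩ := factor_form h hi hc (h.inv b hb _ _ hx)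
  set z := (a⁻¹ * b⁻¹) y with hz
  have hzm : z ∈ c (i + 1) := h.inv _ (A.mul_mem (A.inv_mem ha) (A.inv_mem hb)) _ _ hy
  obtain ⟨j, hj⟩ := factor_form h hi hc hzm
  have h1 : QuotientGroup.mk' (c i) ((a * b) z) = QuotientGroup.mk' (c i) ((b * a) z) := by
    rw [MulAut.mul_apply, MulAut.mul_apply, act_zpow h ha hk _ _ (act_zpow h hb hl _ _ hj),
      act_zpow h hb hl _ _ (act_zpow h ha hk _ _ hj)]
    congr 1
    ring
  have h2 : (b * a) z = y := by
    rw [hz, MulAut.mul_apply, MulAut.mul_apply, MulAut.apply_inv_self, MulAut.apply_inv_self]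
  have h3 : (a * b) z = (a * b * a⁻¹ * b⁻¹) y := by
    rw [hz, ← MulAut.mul_apply]; simp only [mul_assoc]
  rw [h2, h3] at h1
  exact QuotientGroup.eq.mp h1.symm

/-- `(p - 1)`-th powers stabilize the chain up to `p`-powers. -/
theorem pow_stable (hR : IsPGroup p R) (h : Inv A m c) {a : MulAut R} (ha : a ∈ A) :
    ∃ M, ∀ i < m, ∀ y ∈ c (i + 1), y⁻¹ * (a ^ ((p - 1) * p ^ M)) y ∈ c i := by
  obtain ⟨K, hK⟩ := IsPGroup.iff_card.mp hR
  refine ⟨K, fun i hi y hy => ?_⟩
  haveI := h.normal i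
  obtain ⟨x, hx, hc⟩ := h.cyc i hi
  set q := QuotientGroup.mk' (c i) x with hq
  obtain ⟨e, he⟩ : ∃ e, orderOf q = p ^ e := by
    obtain ⟨e, -, he⟩ := (Nat.dvd_prime_pow hp.out).mp ((orderOf_map_dvd (QuotientGroup.mk' (c i)) x).trans (hK ▸ orderOf_dvd_natCard x))
    exact ⟨e, he⟩
  rcases Nat.eq_zero_or_pos e with rfl | he0
  · rw [pow_zero, orderOf_eq_one_iff] at he
    obtain ⟨j, hj⟩ := factor_form h hi hc (h.inv _ (A.pow_mem ha ((p - 1) * p ^ K)) _ _ hy)
    obtain ⟨j', hj'⟩ := factor_form h hi hc hy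
    rw [← hq, he, one_zpow] at hj hj'
    exact QuotientGroup.eq.mp (hj'.trans hj.symm)
  have hle : e ≤ K := by
    have := (orderOf_map_dvd (QuotientGroup.mk' (c i)) x).trans (hK ▸ orderOf_dvd_natCard x)
    rw [← hq, he, Nat.pow_dvd_pow_iff_le_right hp.out.one_lt] at this
    exact this
  obtain ⟨k, hk⟩ := factor_form h hi hc (h.inv a ha _ _ hx)
  obtain ⟨k', hk'⟩ := factor_form h hi hc (h.inv _ (A.inv_mem ha) _ _ hx)
  have hinv : ((k' : ℤ) : ZMod (p ^ e)) * (k : ZMod (p ^ e)) = 1 := by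
    have h1 := act_zpow h (A.inv_mem ha) hk' (a x) k hk
    rw [MulAut.inv_apply_self] at h1
    have h2 : q ^ (k' * k - 1) = 1 := by rw [zpow_sub_one, ← h1, mul_inv_cancel]
    rw [← orderOf_dvd_iff_zpow_eq_one, he, ← ZMod.intCast_zmod_eq_zero_iff_dvd] at h2
    push_cast at h2
    exact sub_eq_zero.mp h2
  let u : (ZMod (p ^ e))ˣ := ⟨k, k', by rw [mul_comm]; exact hinv, hinv⟩
  have hu : u ^ ((p - 1) * p ^ K) = 1 := by
    refine orderOf_dvd_iff_pow_eq_one.mp ((orderOf_dvd_natCard u).trans ?_)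
    rw [Nat.card_eq_fintype_card, ZMod.card_units_eq_totient, Nat.totient_prime_pow hp.out he0, mul_comm]
    exact Nat.mul_dvd_mul_left _ (pow_dvd_pow p (by omega))
  have hiter : ∀ (n : ℕ) (j : ℤ) (z : R), QuotientGroup.mk' (c i) z = q ^ j →
      QuotientGroup.mk' (c i) ((a ^ n) z) = q ^ (k ^ n * j) := by
    intro n
    induction n with
    | zero => intro j z hz; simpa using hz
    | succ n ih =>
      intro j z hz
      rw [pow_succ', MulAut.mul_apply, act_zpow h ha hk _ _ (ih j z hz), pow_succ', mul_assoc]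
  obtain ⟨j, hj⟩ := factor_form h hi hc hy
  refine QuotientGroup.eq.mp ?_
  show QuotientGroup.mk' (c i) y = QuotientGroup.mk' (c i) ((a ^ _) y)
  rw [hiter _ j y hj, hj]
  refine (orderOf_dvd_sub_iff_zpow_eq_zpow).mp ?_
  rw [he, ← ZMod.intCast_zmod_eq_zero_iff_dvd]
  push_cast
  have hk1 : ((k : ℤ) : ZMod (p ^ e)) ^ ((p - 1) * p ^ K) = 1 := by
    have := congrArg Units.val hu
    simpa [u] using this
  rw [hk1, one_mul, sub_self]

theorem eq_one_of_coprime {G : Type*} [Group G] {H : Subgroup G} (hH : (Nat.card ↥H).Coprime p) {h : G} (hh : h ∈ H)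
    {N : ℕ} (hN : h ^ p ^ N = 1) : h = 1 := by
  have h1 : orderOf h ∣ Nat.card ↥H := by
    have := orderOf_dvd_natCard (⟨h, hh⟩ : ↥H)
    rwa [Subgroup.orderOf_mk] at this
  exact orderOf_eq_one_iff.mp (Nat.eq_one_of_dvd_coprimes (hH.pow_right N) h1 (orderOf_dvd_of_pow_eq_one hN))

/-- A `p'`-group preserving a cyclic chain is abelian of exponent dividing `p - 1`. -/
theorem abelian_exponent (hR : IsPGroup p R) (h : Inv A m c) {H : Subgroup (MulAut R)} (hHA : H ≤ A)
    (hH : (Nat.card ↥H).Coprime p) : IsMulCommutative ↥H ∧ ∀ x ∈ H, x ^ (p - 1) = 1 := by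
  refine ⟨⟨⟨fun a b => ?_⟩⟩, fun x hx => ?_⟩
  · obtain ⟨N, hN⟩ := pow_of_stable hR h (commutator_stable h (hHA a.2) (hHA b.2))
    have h1 := eq_one_of_coprime hH (H.mul_mem (H.mul_mem (H.mul_mem a.2 b.2) (H.inv_mem a.2)) (H.inv_mem b.2)) hN
    exact Subtype.ext (by
      rw [mul_inv_eq_one, mul_inv_eq_iff_eq_mul] at h1
      exact h1)
  · obtain ⟨M, hM⟩ := pow_stable hR h (hHA hx)
    obtain ⟨N, hN⟩ := pow_of_stable hR h hM
    rw [← pow_mul, mul_assoc, ← pow_add, pow_mul] at hN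
    exact eq_one_of_coprime hH (H.pow_mem hx _) hN

end Chain

variable {Ω : Type u} [Group Ω] {S : Subgroup Ω} [Finite ↥S] {p : ℕ} [Fact p.Prime]

/-- The chains of the statements, indexed by all natural numbers and cut down to `R`. -/
theorem inv_of_chain {F : FusionSystem S} {R : Subgroup Ω} (hR : R ≤ S) {m : ℕ} {c : Fin (m + 1) → Subgroup Ω}
    (h0 : c 0 = ⊥) (hl : c (Fin.last m) = S) (hsc : ∀ i, F.StronglyClosed (c i))
    (hst : ∀ i : Fin m, c i.castSucc ≤ c i.succ ∧ ∃ x ∈ S, c i.succ = c i.castSucc ⊔ Subgroup.zpowers x) :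
    ∃ d : ℕ → Subgroup ↥R, Inv (F.autGroup R) m d := by
  let C : ℕ → Subgroup Ω := fun i => c ⟨min i m, by omega⟩
  refine ⟨fun i => (C i).subgroupOf R, ?_, ?_, fun i => ?_, fun i hi => ?_, fun i hi => ?_, fun a ha i y hy => ?_⟩
  · show (c ⟨min 0 m, _⟩).subgroupOf R = ⊥
    rw [show (⟨min 0 m, by omega⟩ : Fin (m + 1)) = 0 from Fin.ext (Nat.zero_min m), h0, Subgroup.bot_subgroupOf]
  · show (c ⟨min m m, _⟩).subgroupOf R = ⊤
    rw [show (⟨min m m, by omega⟩ : Fin (m + 1)) = Fin.last m from Fin.ext (Nat.min_self m), hl,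
      Subgroup.subgroupOf_eq_top]
    exact hR
  · refine ⟨fun y hy g => Subgroup.mem_subgroupOf.mpr ?_⟩
    exact conj_mem_of_normalizer (StronglyClosed.normal (hsc _) (hR g.2)) hy
  · have e := (hst ⟨i, hi⟩).1
    intro y hy
    rw [Subgroup.mem_subgroupOf] at hy ⊢
    simp only [C, show min i m = i by omega, show min (i + 1) m = i + 1 by omega] at hy ⊢
    exact e hy
  · obtain ⟨x, -, hx⟩ := (hst ⟨i, hi⟩).2
    haveI hn : ((C i).subgroupOf R).Normal := ⟨fun y hy g => Subgroup.mem_subgroupOf.mpr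
      (conj_mem_of_normalizer (StronglyClosed.normal (hsc _) (hR g.2)) hy)⟩
    set D := (C (i + 1)).subgroupOf R with hD
    -- the quotient embeds in a cyclic group
    set q := QuotientGroup.mk' ((C i).subgroupOf R) with hq
    have hxS : x ∈ S := (hsc ⟨i + 1, by omega⟩).1 (by
      rw [show (⟨i + 1, _⟩ : Fin (m + 1)) = (⟨i, hi⟩ : Fin m).succ from rfl, hx]
      exact Subgroup.mem_sup_right (Subgroup.mem_zpowers x))
    haveI hCn : ((C i).subgroupOf S).Normal := ⟨fun y hy g => Subgroup.mem_subgroupOf.mpr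
      (conj_mem_of_normalizer (StronglyClosed.normal (hsc _) g.2) hy)⟩
    let θ : ↥R →* ↥S ⧸ (C i).subgroupOf S := (QuotientGroup.mk' _).comp (Subgroup.inclusion hR)
    let e : ↥R ⧸ (C i).subgroupOf R →* ↥S ⧸ (C i).subgroupOf S :=
      QuotientGroup.lift _ θ fun y hy => (QuotientGroup.eq_one_iff _).mpr hy
    have hei : Function.Injective e := by
      refine (MonoidHom.ker_eq_bot_iff e).mp (le_bot_iff.mp fun z hz => ?_)
      obtain ⟨y, rfl⟩ := QuotientGroup.mk'_surjective _ z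
      exact (QuotientGroup.eq_one_iff y).mpr ((QuotientGroup.eq_one_iff (Subgroup.inclusion hR y)).mp hz)
    have hle : (D.map q).map e ≤ Subgroup.zpowers (QuotientGroup.mk' ((C i).subgroupOf S) ⟨x, hxS⟩) := by
      rintro _ ⟨_, ⟨y, hy, rfl⟩, rfl⟩
      have h1 : (y : Ω) ∈ c (⟨i, hi⟩ : Fin m).castSucc ⊔ Subgroup.zpowers x := by
        rw [← hx]
        have h2 : (y : Ω) ∈ C (i + 1) := hy
        simp only [C, show min (i + 1) m = i + 1 by omega] at h2
        exact h2
      have hn' : (C i) ≤ S := (hsc _).1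
      have h3 : Subgroup.inclusion hR y ∈ (C i).subgroupOf S ⊔ Subgroup.zpowers (⟨x, hxS⟩ : ↥S) := by
        have h4 : ((C i).subgroupOf S ⊔ Subgroup.zpowers (⟨x, hxS⟩ : ↥S)).map S.subtype = C i ⊔ Subgroup.zpowers x := by
          rw [Subgroup.map_sup, Subgroup.map_subgroupOf_eq_of_le hn', MonoidHom.map_zpowers]
          rfl
        have h5 : (y : Ω) ∈ C i ⊔ Subgroup.zpowers x := by
          simp only [C, show min i m = i by omega]; exact h1
        rw [← h4] at h5
        obtain ⟨w, hw, hwe⟩ := h5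
        rwa [show Subgroup.inclusion hR y = w from Subtype.ext hwe.symm]
      obtain ⟨u, hu, _, ⟨k, rfl⟩, hue⟩ := Subgroup.mem_sup_of_normal_left.mp h3
      refine ⟨k, ?_⟩
      show _ = QuotientGroup.mk' _ (Subgroup.inclusion hR y)
      rw [← hue, map_mul, map_zpow]
      rw [show QuotientGroup.mk' ((C i).subgroupOf S) u = 1 from (QuotientGroup.eq_one_iff u).mpr hu, one_mul]
    haveI : IsCyclic ↥((D.map q).map e) := Subgroup.isCyclic_of_le hle
    haveI : IsCyclic ↥(D.map q) := (Subgroup.equivMapOfInjective (D.map q) e hei).isCyclic.mpr inferInstance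
    obtain ⟨g, hg⟩ := (Subgroup.isCyclic_iff_exists_zpowers_eq_top (D.map q)).mp inferInstance
    obtain ⟨y, hy, rfl⟩ : g ∈ D.map q := hg ▸ Subgroup.mem_zpowers g
    refine ⟨y, hy, fun z hz => ?_⟩
    obtain ⟨k, hk⟩ : q z ∈ Subgroup.zpowers (q y) := hg.ge ⟨z, hz, rfl⟩
    have h6 : (y ^ k)⁻¹ * z ∈ (C i).subgroupOf R := by
      refine QuotientGroup.eq.mp ?_
      show q (y ^ k) = q z
      rw [map_zpow]; exact hk
    have h7 := ((C i).subgroupOf R ⊔ Subgroup.zpowers y).mul_mem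
      (Subgroup.mem_sup_right (Subgroup.zpow_mem _ (Subgroup.mem_zpowers y) k)) (Subgroup.mem_sup_left h6)
    rwa [mul_inv_cancel_left] at h7
  · rw [Subgroup.mem_subgroupOf] at hy ⊢
    have hra : (R.subtype.comp a.toMonoidHom) ∈ F.Hom R := (autGroup_carrier F hR a).mp ha
    let R' := C i ⊓ R
    exact (hsc _).2 R' inf_le_left _ (restrict_mem hra inf_le_right) ⟨(y : Ω), hy, y.2⟩

/-- A supersoluble saturated system has `S` normal. -/
theorem isNormal_of_chain (hS : IsPGroup p ↥S) {F : FusionSystem S} (hF : F.IsSaturated p) {m : ℕ}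
    {c : Fin (m + 1) → Subgroup Ω} (h0 : c 0 = ⊥) (hl : c (Fin.last m) = S) (hsc : ∀ i, F.StronglyClosed (c i))
    (hst : ∀ i : Fin m, c i.castSucc ≤ c i.succ ∧ ∃ x ∈ S, c i.succ = c i.castSucc ⊔ Subgroup.zpowers x) :
    F.IsNormal S := by
  refine isNormal_of_le_radical p hS hF ⟨le_rfl, fun _ _ _ hφ x => apply_mem_S hφ x⟩ fun R hR hc hr => ?_
  have hRS := hR.1
  haveI := finite_of_le hRS
  haveI := finite_aut_of_le hRS
  obtain ⟨d, hd⟩ := inv_of_chain hRS h0 hl hsc hst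
  set A := F.autGroup R
  set T₀ := pCore p ↥A
  -- the derived group is a `p`-group
  have hder : IsPGroup p ↥(commutator ↥A) := by
    let St : Subgroup ↥A :=
      { carrier := {a | ∀ i < m, ∀ y ∈ d (i + 1), y⁻¹ * (a : MulAut ↥R) y ∈ d i}
        one_mem' := fun i _ y _ => by simp
        mul_mem' := fun {a b} ha hb i hi y hy => by
          have hby : (b : MulAut ↥R) y ∈ d (i + 1) := hd.inv _ b.2 _ _ hy
          rw [Subgroup.coe_mul, MulAut.mul_apply,
            show y⁻¹ * (a : MulAut ↥R) ((b : MulAut ↥R) y) =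
              y⁻¹ * (b : MulAut ↥R) y * (((b : MulAut ↥R) y)⁻¹ * (a : MulAut ↥R) ((b : MulAut ↥R) y)) by group]
          exact (d i).mul_mem (hb i hi y hy) (ha i hi _ hby)
        inv_mem' := fun {a} ha i hi y hy => by
          have hay : ((a⁻¹ : ↥A) : MulAut ↥R) y ∈ d (i + 1) := hd.inv _ (a⁻¹).2 _ _ hy
          have h1 := (d i).inv_mem (ha i hi _ hay)
          rwa [Subgroup.coe_inv, MulAut.apply_inv_self, mul_inv_rev, inv_inv] at h1 }
    have hSt : IsPGroup p ↥St := fun a => by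
      obtain ⟨N, hN⟩ := pow_of_stable (hS.to_le hRS) hd a.2
      exact ⟨N, Subtype.ext (Subtype.ext (by rw [SubmonoidClass.coe_pow, SubmonoidClass.coe_pow]; exact hN))⟩
    refine hSt.to_le ?_
    rw [commutator_eq_closure, Subgroup.closure_le]
    rintro _ ⟨a, b, rfl⟩
    intro i hi y hy
    rw [commutatorElement_def]
    exact commutator_stable hd a.2 b.2 i hi y hy
  obtain ⟨-, T, hT⟩ := fullyNormalized_automized p hS hF hR
  have hle : commutator ↥A ≤ (T : Subgroup ↥A) :=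
    (CfsgLib.Core.le_pCore inferInstance hder).trans (CfsgLib.Core.pCore_le_sylow T)
  have hTn : (T : Subgroup ↥A).Normal := by
    refine ⟨fun t ht g => ?_⟩
    have := (T : Subgroup ↥A).mul_mem (hle (Subgroup.commutator_mem_commutator (Subgroup.mem_top g) (Subgroup.mem_top t))) ht
    rwa [commutatorElement_def, inv_mul_cancel_right] at this
  rcases eq_or_lt_of_le hRS with rfl | hlt
  · exact le_rfl
  exfalso
  refine (lt_normalizerIn p hS hlt).not_ge fun s hs => ?_
  have h1 : R.normalizerMonoidHom ⟨s, hs.2⟩ ∈ autInducedBy S R := (mem_autInducedBy _).mpr ⟨s, hs.1, fun _ => rfl⟩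
  have h2 : R.normalizerMonoidHom ⟨s, hs.2⟩ ∈ Inn ↥R := by
    rw [← hr.2]
    exact ⟨⟨_, autInducedBy_le_autGroup (F := F) hRS h1⟩, CfsgLib.Core.le_pCore hTn T.2 (hT.ge h1), rfl⟩
  obtain ⟨u, hu⟩ := (h2 : _ ∈ MulAut.conj.range)
  have hcen : (u : Ω)⁻¹ * s ∈ centralizerIn S R := by
    refine ⟨S.mul_mem (S.inv_mem (hRS u.2)) hs.1, Subgroup.mem_centralizer_iff.mpr fun y hy => ?_⟩
    have h3 : (u : Ω) * y * (u : Ω)⁻¹ = s * y * s⁻¹ :=
      congrArg Subtype.val (DFunLike.congr_fun hu (⟨y, hy⟩ : ↥R))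
    calc y * ((u : Ω)⁻¹ * s) = (u : Ω)⁻¹ * ((u : Ω) * y * (u : Ω)⁻¹) * s := by group
      _ = (u : Ω)⁻¹ * s * y := by rw [h3]; group
  have := R.mul_mem u.2 (hc.2 R (IsConj.refl F hRS) hcen)
  rwa [mul_inv_cancel_left] at this

/-- A `p'`-group of automorphisms lives in some saturated system. -/
theorem exists_system (hS : IsPGroup p ↥S) (H : Subgroup (MulAut ↥S)) (hH : (Nat.card ↥H).Coprime p) :
    ∃ F : FusionSystem S, F.IsSaturated p ∧ H ≤ F.autGroup S := by
  haveI : Finite ↥H := Nat.finite_of_card_ne_zero fun h0 => by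
    rw [h0, Nat.coprime_zero_left] at hH; exact (Fact.out : p.Prime).ne_one hH
  haveI : Finite (↥S ⋊[H.subtype] ↥H) := Finite.of_equiv _ (SemidirectProduct.equivProd (φ := H.subtype)).symm
  let ι : ↥S →* (↥S ⋊[H.subtype] ↥H) := SemidirectProduct.inl
  have hι : Function.Injective ι := SemidirectProduct.inl_injective
  let F : FusionSystem S :=
    { Hom := fun P => {φ | ∃ (hP : P ≤ S) (hφ : ∀ x : P, φ x ∈ S) (g : (↥S ⋊[H.subtype] ↥H)),
        ∀ x : P, ι ⟨φ x, hφ x⟩ = g * ι ⟨x, hP x.2⟩ * g⁻¹}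
      le_of_mem := fun ⟨hP, hφ, _⟩ => ⟨hP, hφ⟩
      injective_of_mem := fun {P φ} ⟨hP, hφ, g, hg⟩ a b hab => by
        have h1 := (hg a).symm.trans ((congrArg ι (Subtype.ext hab : (⟨φ a, hφ a⟩ : ↥S) = ⟨φ b, hφ b⟩)).trans (hg b))
        exact Subtype.ext (congrArg Subtype.val (hι (mul_left_cancel (mul_right_cancel h1))) :)
      conj_mem := fun {P g} hP hg => ⟨hP, fun x => S.mul_mem (S.mul_mem hg (hP x.2)) (S.inv_mem hg), ι ⟨g, hg⟩,
        fun x => by rw [← map_inv, ← map_mul, ← map_mul]; rfl⟩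
      comp_mem := fun {P Q φ ψ} ⟨hP, hφ, g, hg⟩ ⟨hQ, hψ, k, hk⟩ h => ⟨hP, fun x => hψ _, k * g, fun x => by
        have h1 := hk ⟨φ x, h x⟩
        refine h1.trans ?_
        rw [show (⟨φ x, hQ (h x)⟩ : ↥S) = ⟨φ x, hφ x⟩ from rfl, hg]
        group⟩
      inv_mem := fun {P φ} ⟨hP, hφ, g, hg⟩ => by
        have hinjφ : Function.Injective φ := fun a b hab => by
          have h1 := (hg a).symm.trans ((congrArg ι (Subtype.ext hab : (⟨φ a, hφ a⟩ : ↥S) = ⟨φ b, hφ b⟩)).trans (hg b))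
          exact Subtype.ext (congrArg Subtype.val (hι (mul_left_cancel (mul_right_cancel h1))) :)
        let e := MonoidHom.ofInjective hinjφ
        refine ⟨P.subtype.comp e.symm.toMonoidHom, ⟨?_, fun y => hP (e.symm y).2, g⁻¹, fun y => ?_⟩, fun x => ?_⟩
        · rintro _ ⟨x, rfl⟩; exact hφ x
        · obtain ⟨x, hx⟩ : ∃ x, e x = y := ⟨e.symm y, e.apply_symm_apply y⟩
          subst hx
          simp only [MonoidHom.coe_comp, MulEquiv.coe_toMonoidHom, Function.comp_apply, MulEquiv.symm_apply_apply,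
            inv_inv]
          rw [show (⟨((e x : φ.range) : Ω), _⟩ : ↥S) = ⟨φ x, hφ x⟩ from Subtype.ext rfl, hg]
          show ι ⟨x, hP x.2⟩ = _
          group
        · show ((e.symm ⟨φ x, _⟩ : ↥P) : Ω) = x
          rw [show (⟨φ x, ⟨x, rfl⟩⟩ : φ.range) = e x from rfl, e.symm_apply_apply] }
  have hreal : F.IsRealizedBy ι := ⟨hι, fun P hP φ hφ =>
    ⟨fun ⟨_, _, g, hg⟩ => ⟨g, hg⟩, fun ⟨g, hg⟩ => ⟨hP, hφ, g, hg⟩⟩⟩
  obtain ⟨K, hK⟩ := IsPGroup.iff_card.mp hS
  have hcard : Nat.card ↥ι.range = p ^ (Nat.card (↥S ⋊[H.subtype] ↥H)).factorization p := by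
    rw [← Nat.card_congr (MonoidHom.ofInjective hι).toEquiv, Nat.card_congr (SemidirectProduct.equivProd (φ := H.subtype)),
      Nat.card_prod, hK, Nat.factorization_mul (pow_ne_zero _ (Fact.out : p.Prime).ne_zero) Nat.card_pos.ne',
      Finsupp.add_apply, Nat.factorization_pow, Finsupp.smul_apply, (Fact.out : p.Prime).factorization_self,
      Nat.factorization_eq_zero_of_not_dvd fun hd => (Fact.out : p.Prime).ne_one
        (Nat.eq_one_of_dvd_coprimes hH hd dvd_rfl)]
    simp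
  refine ⟨F, realized_saturated p hreal (Sylow.ofCard ι.range hcard) rfl, fun a ha => ?_⟩
  refine (autGroup_carrier F le_rfl a).mpr ⟨le_rfl, fun x => (a x).2, SemidirectProduct.inr ⟨a, ha⟩, fun x => ?_⟩
  rw [← map_inv]
  exact SemidirectProduct.inl_aut (φ := H.subtype) ⟨a, ha⟩ x

/-- All systems supersoluble: the two conditions. -/
theorem of_all_supersoluble (hS : IsPGroup p ↥S)
    (h : ∀ F : FusionSystem S, F.IsSaturated p → (∃ (m : ℕ) (c : Fin (m + 1) → Subgroup Ω), c 0 = ⊥ ∧ c (Fin.last m) = S ∧ (∀ i : Fin (m + 1), F.StronglyClosed (c i)) ∧ ∀ i : Fin m, c i.castSucc ≤ c i.succ ∧ ∃ x ∈ S, c i.succ = c i.castSucc ⊔ Subgroup.zpowers x)) :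
    (∀ F : FusionSystem S, F.IsSaturated p → F.IsNormal S) ∧ ∀ H : Subgroup (MulAut ↥S),
      (Nat.card ↥H).Coprime p → IsMulCommutative ↥H ∧ ∀ h ∈ H, h ^ (p - 1) = 1 := by
  refine ⟨fun F hF => ?_, fun H hH => ?_⟩
  · obtain ⟨m, c, h0, hl, hsc, hst⟩ := h F hF
    exact isNormal_of_chain hS hF h0 hl hsc hst
  · obtain ⟨F, hF, hle⟩ := exists_system hS H hH
    obtain ⟨m, c, h0, hl, hsc, hst⟩ := h F hF
    obtain ⟨d, hd⟩ := inv_of_chain le_rfl h0 hl hsc hst
    exact abelian_exponent hS hd hle hH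

section Eigen

variable {V : Type*} [AddCommGroup V] [Module (ZMod p) V]

/-- Commuting operators of exponent dividing `p - 1` have a common eigenvector. -/
theorem exists_common_eigen {ι : Type*} (f : ι → V →ₗ[ZMod p] V) (hcomm : ∀ i j v, f i (f j v) = f j (f i v))
    (hexp : ∀ i v, ((f i : V → V))^[p - 1] v = v) [Nontrivial V] (s : Finset ι) :
    ∃ y : V, y ≠ 0 ∧ ∀ i ∈ s, ∃ k : ZMod p, f i y = k • y := by
  classical
  induction s using Finset.induction_on with
  | empty =>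
    obtain ⟨y, hy⟩ := exists_ne (0 : V)
    exact ⟨y, hy, by simp⟩
  | @insert i s _ ih =>
    obtain ⟨y, hy, hs⟩ := ih
    set g : V → V := ⇑(f i)
    set d := p - 1 with hd
    have hd0 : 0 < d := by have := (Fact.out : p.Prime).two_le; omega
    let v : (ZMod p)ˣ → V := fun k => ∑ j ∈ Finset.range d, ((k⁻¹ : (ZMod p)ˣ) : ZMod p) ^ j • g^[j] y
    have hper : ∀ k : (ZMod p)ˣ, f i (v k) = (k : ZMod p) • v k := by
      intro k
      let t : ℕ → V := fun j => ((k⁻¹ : (ZMod p)ˣ) : ZMod p) ^ j • g^[j] y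
      have h1 : f i (v k) = (k : ZMod p) • ∑ j ∈ Finset.range d, t (j + 1) := by
        rw [map_sum, Finset.smul_sum]
        refine Finset.sum_congr rfl fun j _ => ?_
        show f i (((k⁻¹ : (ZMod p)ˣ) : ZMod p) ^ j • g^[j] y) =
          (k : ZMod p) • (((k⁻¹ : (ZMod p)ˣ) : ZMod p) ^ (j + 1) • g^[j + 1] y)
        rw [map_smul, Function.iterate_succ_apply', smul_smul, pow_succ', ← mul_assoc, ← Units.val_mul,
          mul_inv_cancel, Units.val_one, one_mul]
      have h2 : t d = t 0 := by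
        simp only [t]
        rw [hexp i y, show ((k⁻¹ : (ZMod p)ˣ) : ZMod p) ^ d = 1 from ZMod.pow_card_sub_one_eq_one (Units.ne_zero _)]
        rw [pow_zero, one_smul, one_smul]
        rfl
      rw [h1]
      congr 1
      have h3 := (Finset.sum_range_succ' t d).symm.trans (Finset.sum_range_succ t d)
      rw [h2] at h3
      exact add_right_cancel h3
    have hsum : ∑ k : (ZMod p)ˣ, v k = -y := by
      simp only [v]
      rw [Finset.sum_comm]
      have hinv : ∀ j, ∑ k : (ZMod p)ˣ, ((k⁻¹ : (ZMod p)ˣ) : ZMod p) ^ j = if d ∣ j then -1 else 0 := by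
        intro j
        rw [show (∑ k : (ZMod p)ˣ, ((k⁻¹ : (ZMod p)ˣ) : ZMod p) ^ j) = ∑ k : (ZMod p)ˣ, ((k : ZMod p) ^ j) from
          Equiv.sum_comp (Equiv.inv (ZMod p)ˣ) fun k => ((k : ZMod p) ^ j)]
        have := FiniteField.sum_pow_units (K := ZMod p) j
        rw [ZMod.card] at this
        exact this
      simp only [← Finset.sum_smul, hinv]
      rw [Finset.sum_eq_single 0 (fun j hj hj0 => by
        rw [if_neg fun hdvd => hj0 (Nat.eq_zero_of_dvd_of_lt hdvd (Finset.mem_range.mp hj)), zero_smul])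
        (fun h => absurd (Finset.mem_range.mpr hd0) h)]
      simp [g]
    obtain ⟨k, hk⟩ : ∃ k, v k ≠ 0 := by
      by_contra hall
      push Not at hall
      rw [Finset.sum_eq_zero fun k _ => hall k] at hsum
      exact hy (neg_eq_zero.mp hsum.symm)
    refine ⟨v k, hk, fun j hj => ?_⟩
    rcases Finset.mem_insert.mp hj with rfl | hj
    · exact ⟨k, hper k⟩
    · obtain ⟨l, hl⟩ := hs j hj
      refine ⟨l, ?_⟩
      simp only [v, map_sum, map_smul, Finset.smul_sum]
      refine Finset.sum_congr rfl fun a _ => ?_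
      have : ∀ a, f j (g^[a] y) = l • g^[a] y := by
        intro a
        induction a with
        | zero => exact hl
        | succ a iha =>
          rw [Function.iterate_succ_apply']
          show f j (f i (g^[a] y)) = l • f i (g^[a] y)
          rw [hcomm, iha, map_smul]
      rw [this, smul_comm]

end Eigen

/-- The same, multiplicatively. -/
theorem exists_common_eigen' {W : Type*} [Group W] [Nontrivial W] (hab : ∀ a b : W, a * b = b * a)
    (hpow : ∀ a : W, a ^ p = 1) {ι : Type*} (f : ι → W →* W) (hcomm : ∀ i j v, f i (f j v) = f j (f i v))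
    (hexp : ∀ i v, ((f i : W → W))^[p - 1] v = v) (s : Finset ι) :
    ∃ y : W, y ≠ 1 ∧ ∀ i ∈ s, ∃ k : ℕ, f i y = y ^ k := by
  letI : CommGroup W := { ‹Group W› with mul_comm := hab }
  letI : Module (ZMod p) (Additive W) := AddCommGroup.zmodModule fun v => by
    show Additive.ofMul ((Additive.toMul v) ^ p) = 0
    rw [hpow, ofMul_one]
  obtain ⟨y, hy, hs⟩ := exists_common_eigen (V := Additive W)
    (fun i => (MonoidHom.toAdditive (f i)).toZModLinearMap p) (fun i j v => hcomm i j (Additive.toMul v))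
    (fun i v => hexp i (Additive.toMul v)) s
  refine ⟨Additive.toMul y, fun e => hy (Additive.toMul.injective e), fun i hi => ?_⟩
  obtain ⟨k, hk⟩ := hs i hi
  refine ⟨k.val, ?_⟩
  rw [← ZMod.natCast_zmod_val k, Nat.cast_smul_eq_nsmul] at hk
  exact congrArg Additive.toMul hk

/-- A chain on `S` for one system with `S` normal. -/
theorem exists_chain (hS : IsPGroup p ↥S) {F : FusionSystem S} (hF : F.IsSaturated p) (hN : F.IsNormal S)
    (hcond : ∀ H : Subgroup (MulAut ↥S), (Nat.card ↥H).Coprime p → IsMulCommutative ↥H ∧ ∀ h ∈ H, h ^ (p - 1) = 1) :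
    ∃ (m : ℕ) (c : Fin (m + 1) → Subgroup Ω), c 0 = ⊥ ∧ c (Fin.last m) = S ∧ (∀ i : Fin (m + 1), F.StronglyClosed (c i)) ∧ ∀ i : Fin m, c i.castSucc ≤ c i.succ ∧ ∃ x ∈ S, c i.succ = c i.castSucc ⊔ Subgroup.zpowers x := by
  classical
  haveI := finite_aut_of_le (le_refl S)
  set A := F.autGroup S with hA
  have hInn : Inn ↥S ≤ A := inn_le_autGroup F le_rfl
  -- a complement to the inner automorphisms
  haveI hIn : ((Inn ↥S).subgroupOf A).Normal := innNormal_autGroup F S
  obtain ⟨-, T, hT⟩ := fullyNormalized_automized p hS hF (fullyNormalized_S F)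
  have hTI : (T : Subgroup ↥A) = (Inn ↥S).subgroupOf A := by
    refine le_antisymm ?_ ?_
    · intro a ha
      rw [hT] at ha
      obtain ⟨g, hg, hga⟩ := (mem_autInducedBy _).mp ha
      exact ⟨⟨g, hg⟩, MulEquiv.ext fun x => Subtype.ext (hga x).symm⟩
    · intro a ha
      rw [hT]
      obtain ⟨g, hg⟩ := (ha : (a : MulAut ↥S) ∈ MulAut.conj.range)
      exact (mem_autInducedBy _).mpr ⟨g, g.2, fun x => (congrArg Subtype.val (DFunLike.congr_fun hg x)).symm⟩
  obtain ⟨K, hK⟩ := Subgroup.exists_right_complement'_of_coprime (N := (Inn ↥S).subgroupOf A) (hTI ▸ T.card_coprime_index)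
  set H := K.map A.subtype with hHdef
  have hHc : (Nat.card ↥H).Coprime p := by
    rw [Subgroup.card_map_of_injective A.subtype_injective]
    have h1 : Nat.card ↥K = ((Inn ↥S).subgroupOf A).index := (hK.symm.index_eq_card).symm
    rw [h1, ← hTI]
    exact ((Fact.out : p.Prime).coprime_iff_not_dvd.mpr T.not_dvd_index).symm
  obtain ⟨hHab, hHexp⟩ := hcond H hHc
  -- one step
  have step : ∀ N : Subgroup ↥S, N ≠ ⊤ → N.Normal → (∀ a ∈ A, ∀ y ∈ N, a y ∈ N) → ∃ (M : Subgroup ↥S) (x : ↥S),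
      N < M ∧ M = N ⊔ Subgroup.zpowers x ∧ M.Normal ∧ ∀ a ∈ A, ∀ y ∈ M, a y ∈ M := by
    intro N hNt hNn hNA
    haveI := hNn
    set π := QuotientGroup.mk' N with hπ
    haveI : Nontrivial (↥S ⧸ N) := QuotientGroup.nontrivial_iff.mpr hNt
    let W : Subgroup (↥S ⧸ N) :=
      { carrier := {q | q ∈ Subgroup.center (↥S ⧸ N) ∧ q ^ p = 1}
        one_mem' := ⟨one_mem _, one_pow p⟩
        mul_mem' := fun {a b} ha hb => ⟨mul_mem ha.1 hb.1, by
          rw [(show Commute a b from (Subgroup.mem_center_iff.mp hb.1 a)).mul_pow, ha.2, hb.2, one_mul]⟩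
        inv_mem' := fun {a} ha => ⟨inv_mem ha.1, by rw [inv_pow, ha.2, inv_one]⟩ }
    haveI hWnt : Nontrivial ↥W := by
      have hQ : IsPGroup p (↥S ⧸ N) := hS.to_quotient N
      haveI := hQ.center_nontrivial
      obtain ⟨k, hk0, hk⟩ := (hQ.to_subgroup (Subgroup.center (↥S ⧸ N))).nontrivial_iff_card.mp inferInstance
      obtain ⟨z, hz⟩ := exists_prime_orderOf_dvd_card' p (G := ↥(Subgroup.center (↥S ⧸ N))) (hk ▸ dvd_pow_self p hk0.ne')
      refine (Subgroup.nontrivial_iff_exists_ne_one W).mpr ⟨z, ⟨z.2, ?_⟩, fun e => ?_⟩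
      · rw [← SubmonoidClass.coe_pow, ← hz, pow_orderOf_eq_one]; rfl
      · rw [show z = 1 from Subtype.ext e, orderOf_one] at hz
        exact (Fact.out : p.Prime).ne_one hz.symm
    have hmap : ∀ a ∈ A, N.map a.toMonoidHom = N := fun a ha => le_antisymm
      (by rintro _ ⟨y, hy, rfl⟩; exact hNA a ha y hy)
      (fun y hy => ⟨a⁻¹ y, hNA _ (A.inv_mem ha) y hy, MulAut.apply_inv_self _ a y⟩)
    let Θ : ↥H → (↥S ⧸ N) ≃* (↥S ⧸ N) := fun a =>
      QuotientGroup.congr N N (a : MulAut ↥S) (hmap _ (by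
        obtain ⟨b, -, hb⟩ := a.2
        exact hb ▸ b.2))
    have hΘ : ∀ a y, Θ a (π y) = π ((a : MulAut ↥S) y) := fun a y => rfl
    have hΘW : ∀ a, ∀ q ∈ W, Θ a q ∈ W := fun a q hq =>
      ⟨Subgroup.mem_center_iff.mpr fun g => by
        obtain ⟨g, rfl⟩ := (Θ a).surjective g
        rw [← map_mul, ← map_mul, Subgroup.mem_center_iff.mp hq.1 g],
      by rw [← map_pow, hq.2, map_one]⟩
    let f : ↥H → ↥W →* ↥W := fun a =>
      ((Θ a).toMonoidHom.comp W.subtype).codRestrict W fun q => hΘW a q q.2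
    have hf : ∀ a (q : ↥W), ((f a q : ↥W) : ↥S ⧸ N) = Θ a q := fun a q => rfl
    haveI : Fintype ↥H := Fintype.ofFinite _
    obtain ⟨y, hy, heig⟩ := exists_common_eigen' (p := p) (W := ↥W)
      (fun a b => Subtype.ext (Subgroup.mem_center_iff.mp b.2.1 (a : ↥S ⧸ N) :)) (fun a => Subtype.ext a.2.2) f (fun a b q => by
      refine Subtype.ext ?_
      rw [hf, hf, hf, hf]
      obtain ⟨z, hz⟩ := QuotientGroup.mk'_surjective N (q : ↥S ⧸ N)
      rw [← hz, hΘ, hΘ, hΘ, hΘ, ← MulAut.mul_apply, ← MulAut.mul_apply]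
      exact congrArg π (DFunLike.congr_fun (congrArg Subtype.val (hHab.is_comm.comm a b)) z))
      (fun a q => by
        refine Subtype.ext ?_
        obtain ⟨z, hz⟩ := QuotientGroup.mk'_surjective N (q : ↥S ⧸ N)
        have : ∀ n : ℕ, (((⇑(f a))^[n] q : ↥W) : ↥S ⧸ N) = π (((a : MulAut ↥S) ^ n) z) := by
          intro n
          induction n with
          | zero => exact hz.symm
          | succ n ih => rw [Function.iterate_succ_apply', hf, ih, hΘ, pow_succ', MulAut.mul_apply]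
        rw [this, hHexp _ a.2]
        exact hz) Finset.univ
    obtain ⟨x, hx⟩ := QuotientGroup.mk'_surjective N (y : ↥S ⧸ N)
    have hxc : π x ∈ Subgroup.center (↥S ⧸ N) := by
      have h := y.2.1
      rwa [← hx] at h
    set M := N ⊔ Subgroup.zpowers x with hM
    have hMn : M.Normal := by
      refine ⟨fun z hz g => ?_⟩
      obtain ⟨u, hu, _, ⟨k, rfl⟩, rfl⟩ := Subgroup.mem_sup_of_normal_left.mp hz
      have h1 : π (g * (u * x ^ k) * g⁻¹) = π (u * x ^ k) := by
        have hc : π (u * x ^ k) ∈ Subgroup.center (↥S ⧸ N) := by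
          rw [map_mul, show π u = 1 from (QuotientGroup.eq_one_iff u).mpr hu, one_mul, map_zpow]
          exact zpow_mem hxc k
        rw [map_mul, map_mul, Subgroup.mem_center_iff.mp hc, map_inv, mul_inv_cancel_right]
      have h2 := M.mul_mem hz (Subgroup.mem_sup_left (QuotientGroup.eq.mp h1.symm))
      rwa [mul_inv_cancel_left] at h2
    refine ⟨M, x, lt_of_le_of_ne le_sup_left fun e => hy ?_, rfl, hMn, fun a ha z hz => ?_⟩
    · refine Subtype.ext ?_
      rw [← hx]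
      exact (QuotientGroup.eq_one_iff x).mpr (e.ge (Subgroup.mem_sup_right (Subgroup.mem_zpowers x)))
    -- invariance
    let St : Subgroup (MulAut ↥S) :=
      { carrier := {a | ∀ z, z ∈ M ↔ a z ∈ M}
        one_mem' := fun z => Iff.rfl
        mul_mem' := fun {a b} ha hb z => (hb z).trans (ha (b z))
        inv_mem' := fun {a} ha z => by rw [ha (a⁻¹ z), MulAut.apply_inv_self] }
    suffices hle : A ≤ St from (hle ha z).mp hz
    have hI : Inn ↥S ≤ St := by
      rintro _ ⟨g, rfl⟩ z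
      exact ⟨fun hz => hMn.conj_mem z hz g, fun hz => by
        have h1 := hMn.conj_mem _ hz g⁻¹
        rwa [inv_inv, MulAut.conj_apply, show g⁻¹ * (g * z * g⁻¹) * g = z by group] at h1⟩
    have hfin : ∀ b : MulAut ↥S, (∀ z ∈ M, b z ∈ M) → b ∈ St := fun b hb z => by
      refine ⟨hb z, fun hz => ?_⟩
      obtain ⟨⟨w, hw⟩, hwe⟩ := ((Finite.injective_iff_surjective
        (f := fun w : ↥M => (⟨b w, hb w w.2⟩ : ↥M))).mp fun u v h => Subtype.ext (b.injective (congrArg Subtype.val h))) ⟨b z, hz⟩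
      exact b.injective (congrArg Subtype.val hwe) ▸ hw
    have hH' : H ≤ St := by
      intro b hb
      refine hfin b fun z hz => ?_
      obtain ⟨k, hk⟩ := heig ⟨b, hb⟩ (Finset.mem_univ _)
      have h1 : π (b x) = π x ^ k := by
        have h2 := congrArg (fun q : ↥W => (q : ↥S ⧸ N)) hk
        simp only [hf, SubmonoidClass.coe_pow] at h2
        rwa [← hx, hΘ] at h2
      have hbx : b x ∈ M := by
        rw [← map_pow] at h1
        have h3 := M.mul_mem (M.pow_mem (Subgroup.mem_sup_right (Subgroup.mem_zpowers x)) k)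
          (Subgroup.mem_sup_left (QuotientGroup.eq.mp h1.symm))
        rwa [mul_inv_cancel_left] at h3
      obtain ⟨u, hu, _, ⟨j, rfl⟩, rfl⟩ := Subgroup.mem_sup_of_normal_left.mp hz
      obtain ⟨b', -, hb'⟩ := hb
      rw [map_mul, map_zpow]
      exact M.mul_mem (Subgroup.mem_sup_left (hNA b (hb' ▸ b'.2) u hu)) (M.zpow_mem hbx j)
    intro a ha
    obtain ⟨⟨u, v⟩, huv⟩ := hK.2 ⟨a, ha⟩
    rw [show a = ((u : ↥A) : MulAut ↥S) * ((v : ↥A) : MulAut ↥S) from (congrArg Subtype.val huv).symm]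
    exact St.mul_mem (hI u.2) (hH' ⟨v, v.2, rfl⟩)
  -- build the chain upwards
  have build : ∀ (d : ℕ) (N : Subgroup ↥S), N.index = d → N.Normal → (∀ a ∈ A, ∀ y ∈ N, a y ∈ N) →
      ∃ (m : ℕ) (c : ℕ → Subgroup ↥S), c 0 = N ∧ c m = ⊤ ∧ (∀ i, ∀ a ∈ A, ∀ y ∈ c i, a y ∈ c i) ∧
        ∀ i < m, c i ≤ c (i + 1) ∧ ∃ x, c (i + 1) = c i ⊔ Subgroup.zpowers x := by
    intro d
    induction d using Nat.strong_induction_on with
    | _ d ih =>
      intro N hd hNn hNA
      by_cases hNt : N = ⊤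
      · exact ⟨0, fun _ => N, rfl, hNt, fun _ => hNA, fun i hi => absurd hi (by omega)⟩
      obtain ⟨M, x, hlt, hMx, hMn, hMA⟩ := step N hNt hNn hNA
      obtain ⟨m, c, hc0, hcm, hcA, hcs⟩ := ih M.index (hd ▸ Subgroup.index_strictAnti hlt) M rfl hMn hMA
      refine ⟨m + 1, fun i => Nat.rec N (fun j _ => c j) i, rfl, hcm, fun i => ?_, fun i hi => ?_⟩
      · cases i with
        | zero => exact hNA
        | succ j => exact hcA j
      · cases i with
        | zero => exact ⟨hlt.le.trans hc0.ge, x, hc0.trans hMx⟩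
        | succ j => exact hcs j (by omega)
  obtain ⟨m, c, hc0, hcm, hcA, hcs⟩ := build _ ⊥ rfl inferInstance (fun a _ y hy => by
    rw [Subgroup.mem_bot] at hy ⊢; rw [hy, map_one])
  refine ⟨m, fun i => (c i).map S.subtype, ?_, ?_, fun i => ⟨Subgroup.map_subtype_le _, fun R hR φ hφ w => ?_⟩,
    fun i => ⟨Subgroup.map_mono (hcs i i.2).1, ?_⟩⟩
  · show (c 0).map S.subtype = ⊥
    rw [hc0, Subgroup.map_bot]
  · show (c m).map S.subtype = S
    rw [hcm, ← MonoidHom.range_eq_map, Subgroup.range_subtype]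
  · obtain ⟨ψ, hψ, hψe, hψS⟩ := hN.2 R φ hφ
    have hRS : R ⊔ S = S := sup_eq_right.mpr (hR.trans (Subgroup.map_subtype_le _))
    have hSle : S ≤ R ⊔ S := le_sup_right
    have hχ := restrict_mem hψ hSle
    have hχr : (ψ.comp (Subgroup.inclusion hSle)).range = S := eq_of_isConj_S ⟨_, hχ, rfl⟩
    set a := isoOfMem hχ hχr
    have ha : a ∈ A := (autGroup_carrier F le_rfl a).mpr (by
      rw [show a.toMonoidHom = (isoOfMem hχ hχr).toMonoidHom from rfl, isoOfMem_hom hχ hχr]; exact hχ)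
    obtain ⟨v, hv, hvw⟩ := hR w.2
    refine ⟨a v, hcA i a ha v hv, ?_⟩
    rw [← hψe w]
    show ((a v : ↥S) : Ω) = _
    rw [show ((a v : ↥S) : Ω) = ψ (Subgroup.inclusion hSle v) from DFunLike.congr_fun (isoOfMem_hom hχ hχr) v]
    exact congrArg ψ (Subtype.ext hvw)
  · obtain ⟨x, hx⟩ := (hcs i i.2).2
    refine ⟨x, x.2, ?_⟩
    show (c (i + 1)).map S.subtype = (c i).map S.subtype ⊔ Subgroup.zpowers (x : Ω)
    rw [hx, Subgroup.map_sup, MonoidHom.map_zpowers]
    rfl

end CfsgLib.Fusion.CyclicChain
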