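import Cfsg.Agent.Lib.Fusion.Simple
import Mathlib.Tactic

/-! Fusion systems on dihedral 2-groups with one class of involutions. -/

set_option autoImplicit false

namespace CfsgLib.Fusion

open Cfsg Cfsg.FusionSystem

theorem odd_pow_two_pow_modEq (i : ℤ) (hi : Odd i) (k : ℕ) : (2 : ℤ) ^ (k + 1) ∣ i ^ 2 ^ k - 1 := by
  induction k with
  | zero => obtain ⟨m, rfl⟩ := hi; simp
  | succ k ih =>
    have h2 : (2 : ℤ) ∣ i ^ 2 ^ k + 1 := by
      obtain ⟨m, hm⟩ := hi.pow (n := 2 ^ k)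
      exact ⟨m + 1, by rw [hm]; ring⟩
    have := mul_dvd_mul ih h2
    rw [← pow_succ] at this
    have e : i ^ 2 ^ (k + 1) - 1 = (i ^ 2 ^ k - 1) * (i ^ 2 ^ k + 1) := by
      rw [show 2 ^ (k + 1) = 2 ^ k * 2 from pow_succ 2 k, pow_mul]; ring
    rwa [e]

variable {H : Type*} [Group H]

/-- Automorphisms of a dihedral group of order at least 8 have 2-power order. -/
theorem isPGroup_mulAut_dihedral {n : ℕ} (hn : 2 ≤ n) {a b : H} (ha : orderOf a = 2 ^ n) (hb : b ^ 2 = 1)
    (hab : b * a * b⁻¹ = a⁻¹) (hall : ∀ x, ∃ j : ℤ, x = a ^ j ∨ x = a ^ j * b) :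
    IsPGroup 2 (MulAut H) := by
  have hout : ∀ j : ℤ, (a ^ j * b) ^ 2 = 1 := fun j => by
    have h2 : b * a ^ j * b⁻¹ = (a ^ j)⁻¹ := by rw [← conj_zpow, hab, inv_zpow]
    have hb' : b⁻¹ = b := inv_eq_of_mul_eq_one_right (by rwa [sq] at hb)
    rw [sq]
    calc a ^ j * b * (a ^ j * b) = a ^ j * (b * a ^ j * b⁻¹) * (b * b) := by group
      _ = 1 := by rw [h2, ← sq, hb]; group
  intro α
  obtain ⟨i, hi⟩ : ∃ i : ℤ, α a = a ^ i := by
    obtain ⟨j, hj | hj⟩ := hall (α a)
    · exact ⟨j, hj⟩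
    · exfalso
      have h1 : (α a) ^ 2 = 1 := hj ▸ hout j
      rw [← map_pow, EmbeddingLike.map_eq_one_iff, ← orderOf_dvd_iff_pow_eq_one, ha] at h1
      have := Nat.le_of_dvd (by norm_num) h1
      have : 2 ^ 2 ≤ 2 ^ n := Nat.pow_le_pow_right (by norm_num) hn
      omega
  have hiodd : Odd i := by
    by_contra h
    obtain ⟨m, rfl⟩ := (Int.not_odd_iff_even.mp h)
    have h2 : (α a) ^ 2 ^ (n - 1) = 1 := by
      rw [hi, ← zpow_natCast, ← zpow_mul, ← orderOf_dvd_iff_zpow_eq_one, ha]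
      refine ⟨m, ?_⟩
      have : (2 : ℤ) ^ n = 2 ^ (n - 1) * 2 := by rw [← pow_succ]; congr 1; omega
      push_cast; rw [this]; ring
    rw [← map_pow, EmbeddingLike.map_eq_one_iff, ← orderOf_dvd_iff_pow_eq_one, ha,
      Nat.pow_dvd_pow_iff_le_right (by norm_num)] at h2
    omega
  have hpow : ∀ k : ℕ, (α ^ k) a = a ^ (i ^ k) := by
    intro k
    induction k with
    | zero => simp
    | succ k ih =>
      rw [pow_succ', MulAut.mul_apply, ih, map_zpow, hi, ← zpow_mul, pow_succ, mul_comm]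
  set β := α ^ 2 ^ n with hβ
  have hβa : β a = a := by
    rw [hβ, hpow]
    have h1 : (2 ^ n : ℤ) ∣ i ^ 2 ^ n - 1 := (pow_dvd_pow 2 (Nat.le_succ n)).trans (odd_pow_two_pow_modEq i hiodd n)
    have h2 : a ^ (i ^ 2 ^ n - 1) = 1 := by
      rw [← orderOf_dvd_iff_zpow_eq_one, ha]; exact_mod_cast h1
    rw [show i ^ 2 ^ n = i ^ 2 ^ n - 1 + 1 by ring, zpow_add, h2, one_mul, zpow_one]
  obtain ⟨j, hj⟩ : ∃ j : ℤ, β b = a ^ j * b := by
    obtain ⟨j, hj | hj⟩ := hall (β b)
    · have hb2 : β (a ^ j) = a ^ j := by rw [map_zpow, hβa]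
      exact ⟨0, by rw [zpow_zero, one_mul, hj, β.injective (hj.trans hb2.symm)]⟩
    · exact ⟨j, hj⟩
  have hβb : ∀ k : ℕ, (β ^ k) b = a ^ ((k : ℤ) * j) * b := by
    intro k
    induction k with
    | zero => simp
    | succ k ih =>
      rw [pow_succ', MulAut.mul_apply, ih, map_mul, map_zpow, hβa, hj, ← mul_assoc, ← zpow_add]
      congr 2; push_cast; ring
  have hβa' : ∀ k : ℕ, (β ^ k) a = a := by
    intro k
    induction k with
    | zero => simp
    | succ k ih => rw [pow_succ', MulAut.mul_apply, ih, hβa]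
  refine ⟨2 * n, ?_⟩
  rw [two_mul, pow_add, pow_mul]
  ext x
  rw [MulAut.one_apply]
  have hb1 : (β ^ 2 ^ n) b = b := by
    rw [hβb, zpow_mul, zpow_natCast, ← ha, pow_orderOf_eq_one, one_zpow, one_mul]
  obtain ⟨j, rfl | rfl⟩ := hall x
  · rw [map_zpow, hβa']
  · rw [map_mul, map_zpow, hβa', hb1]

variable {G : Type*} [Group G] [Finite G]

/-- A Sylow subgroup with a `p`-group of automorphisms is acted on by inner automorphisms only. -/
theorem autInducedBy_top_eq_inn {p : ℕ} [Fact p.Prime] (S : Sylow p G)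
    (hA : IsPGroup p (MulAut ↥(S : Subgroup G))) :
    autInducedBy ⊤ (S : Subgroup G) = autInducedBy (S : Subgroup G) (S : Subgroup G) := by
  set T : Subgroup G := (S : Subgroup G)
  rw [autInducedBy_eq_map, autInducedBy_eq_map]
  set N := Subgroup.normalizer (T : Set G)
  have hT : (T ⊓ N).subgroupOf N = T.subgroupOf N := by rw [inf_eq_left.mpr Subgroup.le_normalizer]
  have hTop : ((⊤ : Subgroup G) ⊓ N).subgroupOf N = ⊤ := by rw [top_inf_eq, Subgroup.subgroupOf_self]
  rw [hT, hTop, ← MonoidHom.range_eq_map]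
  set f := T.normalizerMonoidHom
  refine le_antisymm ?_ (Subgroup.map_le_range _ _)
  rw [← Subgroup.relIndex_eq_one]
  have hd : ((T.subgroupOf N).map f).relIndex f.range ∣ (T.subgroupOf N).index := by
    have h := Subgroup.index_map_dvd (T.subgroupOf N) f.rangeRestrict_surjective
    have h2 : ((T.subgroupOf N).map f.rangeRestrict).index = ((T.subgroupOf N).map f).relIndex f.range := by
      rw [Subgroup.relIndex, Subgroup.subgroupOf]
      congr 1
      ext y
      constructor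
      · rintro ⟨x, hx, rfl⟩; exact ⟨x, hx, rfl⟩
      · rintro ⟨x, hx, hxy⟩; exact ⟨x, hx, Subtype.ext hxy⟩
    rwa [h2] at h
  obtain ⟨k, hk⟩ := (hA.to_subgroup f.range).index ((T.subgroupOf N).map f |>.subgroupOf f.range)
  change ((T.subgroupOf N).map f).relIndex f.range = p ^ k at hk
  have hnd : ¬ p ∣ (T.subgroupOf N).index := fun h => S.not_dvd_index
    (h.trans (Subgroup.relIndex_dvd_index_of_le Subgroup.le_normalizer))
  rw [hk] at hd ⊢
  rcases k.eq_zero_or_pos with rfl | hk0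
  · rw [pow_zero]
  · exact absurd ((dvd_pow_self p hk0.ne').trans hd) hnd

/-- The 2-fusion system of a group with dihedral Sylow 2-subgroups of order at least 8 and one class of
involutions is simple. -/
theorem dihedral_isSimple (S : Sylow 2 G) {n : ℕ} (hn : 2 ≤ n) {a b : G} (haS : a ∈ (S : Subgroup G))
    (hbS : b ∈ (S : Subgroup G)) (ha : orderOf a = 2 ^ n) (hb : orderOf b = 2) (hab : b * a * b⁻¹ = a⁻¹)
    (hba : b ∉ Subgroup.zpowers a)
    (hall : ∀ x ∈ (S : Subgroup G), ∃ j : ℤ, x = a ^ j ∨ x = a ^ j * b)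
    (hinv : ∀ x y : G, orderOf x = 2 → orderOf y = 2 → IsConj x y) :
    (groupFusionSystem (S : Subgroup G)).IsSimple 2 := by
  have hbne : b ≠ 1 := fun h => by simp [h] at hb
  have hb2 : b ^ 2 = 1 := hb ▸ pow_orderOf_eq_one b
  have hS : (S : Subgroup G) ≠ ⊥ := fun h => hbne (Subgroup.mem_bot.mp (h ▸ hbS))
  refine isSimple_of_inn 2 (group_isSaturated S) hS ?_ ?_
  · rw [group_autGroup le_rfl, autInducedBy_top_eq_inn S]
    · refine le_antisymm ?_ ?_
      · refine (Subgroup.closure_le _).mpr ?_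
        rintro α ⟨g, hg, h⟩
        exact ⟨⟨g, hg⟩, MulEquiv.ext fun x => Subtype.ext (h x).symm⟩
      · rintro _ ⟨g, rfl⟩
        exact Subgroup.subset_closure ⟨g, g.2, fun x => rfl⟩
    · refine isPGroup_mulAut_dihedral hn (a := ⟨a, haS⟩) (b := ⟨b, hbS⟩) (by rwa [← Subgroup.orderOf_coe])
        (Subtype.ext hb2) (Subtype.ext hab) fun x => ?_
      obtain ⟨j, h | h⟩ := hall x x.2
      · exact ⟨j, Or.inl (Subtype.ext h)⟩
      · exact ⟨j, Or.inr (Subtype.ext h)⟩
  · intro T hT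
    by_cases h : T = ⊥
    · exact Or.inl h
    right
    haveI : Nontrivial ↥T := (Subgroup.nontrivial_iff_ne_bot T).mpr h
    obtain ⟨m, hm0, hm⟩ := (S.2.to_le hT.1).nontrivial_iff_card.mp inferInstance
    obtain ⟨t, ht⟩ := exists_prime_orderOf_dvd_card' (G := ↥T) 2 (hm ▸ dvd_pow_self 2 hm0.ne')
    have key : ∀ u ∈ (S : Subgroup G), orderOf u = 2 → u ∈ T := by
      intro u hu hu2
      obtain ⟨g, hg⟩ := isConj_iff.mp (hinv t u (by rw [Subgroup.orderOf_coe, ht]) hu2)
      have hle : Subgroup.zpowers (t : G) ≤ T := Subgroup.zpowers_le.mpr t.2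
      have hmem : conjHom (Subgroup.zpowers (t : G)) g ∈
          (groupFusionSystem (S : Subgroup G)).Hom (Subgroup.zpowers (t : G)) := by
        refine ⟨hle.trans hT.1, fun x => ?_, g, fun x => rfl⟩
        obtain ⟨k, hk⟩ := Subgroup.mem_zpowers_iff.mp x.2
        show g * (x : G) * g⁻¹ ∈ (S : Subgroup G)
        rw [← hk, ← conj_zpow, hg]
        exact zpow_mem hu k
      have h := hT.2 _ hle _ hmem ⟨t, Subgroup.mem_zpowers _⟩
      rwa [show conjHom (Subgroup.zpowers (t : G)) g ⟨t, Subgroup.mem_zpowers _⟩ = u from hg] at h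
    have hbT : b ∈ T := key b hbS hb
    have habT : a * b ∈ T := by
      refine key _ ((S : Subgroup G).mul_mem haS hbS) (orderOf_eq_prime ?_ ?_)
      · rw [sq]
        calc a * b * (a * b) = a * (b * a * b⁻¹) * (b * b) := by group
          _ = 1 := by rw [hab, ← sq, hb2]; group
      · intro h
        exact hba ⟨-1, by simp [eq_inv_of_mul_eq_one_right h]⟩
    have haT : a ∈ T := by simpa using T.mul_mem habT (T.inv_mem hbT)
    refine le_antisymm hT.1 fun x hx => ?_
    obtain ⟨j, rfl | rfl⟩ := hall x hx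
    · exact zpow_mem haT j
    · exact mul_mem (zpow_mem haT j) hbT

end CfsgLib.Fusion
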