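import Cfsg.Agent.Lib.Fusion.IndexPrimeCentre
import Cfsg.Agent.Lib.Fusion.Essential
import Cfsg.Agent.Lib.Fusion.SmallEssentialMain
import Cfsg.Agent.Lib.SPE

/-! Essential subgroups inside an extraspecial subgroup of index `p`. (helper6) -/

set_option autoImplicit false
set_option linter.unusedSectionVars false
set_option linter.style.haveILetI false

namespace CfsgLib.Fusion.ExtraspecialEssential

open Cfsg Cfsg.FusionSystem CfsgLib.Fusion
open scoped commutatorElement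

universe u

section Auto

variable {V : Type*} [Group V]

/-- Fix `z` and move everything inside `⟨z⟩` only. -/
def shift (A : Subgroup (MulAut V)) (z : V) : Subgroup ↥A where
  carrier := {a | (a : MulAut V) z = z ∧ ∀ v, ∃ i : ℤ, (a : MulAut V) v = v * z ^ i}
  one_mem' := ⟨rfl, fun v => ⟨0, by simp⟩⟩
  mul_mem' {a b} ha hb := by
    refine ⟨by rw [Subgroup.coe_mul, MulAut.mul_apply, hb.1, ha.1], fun v => ?_⟩
    obtain ⟨i, hi⟩ := hb.2 v
    obtain ⟨j, hj⟩ := ha.2 v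
    exact ⟨j + i, by rw [Subgroup.coe_mul, MulAut.mul_apply, hi, map_mul, map_zpow, ha.1, hj, mul_assoc, zpow_add]⟩
  inv_mem' {a} ha := by
    have h1 : (a : MulAut V)⁻¹ z = z := by
      conv_lhs => rw [← ha.1, MulAut.inv_apply_self]
    refine ⟨h1, fun v => ?_⟩
    obtain ⟨i, hi⟩ := ha.2 ((a : MulAut V)⁻¹ v)
    rw [MulAut.apply_inv_self] at hi
    exact ⟨-i, show (a : MulAut V)⁻¹ v = v * z ^ (-i) by
      rw [zpow_neg, eq_mul_inv_iff_mul_eq]; exact hi.symm⟩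

variable {p : ℕ} [Fact p.Prime] {A : Subgroup (MulAut V)} {z : V}

theorem pow_shift (hz : orderOf z = p) {a : ↥A} (ha : a ∈ shift A z) : a ^ p = 1 := by
  refine Subtype.ext (MulEquiv.ext fun v => ?_)
  obtain ⟨i, hi⟩ := ha.2 v
  have hpow : ∀ n : ℕ, ((a : MulAut V) ^ n) v = v * (z ^ i) ^ n := by
    intro n
    induction n with
    | zero => simp
    | succ n ih => rw [pow_succ', MulAut.mul_apply, ih, map_mul, map_pow, map_zpow, ha.1, hi, mul_assoc, ← pow_succ']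
  rw [SubmonoidClass.coe_pow, hpow, ← zpow_natCast (z ^ i), ← zpow_mul, mul_comm, zpow_mul, zpow_natCast, ← hz,
    pow_orderOf_eq_one, one_zpow, mul_one]
  rfl

theorem comm_shift {a b : ↥A} (ha : a ∈ shift A z) (hb : b ∈ shift A z) : a * b = b * a := by
  refine Subtype.ext (MulEquiv.ext fun v => ?_)
  obtain ⟨i, hi⟩ := hb.2 v
  obtain ⟨j, hj⟩ := ha.2 v
  rw [Subgroup.coe_mul, Subgroup.coe_mul, MulAut.mul_apply, MulAut.mul_apply, hi, hj, map_mul, map_mul, map_zpow,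
    map_zpow, ha.1, hb.1, hi, hj, mul_assoc, mul_assoc, ← zpow_add, ← zpow_add, add_comm]

theorem shift_conj_mem {g : ↥A} (hg : (g : MulAut V) z ∈ Subgroup.zpowers z)
    (hg' : (g : MulAut V)⁻¹ z ∈ Subgroup.zpowers z) {a : ↥A} (ha : a ∈ shift A z) : g * a * g⁻¹ ∈ shift A z := by
  obtain ⟨k, hk⟩ := Subgroup.mem_zpowers_iff.mp hg
  obtain ⟨k', hk'⟩ := Subgroup.mem_zpowers_iff.mp hg'
  refine ⟨?_, fun v => ?_⟩
  · show (g : MulAut V) ((a : MulAut V) ((g : MulAut V)⁻¹ z)) = z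
    rw [← hk', map_zpow, ha.1, hk', MulAut.apply_inv_self]
  · obtain ⟨i, hi⟩ := ha.2 ((g : MulAut V)⁻¹ v)
    refine ⟨k * i, ?_⟩
    show (g : MulAut V) ((a : MulAut V) ((g : MulAut V)⁻¹ v)) = _
    rw [hi, map_mul, map_zpow, MulAut.apply_inv_self, ← hk, zpow_mul]

/-- A large shift group lies in no strongly embedded subgroup with the fusion property. -/
theorem eq_top_of_fusion [Finite V] (hV : ∀ x y : V, x * y = y * x) (hz : orderOf z = p) (hU : p ^ 2 ≤ Nat.card ↥(shift A z))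
    (M : Subgroup ↥A) (hUM : shift A z ≤ M)
    (hM : ∀ x ∈ M, orderOf x = p → ∀ g : ↥A, g⁻¹ * x * g ∈ M → g ∈ M) : M = ⊤ := by
  have hp : p.Prime := Fact.out
  set U := shift A z with hUdef
  have hcent : ∀ x ∈ M, orderOf x = p → ∀ g : ↥A, g * x = x * g → g ∈ M := fun x hx hxp g hg =>
    hM x hx hxp g (by rw [mul_assoc, ← hg, inv_mul_cancel_left]; exact hx)
  have hord : ∀ x ∈ U, x ≠ 1 → orderOf x = p := fun x hx hx1 => orderOf_eq_prime (pow_shift hz hx) hx1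
  have hU1 : ∃ u ∈ U, u ≠ 1 := by
    by_contra hno
    push Not at hno
    rw [(Subgroup.eq_bot_iff_forall _).mpr hno, Subgroup.card_bot] at hU
    exact absurd hU (not_le.mpr (Nat.one_lt_pow two_ne_zero hp.one_lt))
  -- an element of `U` fixing any given vector up to the line
  have hfixer : ∀ y : V, ∃ t ∈ U, t ≠ 1 ∧ (t : MulAut V) y = y := by
    intro y
    by_contra hno
    push Not at hno
    have hinj : Function.Injective (fun a : ↥U => (⟨y⁻¹ * ((a : ↥A) : MulAut V) y, by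
        obtain ⟨i, hi⟩ := a.2.2 y
        exact ⟨i, by rw [hi, inv_mul_cancel_left]⟩⟩ : ↥(Subgroup.zpowers z))) := by
      intro a b h
      have h1 : ((a : ↥A) : MulAut V) y = ((b : ↥A) : MulAut V) y := mul_left_cancel (congrArg Subtype.val h)
      by_contra hab
      refine hno ((a : ↥A)⁻¹ * b) (U.mul_mem (U.inv_mem a.2) b.2) (fun h0 => hab (Subtype.ext (inv_mul_eq_one.mp h0))) ?_
      show ((a : ↥A) : MulAut V)⁻¹ (((b : ↥A) : MulAut V) y) = y
      rw [← h1, MulAut.inv_apply_self]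
    have := Nat.card_le_card_of_injective _ hinj
    rw [Nat.card_zpowers, hz] at this
    exact absurd (hU.trans this) (not_le.mpr (lt_self_pow₀ hp.one_lt (by norm_num)))
  rw [Subgroup.eq_top_iff']
  intro g
  by_cases hg : (g : MulAut V) z ∈ Subgroup.zpowers z ∧ (g : MulAut V)⁻¹ z ∈ Subgroup.zpowers z
  · obtain ⟨u, hu, hu1⟩ := hU1
    have hgu := shift_conj_mem hg.1 hg.2 hu
    refine hM _ (hUM hgu) ((hord _ hgu) fun h => hu1 (by simpa using h)) g ?_
    rw [show g⁻¹ * (g * u * g⁻¹) * g = u by group]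
    exact hUM hu
  · obtain ⟨t, ht, ht1, hty⟩ := hfixer ((g : MulAut V) z)
    obtain ⟨s', hs', hs'1, hs'y⟩ := hfixer ((g : MulAut V)⁻¹ z)
    obtain ⟨s, hs⟩ : ∃ s, s = g * s' * g⁻¹ := ⟨_, rfl⟩
    have hsz : (s : MulAut V) z = z := by
      rw [hs]
      show (g : MulAut V) ((s' : MulAut V) ((g : MulAut V)⁻¹ z)) = z
      rw [hs'y, MulAut.apply_inv_self]
    have hsd : ∀ v, ∃ j : ℤ, (s : MulAut V) v = v * (g : MulAut V) z ^ j := fun v => by
      obtain ⟨j, hj⟩ := hs'.2 ((g : MulAut V)⁻¹ v)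
      refine ⟨j, ?_⟩
      rw [hs]
      show (g : MulAut V) ((s' : MulAut V) ((g : MulAut V)⁻¹ v)) = _
      rw [hj, map_mul, map_zpow, MulAut.apply_inv_self]
    have hcomm : s * t = t * s := by
      refine Subtype.ext (MulEquiv.ext fun v => ?_)
      obtain ⟨i, hi⟩ := ht.2 v
      obtain ⟨j, hj⟩ := hsd v
      rw [Subgroup.coe_mul, Subgroup.coe_mul, MulAut.mul_apply, MulAut.mul_apply, hi, map_mul, map_zpow, hsz, hj,
        map_mul, map_zpow, hty, hi]
      have hc : (g : MulAut V) z ^ j * z ^ i = z ^ i * (g : MulAut V) z ^ j := hV _ _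
      rw [mul_assoc, hc, ← mul_assoc]
    have hsM : s ∈ M := hcent t (hUM ht) (hord t ht ht1) s hcomm
    have hsp : orderOf s = p := by
      rw [hs]
      exact ((MulAut.conj g).orderOf_eq s').trans (hord s' hs' hs'1)
    obtain ⟨u, hu, hu1⟩ := hU1
    have huM : g * u * g⁻¹ ∈ M := hcent s hsM hsp _ (by
      rw [hs, show g * u * g⁻¹ * (g * s' * g⁻¹) = g * (u * s') * g⁻¹ by group, comm_shift hu hs']
      group)
    refine hM _ huM (((MulAut.conj g).orderOf_eq u).trans (hord u hu hu1)) g ?_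
    rw [show g⁻¹ * (g * u * g⁻¹) * g = u by group]
    exact hUM hu

end Auto

variable {Ω : Type u} [Group Ω] {S : Subgroup Ω} [Finite ↥S] {F : FusionSystem S} {p : ℕ} [Fact p.Prime]

theorem eq_of_essential (hp : Odd p) (hS : IsPGroup p ↥S) (hF : F.IsSaturated p) (Q : Subgroup Ω) (hQS : Q ≤ S)
    (hQ : Cfsg.IsExtraspecial p ↥Q) (hQi : (Q.subgroupOf S).index = p) (h6 : p ^ 6 ≤ Nat.card ↥S)
    (hO : F.core = ⊥) (E : Subgroup Ω) (hEQ : E ≤ Q) (hE : F.IsEssential p E) : E = Q := by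
  classical
  have hprime : p.Prime := Fact.out
  by_contra hne
  have hES := hE.1.1
  haveI := finite_of_le hES
  haveI := finite_of_le hQS
  haveI := finite_aut_of_le hES
  have hZ := IndexPrimeCentre.center_eq_of_extraspecial hp hS Q hQS hQ hQi F hF hO
  obtain ⟨⟨-, -, hcomm⟩, hcard⟩ := hQ
  obtain ⟨⟨⟨z, hzQ⟩, hzZ⟩, hz1⟩ : ∃ z : ↥(Subgroup.center ↥Q), z ≠ 1 := by
    haveI : Nontrivial ↥(Subgroup.center ↥Q) := Finite.one_lt_card_iff_nontrivial.mp (hcard ▸ hprime.one_lt)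
    exact exists_ne 1
  have hzord : orderOf z = p := by
    have h := orderOf_dvd_natCard (⟨⟨z, hzQ⟩, hzZ⟩ : ↥(Subgroup.center ↥Q))
    rw [hcard, Subgroup.orderOf_mk, Subgroup.orderOf_mk] at h
    rcases (Nat.dvd_prime hprime).mp h with h1 | h1
    · exact absurd (Subtype.ext (Subtype.ext (orderOf_eq_one_iff.mp h1))) hz1
    · exact h1
  have hzQc : z ∈ Q ⊓ Subgroup.centralizer (Q : Set Ω) := ⟨hzQ, Subgroup.mem_centralizer_iff.mpr fun y hy =>
    congrArg Subtype.val (Subgroup.mem_center_iff.mp hzZ ⟨y, hy⟩)⟩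
  have hzS : z ∈ S ⊓ Subgroup.centralizer (S : Set Ω) := hZ.ge hzQc
  have hzE : z ∈ E := hE.1.2 E (IsConj.refl F hES)
    ⟨hzS.1, Subgroup.mem_centralizer_iff.mpr fun y hy => Subgroup.mem_centralizer_iff.mp hzS.2 y (hES hy)⟩
  have hgen : ∀ x y : ↥Q, ⁅x, y⁆ ∈ Subgroup.zpowers (⟨z, hzQ⟩ : ↥Q) := by
    intro x y
    have h := Subgroup.commutator_mem_commutator (Subgroup.mem_top x) (Subgroup.mem_top y)
    rw [show ⁅(⊤ : Subgroup ↥Q), ⊤⁆ = Subgroup.center ↥Q from hcomm] at h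
    have hsub : Subgroup.center ↥Q = Subgroup.zpowers (⟨z, hzQ⟩ : ↥Q) := by
      refine (Subgroup.eq_of_le_of_card_ge (Subgroup.zpowers_le.mpr hzZ) ?_).symm
      rw [hcard, Nat.card_zpowers, Subgroup.orderOf_mk, hzord]
    exact hsub ▸ h
  let zR : ↥E := ⟨z, hzE⟩
  have hzR : orderOf zR = p := by rw [Subgroup.orderOf_mk, hzord]
  -- `Q` acts on `E` by shifts
  have hnorm : ∀ q ∈ Q, q ∈ Subgroup.normalizer (E : Set Ω) := by
    have key : ∀ q ∈ Q, ∀ e ∈ E, q * e * q⁻¹ ∈ E := by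
      intro q hq e he
      obtain ⟨i, hi⟩ := Subgroup.mem_zpowers_iff.mp (hgen ⟨q, hq⟩ ⟨e, hEQ he⟩)
      have hi' : z ^ i = q * e * q⁻¹ * e⁻¹ := congrArg Subtype.val hi
      rw [show q * e * q⁻¹ = q * e * q⁻¹ * e⁻¹ * e by group, ← hi']
      exact E.mul_mem (E.zpow_mem hzE i) he
    intro q hq
    refine Subgroup.mem_normalizer_iff.mpr fun e => ⟨key q hq e, fun h => ?_⟩
    have := key q⁻¹ (Q.inv_mem hq) _ h
    simpa [mul_assoc] using this
  set A := F.autGroup E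
  set U := shift A zR
  let ρ : ↥Q →* ↥A :=
    (E.normalizerMonoidHom.comp (Subgroup.inclusion (fun q hq => hnorm q hq))).codRestrict A fun q =>
      autInducedBy_le_autGroup F hES ((mem_autInducedBy _).mpr ⟨q, hQS q.2, fun _ => rfl⟩)
  have hρU : ρ.range ≤ U := by
    rintro _ ⟨q, rfl⟩
    refine ⟨Subtype.ext ?_, fun v => ?_⟩
    · show (q : Ω) * z * (q : Ω)⁻¹ = z
      rw [Subgroup.mem_centralizer_iff.mp hzQc.2 q q.2, mul_inv_cancel_right]
    · obtain ⟨i, hi⟩ := Subgroup.mem_zpowers_iff.mp (hgen q ⟨v, hEQ v.2⟩)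
      refine ⟨i, Subtype.ext ?_⟩
      have hi' : z ^ i = (q : Ω) * v * (q : Ω)⁻¹ * (v : Ω)⁻¹ := congrArg Subtype.val hi
      show (q : Ω) * v * (q : Ω)⁻¹ = v * z ^ i
      rw [(Commute.zpow_right (show Commute (v : Ω) z from Subgroup.mem_centralizer_iff.mp hzQc.2 v (hEQ v.2)) i).eq, hi',
        inv_mul_cancel_right]
  have hρk : ∀ q : ↥Q, (ρ q : MulAut ↥E) ∈ Inn ↥E → (q : Ω) ∈ E := by
    intro q hI
    obtain ⟨r, hr⟩ := (hI : (ρ q : MulAut ↥E) ∈ MulAut.conj.range)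
    have hcen : (r : Ω)⁻¹ * q ∈ centralizerIn S E := by
      refine ⟨S.mul_mem (S.inv_mem (hES r.2)) (hQS q.2), Subgroup.mem_centralizer_iff.mpr fun y hy => ?_⟩
      have h1 : (r : Ω) * y * (r : Ω)⁻¹ = q * y * (q : Ω)⁻¹ :=
        congrArg Subtype.val (DFunLike.congr_fun hr (⟨y, hy⟩ : ↥E))
      calc y * ((r : Ω)⁻¹ * q) = (r : Ω)⁻¹ * ((r : Ω) * y * (r : Ω)⁻¹) * q := by group
        _ = (r : Ω)⁻¹ * q * y := by rw [h1]; group
    have := E.mul_mem r.2 (hE.1.2 E (IsConj.refl F hES) hcen)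
    rwa [mul_inv_cancel_left] at this
  obtain ⟨q₀, hq₀, hq₀E⟩ := SetLike.exists_of_lt (lt_of_le_of_ne hEQ hne)
  -- `E` is abelian
  have hab : ∀ x y : ↥E, x * y = y * x := by
    by_contra hnab
    push Not at hnab
    obtain ⟨x, y, hxy⟩ := hnab
    have hcm : ∀ u v : ↥E, ⁅u, v⁆ ∈ Subgroup.zpowers zR := fun u v => by
      obtain ⟨i, hi⟩ := Subgroup.mem_zpowers_iff.mp (hgen ⟨u, hEQ u.2⟩ ⟨v, hEQ v.2⟩)
      exact ⟨i, Subtype.ext (show z ^ i = (u : Ω) * v * (u : Ω)⁻¹ * (v : Ω)⁻¹ from congrArg Subtype.val hi)⟩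
    have hzgen : zR ∈ Subgroup.zpowers ⁅x, y⁆ := by
      obtain ⟨k, hk⟩ := Subgroup.mem_zpowers_iff.mp (mem_zpowers_of_prime_card
        (g := (⟨_, hcm x y⟩ : ↥(Subgroup.zpowers zR))) (g' := ⟨zR, Subgroup.mem_zpowers zR⟩)
        (by rw [Nat.card_zpowers, hzR]) fun h => hxy (commutatorElement_eq_one_iff_mul_comm.mp (congrArg Subtype.val h)))
      exact ⟨k, congrArg Subtype.val hk⟩
    have hstab : ∀ g : MulAut ↥E, g zR ∈ Subgroup.zpowers zR := fun g => by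
      obtain ⟨k, hk⟩ := Subgroup.mem_zpowers_iff.mp hzgen
      rw [← hk, map_zpow, map_commutatorElement, hk]
      exact zpow_mem (hcm _ _) k
    haveI hUn : U.Normal := ⟨fun a ha g => shift_conj_mem (hstab g) (hstab _) ha⟩
    have hUp : IsPGroup p ↥U := fun a => ⟨1, Subtype.ext (by rw [pow_one, SubmonoidClass.coe_pow]; exact pow_shift hzR a.2)⟩
    refine hq₀E (hρk ⟨q₀, hq₀⟩ ?_)
    rw [← (isRadical_of_essential p hS hE).2]
    exact ⟨_, CfsgLib.Core.le_pCore hUn hUp (hρU ⟨_, rfl⟩), rfl⟩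
  have hInn : Inn ↥E = ⊥ := CfsgLib.Fusion.inn_eq_bot hab
  -- `E` has index at least `p ^ 2` in `Q`
  have hQc : p ^ 5 ≤ Nat.card ↥Q := by
    have h := Subgroup.card_mul_index (Q.subgroupOf S)
    rw [hQi, Nat.card_congr (Subgroup.subgroupOfEquivOfLe hQS).toEquiv] at h
    rw [← h, pow_succ] at h6
    exact Nat.le_of_mul_le_mul_right h6 hprime.pos
  set E' := E.subgroupOf Q with hE'
  have hkerρ : ρ.ker ≤ E' := fun q hq => Subgroup.mem_subgroupOf.mpr (hρk q (by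
    rw [MonoidHom.mem_ker.mp hq]; exact one_mem _))
  have hU2 : p ^ 2 ≤ Nat.card ↥U := by
    refine le_trans ?_ (Subgroup.card_le_of_le hρU)
    rw [← Subgroup.index_ker ρ]
    refine le_trans ?_ (Nat.le_of_dvd (Nat.pos_of_ne_zero Subgroup.index_ne_zero_of_finite) (Subgroup.index_dvd_of_le hkerρ))
    obtain ⟨k, hk⟩ := IsPGroup.index (hS.to_le hQS) E'
    rw [hk]
    refine Nat.pow_le_pow_right hprime.pos ?_
    by_contra hk2
    have hq₀' : (⟨q₀, hq₀⟩ : ↥Q) ∉ E' := fun h => hq₀E (Subgroup.mem_subgroupOf.mp h)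
    set a : ↥Q := ⟨q₀, hq₀⟩
    have hk1 : E'.index ≤ p := by
      rw [hk]; exact le_trans (Nat.pow_le_pow_right hprime.pos (by omega : k ≤ 1)) (pow_one p).le
    have htop : E' ⊔ Subgroup.zpowers a = ⊤ := by
      refine Subgroup.eq_top_of_card_eq _ (le_antisymm (Nat.le_of_dvd Nat.card_pos (Subgroup.card_subgroup_dvd_card _)) ?_)
      have hlt : E' < E' ⊔ Subgroup.zpowers a :=
        lt_of_le_of_ne le_sup_left fun h => hq₀' (h.ge (Subgroup.mem_sup_right (Subgroup.mem_zpowers a)))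
      obtain ⟨i, hi⟩ := IsPGroup.iff_card.mp ((hS.to_le hQS).to_subgroup E')
      obtain ⟨j, hj⟩ := IsPGroup.iff_card.mp ((hS.to_le hQS).to_subgroup (E' ⊔ Subgroup.zpowers a))
      have hij : i < j := by
        have hcl : Nat.card ↥E' < Nat.card ↥(E' ⊔ Subgroup.zpowers a) := lt_of_le_of_ne (Subgroup.card_le_of_le hlt.le)
          fun he => hlt.ne (Subgroup.eq_of_le_of_card_ge hlt.le he.ge)
        rw [hi, hj] at hcl
        exact (Nat.pow_lt_pow_iff_right hprime.one_lt).mp hcl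
      rw [hj, ← Subgroup.card_mul_index E', hi]
      calc p ^ i * E'.index ≤ p ^ i * p := Nat.mul_le_mul_left _ hk1
        _ = p ^ (i + 1) := (pow_succ p i).symm
        _ ≤ p ^ j := Nat.pow_le_pow_right hprime.pos hij
    have hZc : ∀ x y : ↥Q, ⁅x, y⁆ ∈ Subgroup.center ↥Q := fun x y =>
      (Subgroup.zpowers_le.mpr hzZ) (hgen x y)
    let f : ↥E' →* ↥(Subgroup.center ↥Q) := MonoidHom.mk' (fun e => ⟨⁅(e : ↥Q), a⁆, hZc _ _⟩) fun e e' => Subtype.ext (by
      show ⁅(e : ↥Q) * e', a⁆ = ⁅(e : ↥Q), a⁆ * ⁅(e' : ↥Q), a⁆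
      rw [show ⁅(e : ↥Q) * e', a⁆ = (e : ↥Q) * ⁅(e' : ↥Q), a⁆ * (e : ↥Q)⁻¹ * ⁅(e : ↥Q), a⁆ by
          simp [commutatorElement_def, mul_assoc],
        Subgroup.mem_center_iff.mp (hZc _ _) (e : ↥Q), mul_inv_cancel_right,
        Subgroup.mem_center_iff.mp (hZc _ _) ⁅(e' : ↥Q), a⁆])
    have hker : f.ker.map E'.subtype ≤ Subgroup.center ↥Q := by
      rintro _ ⟨e, he, rfl⟩
      have hea : (e : ↥Q) * a = a * e := commutatorElement_eq_one_iff_mul_comm.mp (congrArg Subtype.val he)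
      refine Subgroup.mem_center_iff.mpr fun g => ?_
      have hg : g ∈ Subgroup.centralizer ({(e : ↥Q)} : Set ↥Q) := by
        refine (?_ : (⊤ : Subgroup ↥Q) ≤ _) (Subgroup.mem_top g)
        rw [← htop]
        refine sup_le (fun x hx => ?_) (Subgroup.zpowers_le.mpr (Subgroup.mem_centralizer_singleton_iff.mpr hea.symm))
        refine Subgroup.mem_centralizer_singleton_iff.mpr (Subtype.ext ?_)
        show ((x : Ω)) * ((e : ↥Q) : Ω) = ((e : ↥Q) : Ω) * x
        exact congrArg Subtype.val (hab ⟨x, Subgroup.mem_subgroupOf.mp hx⟩ ⟨(e : ↥Q), Subgroup.mem_subgroupOf.mp e.2⟩)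
      exact Subgroup.mem_centralizer_singleton_iff.mp hg
    have h1 : Nat.card ↥f.ker ≤ p := by
      rw [← hcard, ← Subgroup.card_map_of_injective (K := f.ker) E'.subtype_injective]
      exact Subgroup.card_le_of_le hker
    have h2 : Nat.card ↥E' ≤ p * p := by
      rw [← Subgroup.card_mul_index f.ker, Subgroup.index_ker]
      exact Nat.mul_le_mul h1 (hcard ▸ Nat.le_of_dvd Nat.card_pos (Subgroup.card_subgroup_dvd_card _))
    have h3 : Nat.card ↥Q ≤ p * p * p := by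
      rw [← Subgroup.card_mul_index E']
      exact Nat.mul_le_mul h2 hk1
    have := hQc.trans h3
    rw [show p * p * p = p ^ 3 by ring] at this
    exact absurd ((Nat.pow_le_pow_iff_right hprime.one_lt).mp this) (by norm_num)
  -- strong embedding
  obtain ⟨hn, M₀, hM₀⟩ := hE.2.2
  haveI := hn
  set π := QuotientGroup.mk' ((Inn ↥E).subgroupOf A)
  have hπ : Function.Injective π := by
    rw [← MonoidHom.ker_eq_bot_iff, QuotientGroup.ker_mk', hInn, Subgroup.bot_subgroupOf]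
  have hπs : Function.Surjective π := QuotientGroup.mk'_surjective _
  obtain ⟨hd, hne', hfus⟩ := CfsgLib.SPE.spe_iff_fusion.mp hM₀
  set M₁ := M₀.comap π
  have hM₁ : ∀ x ∈ M₁, orderOf x = p → ∀ g : ↥A, g⁻¹ * x * g ∈ M₁ → g ∈ M₁ := fun x hx hxp g hg =>
    hfus (π x) hx (by rw [orderOf_injective π hπ, hxp]) (π g) (by
      show (π g)⁻¹ * π x * π g ∈ M₀
      rw [← map_inv, ← map_mul, ← map_mul]; exact hg)
  have hUp : IsPGroup p ↥U := fun a => ⟨1, Subtype.ext (by rw [pow_one, SubmonoidClass.coe_pow]; exact pow_shift hzR a.2)⟩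
  -- move `U` into `M₁`
  obtain ⟨P, hP⟩ := CfsgLib.SPE.exists_sylow_le
    ((CfsgLib.SPE.spe_iff_normClosed).mp hM₀).2.2 hd
  obtain ⟨P', hP'⟩ := (hUp.map π).exists_le_sylow
  obtain ⟨w, hw⟩ := MulAction.exists_smul_eq (↥A ⧸ (Inn ↥E).subgroupOf A) P' P
  obtain ⟨c, rfl⟩ := hπs w
  let M := M₁.comap (MulAut.conj c).toMonoidHom
  have hUM : U ≤ M := fun u hu => by
    show π (c * u * c⁻¹) ∈ M₀
    refine hP ?_
    have h := Subgroup.smul_mem_pointwise_smul (π u) (MulAut.conj (π c)) _ (hP' ⟨u, hu, rfl⟩)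
    rw [← Sylow.coe_subgroup_smul] at h
    erw [hw] at h
    rw [map_mul, map_mul, map_inv]
    exact h
  have hMtop : M = ⊤ := eq_top_of_fusion hab hzR hU2 M hUM fun x hx hxp g hg => by
    show MulAut.conj c g ∈ M₁
    refine hM₁ (MulAut.conj c x) hx (((MulAut.conj c).orderOf_eq x).trans hxp) _ ?_
    rw [← map_inv, ← map_mul, ← map_mul]
    exact hg
  refine hne' (top_le_iff.mp fun y _ => ?_)
  obtain ⟨g, rfl⟩ := hπs y
  have h : c⁻¹ * g * c ∈ M := hMtop ▸ Subgroup.mem_top _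
  have h' : MulAut.conj c (c⁻¹ * g * c) ∈ M₁ := h
  rwa [show MulAut.conj c (c⁻¹ * g * c) = g by simp [mul_assoc]] at h'

end CfsgLib.Fusion.ExtraspecialEssential
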