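import Cfsg.Agent.Lib.Fusion.Tate

/-! A saturated system with inner top automorphisms and strongly closed Frattini subgroup is inner. -/

set_option autoImplicit false
set_option linter.unusedSectionVars false

namespace CfsgLib.Biset

open Cfsg Cfsg.FusionSystem CfsgLib.Fusion

section Generic

variable {T : Type*} [Group T] {X : Type*} [MulAction (T × T) X] {A : Type*} [CommGroup A]

theorem smul_mem_left_iff (C : SubMulAction (T × T) X) (g : T × T) (x : X) : g • x ∈ C ↔ x ∈ C :=
  ⟨fun h => by simpa using C.smul_mem g⁻¹ h, fun h => C.smul_mem g h⟩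

theorem lfree_sub (hfree : LFree T X) (C : SubMulAction (T × T) X) : LFree T C :=
  fun s x h => hfree s x (congrArg Subtype.val h)

theorem isLEquiv_sub {f : T →* A} {κ : X → A} (hκ : IsLEquiv f κ) (C : SubMulAction (T × T) X) :
    IsLEquiv f fun x : C => κ x := fun s x => hκ s x

variable [Finite X]

theorem tr_split {f : T →* A} {κ : X → A} (hκ : IsLEquiv f κ) (C C' : SubMulAction (T × T) X)
    (hC : ∀ z, z ∈ C' ↔ z ∉ C) (q : T) :
    tr hκ q = tr (isLEquiv_sub hκ C) q * tr (isLEquiv_sub hκ C') q ∧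
      Nat.card (LOrb T X) = Nat.card (LOrb T C) + Nat.card (LOrb T C') := by
  classical
  haveI : Fintype (LOrb T X) := Fintype.ofFinite _
  haveI : Fintype (LOrb T C) := Fintype.ofFinite _
  haveI : Fintype (LOrb T C') := Fintype.ofFinite _
  let i : LOrb T C → LOrb T X :=
    Quotient.map (fun x : C => (x : X)) fun x y ⟨s, h⟩ => ⟨s, congrArg Subtype.val h⟩
  let i' : LOrb T C' → LOrb T X :=
    Quotient.map (fun x : C' => (x : X)) fun x y ⟨s, h⟩ => ⟨s, congrArg Subtype.val h⟩
  have hbij : Function.Bijective (Sum.elim i i') := by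
    constructor
    · rintro (ox | ox) (oy | oy) h <;> obtain ⟨x, rfl⟩ := Quotient.exists_rep ox <;>
        obtain ⟨y, rfl⟩ := Quotient.exists_rep oy
      · obtain ⟨s, hs⟩ : (lrel T X).r (x : X) (y : X) := Quotient.exact h
        exact congrArg Sum.inl (Quotient.sound ⟨s, Subtype.ext hs⟩)
      · obtain ⟨s, hs⟩ : (lrel T X).r (x : X) (y : X) := Quotient.exact h
        exact absurd ((smul_mem_left_iff C ((s, 1) : T × T) (x : X)).mpr x.2) (hs ▸ (hC _).mp y.2)
      · obtain ⟨s, hs⟩ : (lrel T X).r (x : X) (y : X) := Quotient.exact h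
        exact absurd ((smul_mem_left_iff C ((s, 1) : T × T) (x : X)).mp (hs ▸ y.2)) ((hC _).mp x.2)
      · obtain ⟨s, hs⟩ : (lrel T X).r (x : X) (y : X) := Quotient.exact h
        exact congrArg Sum.inr (Quotient.sound ⟨s, Subtype.ext hs⟩)
    · rintro ⟨x⟩
      by_cases hx : x ∈ C
      · exact ⟨Sum.inl (Quotient.mk _ ⟨x, hx⟩), rfl⟩
      · exact ⟨Sum.inr (Quotient.mk _ ⟨x, (hC x).mpr hx⟩), rfl⟩
  refine ⟨?_, by rw [← Nat.card_sum, Nat.card_eq_of_bijective _ hbij]⟩
  rw [tr_apply, tr_apply, tr_apply, ← (Equiv.ofBijective _ hbij).prod_comp, Fintype.prod_sum_type]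
  congr 1
  · refine Finset.prod_congr rfl fun o _ => ?_
    have h : (lrel T X).r (i o).out (o.out : C) := by
      refine Quotient.exact ?_
      rw [Quotient.out_eq]
      conv_lhs => rw [← Quotient.out_eq o]
      rfl
    exact delta_congr hκ q h
  · refine Finset.prod_congr rfl fun o _ => ?_
    have h : (lrel T X).r (i' o).out (o.out : C') := by
      refine Quotient.exact ?_
      rw [Quotient.out_eq]
      conv_lhs => rw [← Quotient.out_eq o]
      rfl
    exact delta_congr hκ q h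

end Generic

/-- Orbits with proper right projection contribute trivially to a transfer killing `Φ`. -/
theorem tr_small {T : Type*} [Group T] [Finite T] {A : Type*} [CommGroup A] (p : ℕ) [Fact p.Prime]
    (hT : IsPGroup p T) (f : T →* A) (Φ : Subgroup T) :
    ∀ (n : ℕ) {X : Type*} [MulAction (T × T) X] [Finite X], Nat.card X = n → LFree T X →
      ∀ {κ : X → A} (hκ : IsLEquiv f κ),
      (∀ x : X, ∃ M : Subgroup T, M.Normal ∧ M ≠ ⊤ ∧
        (∀ u, u ∉ M → ∀ v ∈ Subgroup.zpowers u, v ∈ M → v ∈ Φ) ∧ ∀ g : T × T, g • x = x → g.2 ∈ M) →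
      (∀ (g : T × T) (x : X), g • x = x → g.2 ∈ Φ → f g.1 = 1) →
      (∀ u, tr hκ u = 1) ∧ p ∣ Nat.card (LOrb T X) := by
  classical
  intro n
  induction n using Nat.strong_induction_on with
  | _ n ih =>
    intro X _ _ hn hfree κ hκ hM hf
    rcases isEmpty_or_nonempty X with hX | ⟨⟨x⟩⟩
    · haveI : IsEmpty (LOrb T X) := ⟨fun o => isEmptyElim o.out⟩
      haveI : Fintype (LOrb T X) := Fintype.ofFinite _
      exact ⟨fun u => by rw [tr_apply]; simp, by simp⟩
    let C : SubMulAction (T × T) X :=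
      ⟨MulAction.orbit (T × T) x, fun g _ h => (CfsgLib.Marks.smul_mem_orbit' g).mpr h⟩
    let C' : SubMulAction (T × T) X :=
      ⟨(MulAction.orbit (T × T) x)ᶜ, fun g _ h hc => h ((CfsgLib.Marks.smul_mem_orbit' g).mp hc)⟩
    have hlt : Nat.card C' < n := by
      rw [← hn]
      exact Finite.card_subtype_lt (x := x) fun hc => hc (MulAction.mem_orbit_self x)
    obtain ⟨h1, h2⟩ := ih _ hlt rfl (lfree_sub hfree C') (isLEquiv_sub hκ C')
      (fun y => by
        obtain ⟨M, a, b, c, e⟩ := hM (y : X)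
        exact ⟨M, a, b, c, fun g hg => e g (congrArg Subtype.val hg)⟩)
      (fun g y hg => hf g _ (congrArg Subtype.val hg))
    obtain ⟨M, hMn, hMne, hMΦ, hMx⟩ := hM x
    have hMC : ∀ (g : T × T) (y : C), g • y = y → g.2 ∈ M := by
      rintro g ⟨_, a, rfl⟩ hg
      have hg' : g • a • x = a • x := congrArg Subtype.val hg
      have := hMx (a⁻¹ * g * a) (by rw [mul_smul, mul_smul, hg', inv_smul_smul])
      simpa [mul_assoc] using hMn.conj_mem _ this a.2
    haveI : Fintype (LOrb T C) := Fintype.ofFinite _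
    have hout : ∀ u, u ∉ M → tr (isLEquiv_sub hκ C) u = 1 := by
      intro u hu
      obtain ⟨κ', -, hκ'⟩ := exists_equivariant (X := C) ((MonoidHom.id T).prodMap (Subgroup.zpowers u).subtype)
        ((MulAction.toPermHom A A).comp (f.comp (MonoidHom.fst T ↥(Subgroup.zpowers u))))
        (fun _ _ => True) (fun _ _ _ _ => trivial) (fun y => ⟨1, trivial, fun g hg => by
          show f g.1 * 1 = 1
          rw [mul_one]
          exact hf (g.1, (g.2 : T)) y (congrArg Subtype.val hg) (hMΦ u hu _ g.2.2 (hMC _ y hg))⟩)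
      have h : IsLEquiv f κ' := fun s y => hκ' (s, 1) y
      have h' : ∀ y : C, κ' (((1, u) : T × T) • y) = κ' y := fun y => by
        have := hκ' (1, ⟨u, Subgroup.mem_zpowers u⟩) y
        refine this.trans ?_
        show f 1 * κ' y = κ' y
        rw [map_one, one_mul]
      rw [tr_indep (isLEquiv_sub hκ C) h, tr_apply]
      exact Finset.prod_eq_one fun o _ => by rw [h', mul_inv_cancel]
    have hall : ∀ u, tr (isLEquiv_sub hκ C) u = 1 := by
      intro u
      obtain ⟨w, hw⟩ : ∃ w, w ∉ M := by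
        by_contra h
        exact hMne (Subgroup.eq_top_iff' M |>.mpr fun y => by_contra fun hy => h ⟨y, hy⟩)
      by_cases hu : u ∈ M
      · have huw : u * w ∉ M := fun h => hw ((Subgroup.mul_mem_cancel_left M hu).mp h)
        rw [show u = u * w * w⁻¹ from (mul_inv_cancel_right u w).symm, map_mul, map_inv, hout _ huw, hout _ hw,
          inv_one, one_mul]
      · exact hout u hu
    have hdvd : p ∣ Nat.card (LOrb T C) := by
      have h3 := card_eq_mul_lorb (X := C) (lfree_sub hfree C)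
      have h4 : Nat.card C * Nat.card ↥(MulAction.stabilizer (T × T) x) = Nat.card T * Nat.card T := by
        rw [← Nat.card_prod T T, ← Nat.card_congr (MulAction.orbitProdStabilizerEquivGroup (T × T) x), Nat.card_prod]
        rfl
      rw [h3, mul_assoc] at h4
      have h5 := Nat.eq_of_mul_eq_mul_left Nat.card_pos h4
      by_contra hd
      obtain ⟨k, hk⟩ := IsPGroup.iff_card.mp hT
      have h6 : Nat.card (LOrb T C) ∣ p ^ k := ⟨_, by rw [← hk, ← h5]⟩
      obtain ⟨i, -, hi⟩ := (Nat.dvd_prime_pow (Fact.out : p.Prime)).mp h6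
      rcases i with _ | i
      · rw [hi, pow_zero, one_mul] at h5
        have hle : Nat.card ↥(MulAction.stabilizer (T × T) x) ≤ Nat.card ↥M := by
          refine Nat.card_le_card_of_injective
            (fun g => (⟨(g : T × T).2, hMx g g.2⟩ : ↥M)) fun a b hab => ?_
          have hab' : (a : T × T).2 = (b : T × T).2 := congrArg Subtype.val hab
          have hs := (a * b⁻¹).2
          rw [MulAction.mem_stabilizer_iff, show ((a * b⁻¹ : ↥(MulAction.stabilizer (T × T) x)) : T × T) =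
            ((a : T × T).1 * (b : T × T).1⁻¹, 1) from by ext <;> simp [hab']] at hs
          exact Subtype.ext (Prod.ext (mul_inv_eq_one.mp (hfree _ x hs)) hab')
        have : M = ⊤ := Subgroup.eq_top_of_card_eq M (le_antisymm (Subgroup.card_le_card_group M) (h5 ▸ hle))
        exact hMne this
      · exact hd (hi ▸ dvd_pow_self p (Nat.succ_ne_zero i))
    refine ⟨fun u => ?_, ?_⟩
    · rw [(tr_split hκ C C' (fun z => Iff.rfl) u).1, hall, h1, one_mul]
    · rw [(tr_split hκ C C' (fun z => Iff.rfl) 1).2]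
      exact dvd_add hdvd h2

universe u

variable {Ω : Type u} [Group Ω] {S : Subgroup Ω} [Finite ↥S] {F : FusionSystem S} (p : ℕ) [Fact p.Prime]

theorem focal_le_frattini (hS : IsPGroup p ↥S) (hF : F.IsSaturated p)
    (hAut : ∀ ψ ∈ F.Hom S, ∃ q ∈ S, ∀ x : S, ψ x = q * (x : Ω) * q⁻¹)
    (hΦ : F.StronglyClosed ((frattini ↥S).map S.subtype)) :
    F.focalSubgroup ≤ (frattini ↥S).map S.subtype := by
  classical
  obtain ⟨hcomm, hpow⟩ := Cfsg.Agent.S0012.result p hS
  haveI : IsMulCommutative (↥S ⧸ frattini ↥S) := Subgroup.Normal.quotient_commutative_iff_commutator_le.mpr hcomm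
  letI : CommGroup (↥S ⧸ frattini ↥S) := IsMulCommutative.instCommGroup
  let f : ↥S →* ↥S ⧸ frattini ↥S := QuotientGroup.mk' _
  obtain ⟨B, d, hst, hd, hc, -⟩ := exists_characteristic p hS hF
  obtain ⟨κ, hκ⟩ := exists_isLEquiv B.lfree f
  let P : B.X → Prop := fun x => Nat.card ↥(MulAction.stabilizer (↥S × ↥S) x) = Nat.card ↥S
  have hP : ∀ (g : ↥S × ↥S) (x : B.X), P (g • x) ↔ P x := fun g x => by
    show Nat.card ↥(MulAction.stabilizer (↥S × ↥S) (g • x)) = _ ↔ _
    rw [MulAction.stabilizer_smul_eq_stabilizer_map_conj,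
      ← Nat.card_congr ((MulAction.stabilizer (↥S × ↥S) x).equivMapOfInjective _ (MulAut.conj g).injective).toEquiv]
  let C : SubMulAction (↥S × ↥S) B.X := ⟨{x | P x}, fun g x h => (hP g x).mpr h⟩
  let C' : SubMulAction (↥S × ↥S) B.X := ⟨{x | ¬ P x}, fun g x h hc => h ((hP g x).mp hc)⟩
  have hsplit := fun u => tr_split hκ C C' (fun z => Iff.rfl) u
  have htop : ∀ (g : ↥S × ↥S) (x : C), g.2 ∈ (⊤ : Subgroup ↥S) → g • x = x → f g.1 = f g.2 := by
    rintro g ⟨x, hx⟩ - hg
    obtain ⟨Q, ψ, hgQ, hψ, hst', h1⟩ := B.exists_map_of_fix (congrArg Subtype.val hg : g • x = x)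
    have hQS : Q = S := Subgroup.eq_of_le_of_card_ge (le_S hψ) (by
      rw [← card_graph hψ, ← hst']
      exact hx.ge)
    obtain ⟨q, hq, hψq⟩ := hAut _ (restrict_mem hψ hQS.ge)
    rw [show g.1 = ⟨q, hq⟩ * g.2 * (⟨q, hq⟩ : ↥S)⁻¹ from Subtype.ext (h1.trans (hψq g.2)), map_mul, map_mul, map_inv,
      mul_inv_cancel_comm]
  have hsmall := tr_small p hS f (frattini ↥S) _ rfl (lfree_sub B.lfree C') (isLEquiv_sub hκ C') (fun y => ?_) ?_
  · have hd' : ¬ p ∣ Nat.card (LOrb ↥S C) := fun h => hd (by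
      rw [← B.card_lorb hc, (hsplit 1).2]
      exact dvd_add h hsmall.2)
    intro z hz
    have hzS := focal_le F hz
    have h1 : tr hκ ⟨z, hzS⟩ = 1 := B.tr_focal hst hκ (Subgroup.mem_subgroupOf.mpr hz)
    rw [(hsplit _).1, hsmall.1, mul_one, tr_eval _ ⊤ htop (Subgroup.mem_top _), inv_pow, inv_eq_one] at h1
    exact ⟨⟨z, hzS⟩, (QuotientGroup.eq_one_iff _).mp (eq_one_of_pow_eq_one (hS.to_quotient _) hd' h1), rfl⟩
  · obtain ⟨x, hx⟩ := y
    obtain ⟨Q, ψ, hψ, he⟩ := B.twisted x
    have hQ : Q.subgroupOf S ≠ ⊤ := fun h => hx (by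
      show Nat.card ↥(MulAction.stabilizer (↥S × ↥S) x) = _
      rw [he, card_graph hψ, le_antisymm (le_S hψ) (Subgroup.subgroupOf_eq_top.mp h)])
    obtain ⟨M, hM, hQM⟩ := (eq_top_or_exists_le_coatom (Q.subgroupOf S)).resolve_left hQ
    haveI : Group.IsNilpotent ↥S := IsPGroup.isNilpotent hS
    have hMn : M.Normal := Subgroup.NormalizerCondition.normal_of_coatom M Group.normalizerCondition_of_isNilpotent hM
    refine ⟨M, hMn, hM.1, fun u hu v hv hvM => ?_, fun g hg => hQM ?_⟩
    · obtain ⟨i, rfl⟩ := Subgroup.mem_zpowers_iff.mp hv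
      have hupM : u ^ p ∈ M := frattini_le_coatom hM (hpow u)
      by_cases hi : (p : ℤ) ∣ i
      · obtain ⟨j, rfl⟩ := hi
        rw [zpow_mul, zpow_natCast]
        exact Subgroup.zpow_mem _ (hpow u) j
      · exfalso
        obtain ⟨a, b, hab⟩ := (Prime.coprime_iff_not_dvd (Nat.prime_iff_prime_int.mp (Fact.out : p.Prime))).mpr hi
        refine hu ?_
        rw [show u = (u ^ p) ^ a * (u ^ i) ^ b from by
          rw [← zpow_natCast u p, ← zpow_mul, ← zpow_mul, ← zpow_add, mul_comm (p : ℤ), mul_comm i, hab, zpow_one]]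
        exact mul_mem (M.zpow_mem hupM a) (M.zpow_mem hvM b)
    · have hg' : g • x = x := congrArg Subtype.val hg
      obtain ⟨y, -, h2⟩ : g ∈ graph S Q ψ := he ▸ hg'
      exact Subgroup.mem_subgroupOf.mpr (h2 ▸ y.2)
  · intro g x hg hgΦ
    obtain ⟨Q, ψ, hgQ, hψ, -, h1⟩ := B.exists_map_of_fix (congrArg Subtype.val hg : g • (x : B.X) = x)
    refine (QuotientGroup.eq_one_iff _).mpr ?_
    have hR : Q ⊓ (frattini ↥S).map S.subtype ≤ Q := inf_le_left
    have h2 := hΦ.2 (Q ⊓ (frattini ↥S).map S.subtype) inf_le_right _ (restrict_mem hψ hR)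
      ⟨(g.2 : Ω), hgQ, g.2, hgΦ, rfl⟩
    obtain ⟨z, hz, hze⟩ := h2
    rw [show g.1 = z from Subtype.ext (h1.trans hze.symm)]
    exact hz

/-- A saturated system with inner top automorphisms and strongly closed Frattini subgroup is inner. -/
theorem inner_of_frattini (hS : IsPGroup p ↥S) (hF : F.IsSaturated p)
    (hAut : ∀ ψ ∈ F.Hom S, ∃ q ∈ S, ∀ x : S, ψ x = q * (x : Ω) * q⁻¹)
    (hΦ : F.StronglyClosed ((frattini ↥S).map S.subtype)) {P : Subgroup Ω} {φ : ↥P →* Ω} (hφ : φ ∈ F.Hom P) :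
    ∃ g ∈ S, ∀ x : P, φ x = g * (x : Ω) * g⁻¹ := by
  have h1 : F.focalSubgroup ≤ ⁅S, S⁆ := focal_le_of_frattini p hS hF le_rfl (commutator_le_focal F)
    ((focal_le_frattini p hS hF hAut hΦ).trans le_sup_left)
  have h2 : hypS p F = ⊥ := by
    refine le_bot_iff.mp (hyp_le_of_focal_le p hS hF bot_le fun x hx => Subgroup.mem_sup_right ?_)
    obtain ⟨z, hz, hzx⟩ : (x : Ω) ∈ (commutator ↥S).map S.subtype := by
      rw [map_commutator_eq]
      exact h1 (hyp_le_focal p F (Subgroup.mem_subgroupOf.mp hx))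
    exact Subtype.ext hzx ▸ hz
  obtain ⟨q, hq⟩ := exists_conj_mod_hyp p hS hF hφ
  obtain ⟨g, rfl⟩ := QuotientGroup.mk_surjective q
  refine ⟨g, g.2, fun x => ?_⟩
  have h3 := QuotientGroup.eq.mp (hq x (le_S hφ x.2) (apply_mem_S hφ x))
  rw [h2, Subgroup.mem_bot, inv_mul_eq_one] at h3
  exact congrArg Subtype.val h3

end CfsgLib.Biset
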