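import Cfsg.Agent.Lib.Fusion.SmallGroup

/-! Automorphisms fixing a maximal invariant small abelian subgroup. (helper6) -/

set_option autoImplicit false
set_option linter.unusedSectionVars false
set_option linter.style.haveILetI false

namespace CfsgLib.Fusion

open Cfsg Cfsg.FusionSystem
open scoped commutatorElement

variable {Ω : Type*} [Group Ω]

/-- An abelian subgroup of small elements. -/
def SmallAb (p : ℕ) (A : Subgroup Ω) : Prop := (∀ a ∈ A, ∀ b ∈ A, a * b = b * a) ∧ ∀ a ∈ A, Small p a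

theorem small_iff {P : Type*} [Group P] {p : ℕ} (x : P) : Small p x ↔ x ^ (if p = 2 then 4 else p) = 1 := by
  by_cases h : p = 2
  · subst h
    rw [if_pos rfl]
    exact ⟨fun hx => hx.elim (fun h2 => by rw [show 4 = 2 * 2 from rfl, pow_mul, h2, one_pow]) And.right,
      fun hx => Or.inr ⟨rfl, hx⟩⟩
  · rw [if_neg h]
    exact ⟨fun hx => hx.elim id fun h2 => absurd h2.1 h, Or.inl⟩

theorem smallAb_bot (p : ℕ) : SmallAb p (⊥ : Subgroup Ω) :=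
  ⟨fun a ha b hb => by rw [Subgroup.mem_bot.mp ha, Subgroup.mem_bot.mp hb],
    fun a ha => Or.inl (by rw [Subgroup.mem_bot.mp ha, one_pow])⟩

theorem smallAb_sup {p : ℕ} {A B : Subgroup Ω} (hA : SmallAb p A) (hB : SmallAb p B)
    (hAB : ∀ a ∈ A, ∀ b ∈ B, a * b = b * a) : SmallAb p (A ⊔ B) := by
  have hn : A ≤ Subgroup.normalizer (B : Set Ω) := fun a ha =>
    Subgroup.centralizer_le_normalizer _ (Subgroup.mem_centralizer_iff.mpr fun b hb => (hAB a ha b hb).symm)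
  have hmem : ∀ x ∈ A ⊔ B, ∃ a ∈ A, ∃ b ∈ B, x = a * b := by
    intro x hx
    rw [← SetLike.mem_coe, Subgroup.coe_mul_of_left_le_normalizer_right A B hn] at hx
    obtain ⟨a, ha, b, hb, rfl⟩ := hx
    exact ⟨a, ha, b, hb, rfl⟩
  refine ⟨fun x hx y hy => ?_, fun x hx => ?_⟩
  · obtain ⟨a, ha, b, hb, rfl⟩ := hmem x hx
    obtain ⟨c, hc, d, hd, rfl⟩ := hmem y hy
    calc a * b * (c * d) = a * (b * c) * d := by group
      _ = a * (c * b) * d := by rw [hAB c hc b hb]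
      _ = a * c * (b * d) := by group
      _ = c * a * (d * b) := by rw [hA.1 a ha c hc, hB.1 b hb d hd]
      _ = c * (a * d) * b := by group
      _ = c * (d * a) * b := by rw [hAB a ha d hd]
      _ = c * d * (a * b) := by group
  · obtain ⟨a, ha, b, hb, rfl⟩ := hmem x hx
    rw [small_iff, (show Commute a b from hAB a ha b hb).mul_pow, (small_iff a).mp (hA.2 a ha),
      (small_iff b).mp (hB.2 b hb), one_mul]

theorem smallAb_zpowers {p : ℕ} {x : Ω} (hx : Small p x) : SmallAb p (Subgroup.zpowers x) := by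
  refine ⟨?_, ?_⟩
  · rintro _ ⟨i, rfl⟩ _ ⟨j, rfl⟩
    exact ((Commute.refl x).zpow_zpow i j).eq
  · rintro _ ⟨i, rfl⟩
    refine (small_iff (x ^ i)).mpr ?_
    rw [← zpow_natCast, zpow_comm, zpow_natCast, (small_iff x).mp hx, one_zpow]

/-- An automorphism of order prime to `p` fixing a maximal small abelian invariant subgroup is trivial. -/
theorem eq_one_of_fix_maxAbelian {p : ℕ} [Fact p.Prime] {R N H A : Subgroup Ω} [Finite ↥N] (hN : IsPGroup p ↥N)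
    (hRN : R ≤ N) (hNR : N ≤ Subgroup.normalizer (R : Set Ω)) (hNH : N ≤ Subgroup.normalizer (H : Set Ω))
    (hAR : A ≤ R) (hAH : A ≤ H) (hA : SmallAb p A) (hNA : N ≤ Subgroup.normalizer (A : Set Ω))
    (hmax : ∀ B : Subgroup Ω, A ≤ B → B ≤ R → B ≤ H → SmallAb p B → N ≤ Subgroup.normalizer (B : Set Ω) → B ≤ A)
    (𝒜 : Subgroup (MulAut ↥R)) (hc : ∀ n : ↥N, R.normalizerMonoidHom (Subgroup.inclusion hNR n) ∈ 𝒜)
    (hH : ∀ b ∈ 𝒜, (orderOf b).Coprime p → ∀ y : ↥R, (y : Ω)⁻¹ * ((b y : ↥R) : Ω) ∈ H)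
    {α : MulAut ↥R} (hα : α ∈ 𝒜) (hco : (orderOf α).Coprime p)
    (hfix : ∀ a : ↥R, (a : Ω) ∈ A → α a = a) : α = 1 := by
  by_contra hne
  haveI : Finite ↥R := Finite.of_injective _ (Subgroup.inclusion_injective hRN)
  let O : Subgroup (MulAut ↥R) :=
    { carrier := {g | g ∈ 𝒜 ∧ ∀ a : ↥R, (a : Ω) ∈ A ↔ ((g a : ↥R) : Ω) ∈ A}
      one_mem' := ⟨one_mem _, fun a => Iff.rfl⟩
      mul_mem' := fun {g h} hg hh => ⟨mul_mem hg.1 hh.1, fun a => (hh.2 a).trans (hg.2 (h a))⟩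
      inv_mem' := fun {g} hg => ⟨inv_mem hg.1, fun a => by
        have := hg.2 (g⁻¹ a)
        rw [MulAut.apply_inv_self] at this
        exact this.symm⟩ }
  let X : Set (MulAut ↥R) := {b | b ∈ 𝒜 ∧ (orderOf b).Coprime p ∧ ∀ a : ↥R, (a : Ω) ∈ A → b a = a}
  obtain ⟨M, hMinv, ⟨b, hb, x, hx, hbx⟩, hsmall, hMeq⟩ := exists_small_moved_group (hN.to_le hRN) O X
    (fun b hb => ⟨hb.1, fun a => ⟨fun ha => by rw [hb.2.2 a ha]; exact ha, fun ha => by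
      have := hb.2.2 (b a) ha
      rw [b.injective this] at ha
      exact ha⟩⟩)
    (fun g hg b hb => ⟨mul_mem (mul_mem hg.1 hb.1) (inv_mem hg.1),
      by rw [← MulAut.conj_apply, MulEquiv.orderOf_eq]; exact hb.2.1,
      fun a ha => by
        rw [MulAut.mul_apply, MulAut.mul_apply, hb.2.2 (g⁻¹ a) ((hg.2 (g⁻¹ a)).mpr (by rwa [MulAut.apply_inv_self])),
          MulAut.apply_inv_self]⟩)
    (fun b hb => hb.2.1) (show α ∈ X from ⟨hα, hco, hfix⟩) hne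
  set M₀ := M.map R.subtype
  have hM₀R : M₀ ≤ R := Subgroup.map_subtype_le _
  have hM₀s : ∀ y ∈ M₀, Small p y := by rintro _ ⟨y, hy, rfl⟩; exact small_map R.subtype (hsmall y hy)
  have hgen : ∀ y ∈ M, ((y : ↥R) : Ω) ∈ H ∧ ∀ a ∈ A, a * (y : Ω) = (y : Ω) * a := by
    intro y hy
    rw [← hMeq] at hy
    induction hy using Subgroup.closure_induction with
    | mem z hz =>
      obtain ⟨c, hc, w, -, rfl⟩ := hz
      refine ⟨hH c hc.1 hc.2.1 w, fun a ha => ?_⟩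
      have hwa : (w : Ω) * a * (w : Ω)⁻¹ ∈ A := conj_mem_of_normalizer (hNA (hRN w.2)) ha
      have h1 : c (w * ⟨a, hAR ha⟩ * w⁻¹) = w * ⟨a, hAR ha⟩ * w⁻¹ := hc.2.2 _ hwa
      rw [map_mul, map_mul, map_inv, hc.2.2 ⟨a, hAR ha⟩ ha] at h1
      have h2 : (⟨a, hAR ha⟩ : ↥R) * (w⁻¹ * c w) = w⁻¹ * c w * ⟨a, hAR ha⟩ := by
        calc (⟨a, hAR ha⟩ : ↥R) * (w⁻¹ * c w) = w⁻¹ * (w * ⟨a, hAR ha⟩ * w⁻¹) * c w := by group
          _ = w⁻¹ * (c w * ⟨a, hAR ha⟩ * (c w)⁻¹) * c w := by rw [h1]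
          _ = w⁻¹ * c w * ⟨a, hAR ha⟩ := by group
      exact congrArg Subtype.val h2
    | one => exact ⟨one_mem _, fun a _ => by simp⟩
    | mul u v _ _ hu hv => exact ⟨mul_mem hu.1 hv.1, fun a ha => by
        rw [Subgroup.coe_mul, ← mul_assoc, hu.2 a ha, mul_assoc, hv.2 a ha, mul_assoc]⟩
    | inv u _ hu => exact ⟨inv_mem hu.1, fun a ha => by
        rw [Subgroup.coe_inv, eq_inv_mul_iff_mul_eq, ← mul_assoc, ← hu.2 a ha, mul_inv_cancel_right]⟩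
  have hM₀H : M₀ ≤ H := by rintro _ ⟨y, hy, rfl⟩; exact (hgen y hy).1
  have hM₀A : ∀ a ∈ A, ∀ y ∈ M₀, a * y = y * a := by rintro a ha _ ⟨y, hy, rfl⟩; exact (hgen y hy).2 a ha
  have hM₀n : ∀ n ∈ N, ∀ y ∈ M₀, n * y * n⁻¹ ∈ M₀ := by
    rintro n hn _ ⟨y, hy, rfl⟩
    refine ⟨R.normalizerMonoidHom (Subgroup.inclusion hNR ⟨n, hn⟩) y, hMinv _ ⟨hc ⟨n, hn⟩, fun a => ?_⟩ y hy, rfl⟩
    exact Subgroup.mem_normalizer_iff.mp (hNA hn) _
  set Z := M₀ ⊓ Subgroup.centralizer (M₀ : Set Ω)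
  have hZn : ∀ n ∈ N, ∀ z ∈ Z, n * z * n⁻¹ ∈ Z := fun n hn z hz => by
    refine ⟨hM₀n n hn z hz.1, Subgroup.mem_centralizer_iff.mpr fun y hy => ?_⟩
    have h1 := Subgroup.mem_centralizer_iff.mp hz.2 _ (hM₀n n⁻¹ (inv_mem hn) y hy)
    calc y * (n * z * n⁻¹) = n * (n⁻¹ * y * n⁻¹⁻¹ * z) * n⁻¹ := by group
      _ = n * (z * (n⁻¹ * y * n⁻¹⁻¹)) * n⁻¹ := by rw [h1]
      _ = n * z * n⁻¹ * y := by group
  have hnorm : ∀ B : Subgroup Ω, (∀ n ∈ N, ∀ z ∈ B, n * z * n⁻¹ ∈ B) → N ≤ Subgroup.normalizer (B : Set Ω) :=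
    fun B hB n hn => Subgroup.mem_normalizer_iff.mpr fun z => ⟨hB n hn z, fun hz => by
      simpa [mul_assoc] using hB n⁻¹ (inv_mem hn) _ hz⟩
  have hZA : Z ≤ A := by
    refine le_sup_right.trans (hmax (A ⊔ Z) le_sup_left (sup_le hAR (inf_le_left.trans hM₀R))
      (sup_le hAH (inf_le_left.trans hM₀H)) (smallAb_sup hA ?_ fun a ha z hz => hM₀A a ha z hz.1) ?_)
    · exact ⟨fun u hu v hv => (Subgroup.mem_centralizer_iff.mp hv.2 u hu.1), fun u hu => hM₀s u hu.1⟩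
    · intro n hn
      exact mem_normalizer_sup' (hNA hn) (hnorm Z hZn hn)
  classical
  by_cases hle : M₀ ≤ Z
  · exact hbx (hb.2.2 x (hZA (hle ⟨x, hx, rfl⟩)))
  haveI : Group.IsNilpotent ↥N := hN.isNilpotent
  obtain ⟨m, hm⟩ := Subgroup.nilpotent_iff_lowerCentralSeries.mp (inferInstance : Group.IsNilpotent ↥N)
  let C : ℕ → Subgroup Ω := fun i => (Subgroup.lowerCentralSeries (⊤ : Subgroup ↥N) i).map N.subtype
  have hex : ∃ k, M₀ ⊓ C k ≤ Z := ⟨m, by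
    show M₀ ⊓ Subgroup.map _ _ ≤ Z
    rw [hm, Subgroup.map_bot, inf_bot_eq]; exact bot_le⟩
  have hk0 : Nat.find hex ≠ 0 := fun h0 => hle fun y hy => by
    have h := Nat.find_spec hex
    rw [h0] at h
    refine h ⟨hy, ⟨⟨y, hRN (hM₀R hy)⟩, ?_, rfl⟩⟩
    rw [Subgroup.lowerCentralSeries_zero]; exact Subgroup.mem_top _
  obtain ⟨k, hk⟩ : ∃ k, Nat.find hex = k + 1 := ⟨Nat.find hex - 1, by omega⟩
  obtain ⟨y, hy, hyZ⟩ := Set.not_subset.mp (Nat.find_min hex (show k < Nat.find hex by omega))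
  have hstep : ∀ n ∈ N, n * y * n⁻¹ * y⁻¹ ∈ Z := by
    intro n hn
    refine (hk ▸ Nat.find_spec hex : M₀ ⊓ C (k + 1) ≤ Z) ⟨M₀.mul_mem (hM₀n n hn y hy.1) (M₀.inv_mem hy.1), ?_⟩
    obtain ⟨z, hz, hzy⟩ := hy.2
    refine ⟨⟨n, hn⟩ * z * ⟨n, hn⟩⁻¹ * z⁻¹, ?_, by rw [← hzy]; rfl⟩
    have h1 : ⁅z, (⟨n, hn⟩ : ↥N)⁆⁻¹ ∈ Subgroup.lowerCentralSeries (⊤ : Subgroup ↥N) (k + 1) :=
      inv_mem (Subgroup.commutator_mem_commutator hz (Subgroup.mem_top _))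
    simpa [commutatorElement_def, mul_assoc] using h1
  have hyA : y ∈ A := by
    refine hmax (A ⊔ Subgroup.zpowers y) le_sup_left (sup_le hAR (Subgroup.zpowers_le.mpr (hM₀R hy.1)))
      (sup_le hAH (Subgroup.zpowers_le.mpr (hM₀H hy.1)))
      (smallAb_sup hA (smallAb_zpowers (hM₀s y hy.1)) ?_) ?_ (Subgroup.mem_sup_right (Subgroup.mem_zpowers y))
    · rintro a ha _ ⟨i, rfl⟩
      exact ((show Commute a y from hM₀A a ha y hy.1).zpow_right i).eq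
    · refine hnorm _ fun n hn z hz => ?_
      suffices hmap : (A ⊔ Subgroup.zpowers y).map (MulAut.conj n).toMonoidHom ≤ A ⊔ Subgroup.zpowers y from hmap ⟨z, hz, rfl⟩
      rw [Subgroup.map_sup, sup_le_iff]
      refine ⟨(mem_normalizer_iff_cj.mp (hNA hn)).le.trans le_sup_left, ?_⟩
      rw [MonoidHom.map_zpowers, Subgroup.zpowers_le]
      show n * y * n⁻¹ ∈ _
      rw [show n * y * n⁻¹ = (n * y * n⁻¹ * y⁻¹) * y by group]
      exact mul_mem (Subgroup.mem_sup_left (hZA (hstep n hn))) (Subgroup.mem_sup_right (Subgroup.mem_zpowers y))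
  exact hyZ ⟨hy.1, Subgroup.mem_centralizer_iff.mpr fun w hw => (hM₀A y hyA w hw).symm⟩

end CfsgLib.Fusion
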