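import Cfsg.Agent.Lib.Fusion.MaxClassSeries
import Cfsg.Agent.Lib.Fusion.Essential

/-! An automorphism of the second centre moving the centre makes its centralizer essential. (helper6) -/

set_option autoImplicit false
set_option linter.unusedSectionVars false
set_option linter.style.haveILetI false

namespace CfsgLib.Fusion.MaxClassSeries

open Cfsg Cfsg.FusionSystem CfsgLib.Fusion
open scoped commutatorElement

universe u

variable {Ω : Type u} [Group Ω] {S : Subgroup Ω} [Finite ↥S] {p : ℕ} [Fact p.Prime] {F : FusionSystem S}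

/-- The `i`-th centre, in the ambient group. -/
def upperIn (S : Subgroup Ω) (i : ℕ) : Subgroup Ω := (Subgroup.upperCentralSeries ↥S i).map S.subtype

theorem upperIn_le (i : ℕ) : upperIn S i ≤ S := Subgroup.map_subtype_le _

theorem conj_upperIn {i : ℕ} {s v : Ω} (hs : s ∈ S) (hv : v ∈ upperIn S i) : s * v * s⁻¹ ∈ upperIn S i := by
  obtain ⟨w, hw, rfl⟩ := hv
  exact ⟨_, (inferInstance : (Subgroup.upperCentralSeries ↥S i).Normal).conj_mem w hw ⟨s, hs⟩, rfl⟩

theorem fullyNormalized_of_conj_mem {P : Subgroup Ω} (hP : P ≤ S) (h : ∀ s ∈ S, ∀ v ∈ P, s * v * s⁻¹ ∈ P) :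
    F.IsFullyNormalized P := by
  refine ⟨hP, fun Q _ => ?_⟩
  have e : normalizerIn S P = S := inf_eq_left.mpr fun s hs => Subgroup.mem_normalizer_iff.mpr fun v =>
    ⟨h s hs v, fun hv => by simpa [mul_assoc] using h s⁻¹ (S.inv_mem hs) _ hv⟩
  rw [e]
  exact Subgroup.card_le_of_le inf_le_left

theorem mem_upperIn_one {v : Ω} : v ∈ upperIn S 1 ↔ v ∈ (Subgroup.center ↥S).map S.subtype := by
  rw [upperIn, Subgroup.upperCentralSeries_one]

theorem essential_centralizer (hS : IsPGroup p ↥S) (hF : F.IsSaturated p) {n : ℕ} (hn : Nat.card ↥S = p ^ n)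
    (h4 : 4 ≤ n) (hmax : Subgroup.lowerCentralSeries S (n - 2) ≠ ⊥) (φ : ↥(upperIn S 2) →* Ω)
    (hφ : φ ∈ F.Hom (upperIn S 2)) (hr : φ.range = upperIn S 2)
    (hmove : ∃ (z : Ω) (hz : z ∈ upperIn S 2), z ∈ upperIn S 1 ∧ φ ⟨z, hz⟩ ∉ upperIn S 1) :
    F.IsEssential p (S ⊓ Subgroup.centralizer (upperIn S 2 : Set Ω)) := by
  obtain ⟨htop, hcard⟩ := card_upper hS hn (by omega) (top_lower_ne_bot hmax)
  set Z := upperIn S 1 with hZdef
  have hZcard : Nat.card ↥Z = p := by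
    rw [hZdef, upperIn, Subgroup.card_map_of_injective S.subtype_injective, hcard 1 (by omega), pow_one]
  have hZ₂card : Nat.card ↥(upperIn S 2) = p ^ 2 := by
    rw [upperIn, Subgroup.card_map_of_injective S.subtype_injective, hcard 2 (by omega)]
  set C := S ⊓ Subgroup.centralizer ((upperIn S 2) : Set Ω) with hC
  have hZcen : ∀ c ∈ Z, ∀ s ∈ S, s * c = c * s := fun c hc s hs => by
    obtain ⟨w, hw, rfl⟩ := mem_upperIn_one.mp hc
    exact congrArg Subtype.val (Subgroup.mem_center_iff.mp hw ⟨s, hs⟩)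
  have hcomm : ∀ s ∈ S, ∀ v ∈ (upperIn S 2), s * v * s⁻¹ * v⁻¹ ∈ Z := fun s hs v hv => by
    obtain ⟨w, hw, rfl⟩ := hv
    have h1 := Subgroup.inv_mem _ ((Subgroup.mem_upperCentralSeries_succ_iff.mp hw) ⟨s, hs⟩)
    rw [commutatorElement_inv, commutatorElement_def] at h1
    exact ⟨_, h1, rfl⟩
  have hab : ∀ u ∈ (upperIn S 2), ∀ v ∈ (upperIn S 2), u * v = v * u := fun u hu v hv =>
    congrArg Subtype.val (isMulCommutative_iff.mp (IsPGroup.isMulCommutative_of_card_eq_prime_sq hZ₂card) ⟨u, hu⟩ ⟨v, hv⟩)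
  have hZ₂C : (upperIn S 2) ≤ C := fun v hv => ⟨upperIn_le 2 hv, Subgroup.mem_centralizer_iff.mpr fun u hu => hab u hu v hv⟩
  have hCconj : ∀ s ∈ S, ∀ c ∈ C, s * c * s⁻¹ ∈ C := fun s hs c hc =>
    ⟨S.mul_mem (S.mul_mem hs hc.1) (S.inv_mem hs), Subgroup.mem_centralizer_iff.mpr fun v hv => by
      have h1 := Subgroup.mem_centralizer_iff.mp hc.2 _ (conj_upperIn (S.inv_mem hs) hv : s⁻¹ * v * s⁻¹⁻¹ ∈ (upperIn S 2))
      calc v * (s * c * s⁻¹) = s * (s⁻¹ * v * s⁻¹⁻¹ * c) * s⁻¹ := by group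
        _ = s * c * s⁻¹ * v := by rw [h1]; group⟩
  have hCn : F.IsFullyNormalized C := fullyNormalized_of_conj_mem inf_le_left hCconj
  obtain ⟨z, hz, hzZ, hφz⟩ := hmove
  have hφz₂ : φ ⟨z, hz⟩ ∈ (upperIn S 2) := hr.le (show φ ⟨z, hz⟩ ∈ φ.range from ⟨⟨z, hz⟩, rfl⟩)
  have hCS : C < S := by
    refine lt_of_le_of_ne inf_le_left fun e => hφz ?_
    refine mem_upperIn_one.mpr ⟨⟨φ ⟨z, hz⟩, upperIn_le 2 hφz₂⟩, Subgroup.mem_center_iff.mpr fun s => Subtype.ext ?_, rfl⟩
    exact (Subgroup.mem_centralizer_iff.mp (e.ge s.2).2 _ hφz₂).symm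
  -- `C` has index `p`
  have hidx : (C.subgroupOf S).index ≤ p := by
    rw [Subgroup.index, ← hZcard]
    haveI : Finite ↥Z := finite_of_le (upperIn_le 1)
    obtain ⟨y, hy, hyZ⟩ : ∃ y ∈ (upperIn S 2), y ∉ Z := ⟨_, hφz₂, hφz⟩
    let f : ↥S → ↥Z := fun s => ⟨(s : Ω) * y * (s : Ω)⁻¹ * y⁻¹, hcomm s s.2 y hy⟩
    refine Nat.card_le_card_of_injective (fun q : ↥S ⧸ C.subgroupOf S => f q.out) fun q q' e => ?_
    have e' : (q.out : Ω) * y * (q.out : Ω)⁻¹ = (q'.out : Ω) * y * (q'.out : Ω)⁻¹ :=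
      mul_right_cancel (congrArg Subtype.val e)
    rw [← q.out_eq, ← q'.out_eq]
    refine QuotientGroup.eq.mpr (Subgroup.mem_subgroupOf.mpr ⟨SetLike.coe_mem _, ?_⟩)
    show (q.out : Ω)⁻¹ * q'.out ∈ Subgroup.centralizer ((upperIn S 2) : Set Ω)
    set w := (q.out : Ω)⁻¹ * q'.out
    have hwy : y * w = w * y := by
      have h1 : w * y * w⁻¹ = y := by
        calc w * y * w⁻¹ = (q.out : Ω)⁻¹ * ((q'.out : Ω) * y * (q'.out : Ω)⁻¹) * q.out := by simp only [w]; group
          _ = y := by rw [← e']; group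
      exact (mul_inv_eq_iff_eq_mul.mp h1).symm
    have hw : w ∈ S := S.mul_mem (S.inv_mem q.out.2) q'.out.2
    let K : Subgroup Ω := (upperIn S 2) ⊓ Subgroup.centralizer {w}
    have hK : K = (upperIn S 2) := by
      haveI : Finite ↥(upperIn S 2) := finite_of_le (upperIn_le 2)
      haveI : Finite ↥K := finite_of_le (inf_le_left.trans (upperIn_le 2) : K ≤ S)
      refine Subgroup.eq_of_le_of_card_ge inf_le_left ?_
      have hlt : Z < K := lt_of_le_of_ne (le_inf (Subgroup.map_mono (Subgroup.upperCentralSeries_mono _ (by omega)))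
        fun c hc => Subgroup.mem_centralizer_singleton_iff.mpr (hZcen c hc w hw).symm)
        fun e => hyZ (e.ge ⟨hy, Subgroup.mem_centralizer_singleton_iff.mpr hwy⟩)
      obtain ⟨k, hk⟩ := IsPGroup.iff_card.mp (hS.to_le (inf_le_left.trans (upperIn_le 2) : K ≤ S))
      have h1 : Nat.card ↥Z < Nat.card ↥K := Set.Finite.card_lt_card (Set.toFinite _) hlt
      rw [hZcard, hk] at h1
      rw [hZ₂card, hk]
      refine Nat.pow_le_pow_right (Fact.out : p.Prime).pos ?_
      by_contra h2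
      rcases (by omega : k = 0 ∨ k = 1) with rfl | rfl
      · rw [pow_zero] at h1; exact absurd h1 (not_lt.mpr (Fact.out : p.Prime).pos)
      · rw [pow_one] at h1; exact lt_irrefl _ h1
    refine Subgroup.mem_centralizer_iff.mpr fun v hv => ?_
    exact Subgroup.mem_centralizer_singleton_iff.mp (hK.ge hv).2
  have hZ₂n : F.IsFullyNormalized (upperIn S 2) := fullyNormalized_of_conj_mem (upperIn_le 2) fun s hs v hv => conj_upperIn hs hv
  obtain ⟨ψ, hψ, hψe⟩ := (fullyNormalized_receptive p hS hF hZ₂n).2 (upperIn S 2) φ hφ hr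
  have hCe : C ≤ extender S (upperIn S 2) φ := centralizerIn_le_extender φ
  set χ := ψ.comp (Subgroup.inclusion hCe) with hχdef
  have hχ : χ ∈ F.Hom C := restrict_mem hψ hCe
  have hχe : ∀ (v : Ω) (hv : v ∈ (upperIn S 2)), χ ⟨v, hZ₂C hv⟩ = φ ⟨v, hv⟩ := fun v hv => hψe v hv _
  have hχr : χ.range = C := by
    haveI : Finite ↥C := finite_of_le inf_le_left
    refine Subgroup.eq_of_le_of_card_ge ?_ (card_range hχ).ge
    rintro _ ⟨c, rfl⟩
    refine ⟨apply_mem_S hχ c, Subgroup.mem_centralizer_iff.mpr fun v hv => ?_⟩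
    obtain ⟨u, rfl⟩ := hr.ge hv
    rw [← hχe u u.2, ← map_mul, ← map_mul]
    exact congrArg χ (Subtype.ext (Subgroup.mem_centralizer_iff.mp c.2.2 u u.2))
  refine essential_of_extAut_ne p hS hF hCn hCS fun heq => hφz ?_
  set α := isoOfMem hχ hχr
  have hα : α ∈ F.autGroup C := (autGroup_carrier F inf_le_left α).mpr (by
    rw [show α.toMonoidHom = (isoOfMem hχ hχr).toMonoidHom from rfl, isoOfMem_hom hχ hχr]; exact hχ)
  have key : ∀ a ∈ extAut F C, ∀ c : ↥C, (c : Ω) ∈ Z ↔ ((a c : ↥C) : Ω) ∈ Z := by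
    intro a ha
    induction ha using Subgroup.closure_induction with
    | mem a ha =>
      obtain ⟨Q, hCQ, θ, hθ, he⟩ := ha
      have hQS : Q = S := by
        have hQ := le_S hθ
        haveI : Finite ↥C := finite_of_le inf_le_left
        haveI : Finite ↥Q := finite_of_le hQ
        refine Subgroup.eq_of_le_of_card_ge hQ ?_
        obtain ⟨i, hi⟩ := IsPGroup.iff_card.mp (hS.to_le hQ)
        obtain ⟨j, hj⟩ := IsPGroup.iff_card.mp (hS.to_le (inf_le_left : C ≤ S))
        have h1 : Nat.card ↥C < Nat.card ↥Q := Set.Finite.card_lt_card (Set.toFinite _) hCQ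
        rw [hi, hj, Nat.pow_lt_pow_iff_right (Fact.out : p.Prime).one_lt] at h1
        have h2 := (C.subgroupOf S).card_mul_index
        rw [Nat.card_congr (Subgroup.subgroupOfEquivOfLe inf_le_left).toEquiv, hj] at h2
        rw [← h2, hi]
        refine (Nat.mul_le_mul_left _ hidx).trans ?_
        rw [← pow_succ]
        exact Nat.pow_le_pow_right (Fact.out : p.Prime).pos h1
      subst hQS
      intro c
      have hθr : θ.range = Q := eq_of_isConj_S ⟨θ, hθ, rfl⟩
      rw [← he c, ← show ((isoOfMem hθ hθr (Subgroup.inclusion hCQ.le c) : ↥Q) : Ω) = θ (Subgroup.inclusion hCQ.le c) from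
        DFunLike.congr_fun (isoOfMem_hom hθ hθr) _]
      set b : MulAut ↥Q := isoOfMem hθ hθr
      have hchar : ∀ d : ↥Q, d ∈ Subgroup.center ↥Q ↔ b d ∈ Subgroup.center ↥Q := fun d => by
        simp only [Subgroup.mem_center_iff]
        refine ⟨fun h v => ?_, fun h v => b.injective (by rw [map_mul, map_mul]; exact h (b v))⟩
        obtain ⟨v, rfl⟩ := b.surjective v
        rw [← map_mul, ← map_mul, h v]
      rw [hZdef, mem_upperIn_one, mem_upperIn_one]
      constructor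
      · rintro ⟨d, hd, hde⟩
        exact ⟨b d, (hchar d).mp hd, by rw [show d = Subgroup.inclusion hCQ.le c from Subtype.ext hde]; rfl⟩
      · rintro ⟨d, hd, hde⟩
        refine ⟨Subgroup.inclusion hCQ.le c, (hchar _).mpr ?_, rfl⟩
        rwa [show d = b (Subgroup.inclusion hCQ.le c) from Subtype.ext hde] at hd
    | one => exact fun c => Iff.rfl
    | mul a b _ _ ha hb => exact fun c => (hb c).trans (ha (b c))
    | inv a _ ha => intro c; rw [ha (a⁻¹ c), MulAut.apply_inv_self]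
  have h1 := (key α (heq.symm ▸ hα) ⟨z, hZ₂C hz⟩).mp hzZ
  rw [show ((α ⟨z, hZ₂C hz⟩ : ↥C) : Ω) = χ ⟨z, hZ₂C hz⟩ from DFunLike.congr_fun (isoOfMem_hom hχ hχr) _, hχe] at h1
  exact h1

end CfsgLib.Fusion.MaxClassSeries
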