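import Cfsg.Agent.Lib.Fusion.Factor
import Cfsg.Agent.Lib.Fusion.CenterFactor
import Cfsg.Agent.Lib.Fusion.Hyperfocal

/-! Grün's lemma for saturated systems. -/

set_option autoImplicit false
set_option linter.unusedSectionVars false
set_option linter.style.haveILetI false

namespace CfsgLib.Fusion.SecondCentre

open Cfsg Cfsg.FusionSystem CfsgLib.Fusion

universe u v

variable {Ω : Type u} [Group Ω] {S : Subgroup Ω} [Finite ↥S] {F : FusionSystem S} {p : ℕ} [Fact p.Prime]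
  {Ω' : Type v} [Group Ω'] {S' : Subgroup Ω'} [Finite ↥S'] {θ : ↥S →* Ω'} {E : FusionSystem S'}

theorem center_eq_bot (hS : IsPGroup p ↥S) (hF : F.IsSaturated p) (hfoc : F.focalSubgroup = S)
    (hE : F.IsFactorSystem F.center θ E) : E.center = ⊥ := by
  classical
  have hZ := isCentral_center F
  have hZc : F.center ≤ S ⊓ Subgroup.centralizer (S : Set Ω) := center_le hZ
  have hEc := isCentral_center E
  have hZfix := ((isCentral_iff_fixed p hS hF).mp hZ).2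
  have hsc : F.StronglyClosed F.center := by
    refine ⟨hZ.1, fun P hP φ hφ x => ?_⟩
    have hle : Subgroup.zpowers (x : Ω) ≤ P := Subgroup.zpowers_le.mpr x.2
    have := hZfix x (hP x.2) _ ⟨_, restrict_mem hφ hle, rfl⟩
    exact (show φ x = (x : Ω) from this) ▸ hP x.2
  refine (Subgroup.eq_bot_iff_forall _).mpr fun t ht => ?_
  obtain ⟨x, rfl⟩ := exists_preimage hE (hEc.1 ht)
  -- lifting a map so that `x` moves by an element of the centre only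
  have hlift : ∀ (P : Subgroup Ω) (φ : ↥P →* Ω) (hφ : φ ∈ F.Hom P), ∃ (D : Subgroup Ω) (χ : ↥D →* Ω) (hx : (x : Ω) ∈ D)
      (hPD : P ≤ D) (hχ : χ ∈ F.Hom D), θ ⟨χ ⟨x, hx⟩, apply_mem_S hχ _⟩ = θ x ∧
      ∀ y : P, θ ⟨χ ⟨y, hPD y.2⟩, apply_mem_S hχ _⟩ = θ ⟨φ y, apply_mem_S hφ y⟩ := by
    intro P φ hφ
    obtain ⟨ψ, hψ, hψP, -⟩ := hZ.2 P φ hφ
    obtain ⟨ψ', hψ', hψ'e⟩ := exists_induced hE hsc le_sup_right hψ
    obtain ⟨χ', hχ', hχ'D, hχ'E⟩ := hEc.2 _ ψ' hψ'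
    obtain ⟨χ, hχ, hχe⟩ := exists_lift hE hχ'
    have hxD : (x : Ω) ∈ preimageAlong θ (imageAlong θ (P ⊔ F.center) ⊔ E.center) :=
      mem_preimageAlong.mpr ⟨x.2, Subgroup.mem_sup_right ht⟩
    have hPD : P ≤ preimageAlong θ (imageAlong θ (P ⊔ F.center) ⊔ E.center) := fun y hy =>
      mem_preimageAlong.mpr ⟨le_S hφ hy,
        Subgroup.mem_sup_left ⟨⟨y, le_S hφ hy⟩, Subgroup.mem_sup_left hy, rfl⟩⟩
    refine ⟨_, χ, hxD, hPD, hχ, ?_, fun y => ?_⟩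
    · obtain ⟨h1, h2, h3, h4⟩ := hχe ⟨x, hxD⟩
      exact h4.symm.trans (hχ'E ⟨θ x, ht⟩)
    · obtain ⟨h1, h2, h3, h4⟩ := hχe ⟨y, hPD y.2⟩
      refine h4.symm.trans ((hχ'D ⟨θ ⟨y, h1⟩, ⟨⟨y, h1⟩, Subgroup.mem_sup_left y.2, rfl⟩⟩).trans ?_)
      exact (hψ'e ⟨y, h1⟩ (Subgroup.mem_sup_left y.2)).trans (congrArg θ (Subtype.ext (hψP y)))
  have hker : ∀ a b : ↥S, θ a = θ b → ∃ z ∈ F.center, (a : Ω) = b * z := fun a b h =>
    ⟨((b⁻¹ * a : ↥S) : Ω), (hE.2.1 _).mp (by rw [map_mul, map_inv, h, inv_mul_cancel]),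
      (mul_inv_cancel_left (b : Ω) (a : Ω)).symm⟩
  have hzc : ∀ z ∈ F.center, ∀ s ∈ S, Commute z s := fun z hz s hs =>
    (Subgroup.mem_centralizer_iff.mp (hZc hz).2 s hs).symm
  -- the commutator with `x`
  let c : ↥S → Ω := fun y => (y : Ω) * x * (y : Ω)⁻¹ * (x : Ω)⁻¹
  have hc : ∀ y : ↥S, c y ∈ F.center := by
    intro y
    refine (hE.2.1 (y * x * y⁻¹ * x⁻¹)).mp ?_
    have hcomm : θ y * θ x = θ x * θ y :=
      Subgroup.mem_centralizer_iff.mp (center_le hEc ht).2 (θ y) (hE.2.2.1 ▸ ⟨y, rfl⟩)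
    rw [map_mul, map_mul, map_mul, map_inv, map_inv, hcomm]
    group
  have hcfix : ∀ (y : ↥S) (z z₁ : Ω), z ∈ F.center → z₁ ∈ F.center →
      (y : Ω) * z * ((x : Ω) * z₁) * ((y : Ω) * z)⁻¹ * ((x : Ω) * z₁)⁻¹ = c y := by
    intro y z z₁ hz hz₁
    show _ = (y : Ω) * x * (y : Ω)⁻¹ * (x : Ω)⁻¹
    calc (y : Ω) * z * ((x : Ω) * z₁) * ((y : Ω) * z)⁻¹ * ((x : Ω) * z₁)⁻¹
        = (y : Ω) * (z * ((x : Ω) * z₁) * z⁻¹) * (y : Ω)⁻¹ * ((x : Ω) * z₁)⁻¹ := by group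
      _ = (y : Ω) * (x : Ω) * (z₁ * (y : Ω)⁻¹) * z₁⁻¹ * (x : Ω)⁻¹ := by
          rw [(hzc z hz _ (S.mul_mem x.2 (hZ.1 hz₁))).eq, mul_inv_cancel_right]; group
      _ = _ := by rw [(hzc z₁ hz₁ _ (S.inv_mem y.2)).eq]; group
  have hinv : ∀ (P : Subgroup Ω) (φ : ↥P →* Ω) (hφ : φ ∈ F.Hom P) (y : P),
      c ⟨φ y, apply_mem_S hφ y⟩ = c ⟨y, le_S hφ y.2⟩ := by
    intro P φ hφ y
    obtain ⟨D, χ, hxD, hPD, hχ, hχx, hχy⟩ := hlift P φ hφ
    obtain ⟨z₁, hz₁, e1⟩ := hker _ _ hχx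
    obtain ⟨z, hz, e2⟩ := hker _ _ (hχy y)
    have hcD : c ⟨y, le_S hφ y.2⟩ ∈ D :=
      D.mul_mem (D.mul_mem (D.mul_mem (hPD y.2) hxD) (D.inv_mem (hPD y.2))) (D.inv_mem hxD)
    have hfixc : χ ⟨c ⟨y, le_S hφ y.2⟩, hcD⟩ = c ⟨y, le_S hφ y.2⟩ :=
      hZfix _ (hc _) _ ⟨_, restrict_mem hχ (Subgroup.zpowers_le.mpr hcD), rfl⟩
    rw [← hcfix ⟨φ y, apply_mem_S hφ y⟩ z z₁ hz hz₁]
    refine Eq.trans ?_ hfixc
    rw [show (⟨c ⟨y, le_S hφ y.2⟩, hcD⟩ : ↥D) = ⟨(y : Ω), hPD y.2⟩ * ⟨x, hxD⟩ * ⟨(y : Ω), hPD y.2⟩⁻¹ *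
      ⟨x, hxD⟩⁻¹ from rfl, map_mul, map_mul, map_mul, map_inv, map_inv]
    simp only at e1 e2 ⊢
    rw [e1, e2]
  have hxS : ∀ s ∈ S, (x : Ω) * s = s * x := by
    have hle : F.focalSubgroup ≤ S ⊓ Subgroup.centralizer {(x : Ω)} := by
      refine (Subgroup.closure_le _).mpr ?_
      rintro _ ⟨P, φ, y, hφ, rfl⟩
      refine ⟨S.mul_mem (S.inv_mem (le_S hφ y.2)) (apply_mem_S hφ y), Subgroup.mem_centralizer_singleton_iff.mpr ?_⟩
      have h1 : φ y * x * (φ y)⁻¹ * (x : Ω)⁻¹ = (y : Ω) * x * (y : Ω)⁻¹ * (x : Ω)⁻¹ := hinv P φ hφ y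
      calc (y : Ω)⁻¹ * φ y * x = (y : Ω)⁻¹ * (φ y * x * (φ y)⁻¹ * (x : Ω)⁻¹) * x * φ y := by group
        _ = (x : Ω) * ((y : Ω)⁻¹ * φ y) := by rw [h1]; group
    intro s hs
    exact (Subgroup.mem_centralizer_singleton_iff.mp (hle (hfoc.ge hs)).2).symm
  -- every conjugate of `x` equals `x`
  have hxy : ∀ y : Ω, F.IsConjElt (x : Ω) y → y = x := by
    rintro y ⟨φ, hφ, rfl⟩
    obtain ⟨D, χ, hxD, hPD, hχ, hχx, hχy⟩ := hlift _ φ hφ
    obtain ⟨z₁, hz₁, e1⟩ := hker _ _ ((hχy ⟨x, Subgroup.mem_zpowers _⟩).symm.trans hχx)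
    simp only at e1
    have hPr : ∀ s ∈ S, ∀ a : ↥(Subgroup.zpowers (x : Ω)), Commute (φ a) s := by
      intro s hs a
      obtain ⟨k, hk⟩ := Subgroup.mem_zpowers_iff.mp a.2
      rw [show a = (⟨x, Subgroup.mem_zpowers _⟩ : ↥(Subgroup.zpowers (x : Ω))) ^ k from Subtype.ext (by simp [hk]), map_zpow, e1]
      exact ((show Commute (x : Ω) s from hxS s hs).mul_left (hzc z₁ hz₁ s hs)).zpow_left k
    have hfn : F.IsFullyNormalized φ.range := by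
      refine fullyNormalized_of_normal (range_le_S hφ) (le_trans (fun s hs => ?_) (Subgroup.centralizer_le_normalizer _))
      exact Subgroup.mem_centralizer_iff.mpr fun _ ⟨a, ha⟩ => ha ▸ hPr s hs a
    obtain ⟨ψ, hψ, hψe⟩ := (fullyNormalized_receptive p hS hF hfn).2 _ φ hφ rfl
    have hSe : S ≤ extender S (Subgroup.zpowers (x : Ω)) φ := fun s hs => centralizerIn_le_extender φ
      ⟨hs, Subgroup.mem_centralizer_iff.mpr fun v hv => by
        obtain ⟨k, rfl⟩ := Subgroup.mem_zpowers_iff.mp hv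
        exact (show Commute (x : Ω) s from hxS s hs).zpow_left k⟩
    obtain ⟨β, hβ, hβe⟩ : ∃ β ∈ F.autGroup S, ∀ s : ↥S, ((β : MulAut ↥S) s : Ω) = ψ ⟨s, hSe s.2⟩ := by
      let b : ↥S →* ↥S := (ψ.comp (Subgroup.inclusion hSe)).codRestrict S fun s => apply_mem_S hψ _
      have hb : Function.Injective b := fun u v h =>
        Subgroup.inclusion_injective hSe (F.injective_of_mem hψ (congrArg Subtype.val h :))
      refine ⟨MulEquiv.ofBijective b ⟨hb, Finite.injective_iff_surjective.mp hb⟩,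
        (autGroup_carrier F le_rfl _).mpr ?_, fun s => rfl⟩
      exact restrict_mem_of_eq hψ hSe fun s => rfl
    -- the displacement is a homomorphism to the centre
    set A := F.autGroup S
    have hd : ∀ a : ↥A, ((x : ↥S)⁻¹ * (a : MulAut ↥S) x : ↥S).1 ∈ F.center := by
      intro a
      obtain ⟨D', χ', hxD', hPD', hχ', hχx', hχy'⟩ := hlift S _ ((autGroup_carrier F le_rfl _).mp a.2)
      refine (hE.2.1 _).mp ?_
      rw [map_mul, map_inv, show ((a : MulAut ↥S) x) = ⟨((a : MulAut ↥S) x : Ω), ((a : MulAut ↥S) x).2⟩ from rfl]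
      exact inv_mul_eq_one.mpr (hχx'.symm.trans (hχy' x))
    let d : ↥A →* ↥S := MonoidHom.mk' (fun a => x⁻¹ * (a : MulAut ↥S) x) fun a b => by
      have hfix : (a : MulAut ↥S) (x⁻¹ * (b : MulAut ↥S) x) = x⁻¹ * (b : MulAut ↥S) x :=
        Subtype.ext (hZfix _ (hd b) _ ⟨_, restrict_mem ((autGroup_carrier F le_rfl _).mp a.2)
          (Subgroup.zpowers_le.mpr (x⁻¹ * (b : MulAut ↥S) x).2), rfl⟩)
      show x⁻¹ * (a : MulAut ↥S) ((b : MulAut ↥S) x) = x⁻¹ * (a : MulAut ↥S) x * (x⁻¹ * (b : MulAut ↥S) x)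
      conv_lhs => rw [show (b : MulAut ↥S) x = x * (x⁻¹ * (b : MulAut ↥S) x) from (mul_inv_cancel_left _ _).symm,
        map_mul, hfix, ← mul_assoc]
    obtain ⟨-, TS, hTS⟩ := fullyNormalized_automized p hS hF (fullyNormalized_S F)
    haveI := finite_aut_of_le (le_refl S)
    have hle : (TS : Subgroup ↥A) ≤ d.ker := by
      intro a ha
      rw [hTS] at ha
      obtain ⟨s, hs, hse⟩ := (mem_autInducedBy _).mp ha
      show x⁻¹ * (a : MulAut ↥S) x = 1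
      rw [inv_mul_eq_one]
      refine Subtype.ext ((hse x).trans ?_).symm
      rw [← hxS s hs, mul_inv_cancel_right]
    have h1 : d.ker.index ∣ (TS : Subgroup ↥A).index := Subgroup.index_dvd_of_le hle
    obtain ⟨k, hk⟩ := IsPGroup.iff_card.mp (hS.to_subgroup d.range)
    rw [Subgroup.index_ker, hk] at h1
    have hk0 : k = 0 := by
      by_contra hne
      exact TS.not_dvd_index ((dvd_pow_self p hne).trans h1)
    rw [hk0, pow_zero, Subgroup.card_eq_one] at hk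
    have hb : d ⟨β, hβ⟩ = 1 := by
      have := (show d ⟨β, hβ⟩ ∈ d.range from ⟨_, rfl⟩)
      rw [hk] at this
      exact this
    have hbx : β x = x := (inv_mul_eq_one.mp hb).symm
    rw [← hψe x (Subgroup.mem_zpowers _) (hSe x.2), ← hβe x, hbx]
  have hcen : F.IsCentral (Subgroup.zpowers (x : Ω)) := by
    refine (isCentral_iff_fixed p hS hF).mpr ⟨Subgroup.zpowers_le.mpr x.2, ?_⟩
    rintro a ha y ⟨φ, hφ, rfl⟩
    obtain ⟨k, hk⟩ := Subgroup.mem_zpowers_iff.mp ha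
    haveI := finite_of_le (S := S) (Subgroup.zpowers_le.mpr x.2)
    obtain ⟨m, hm⟩ : ∃ m : ℕ, (x : Ω) ^ m = a := by
      have hfin : IsOfFinOrder (x : Ω) :=
        S.subtype.isOfFinOrder (isOfFinOrder_of_finite x)
      exact hfin.mem_powers_iff_mem_zpowers.mpr ha
    subst hm
    -- extend the map to `x` and read off its value
    have hfn : F.IsFullyNormalized (Subgroup.zpowers ((x : Ω) ^ m)) := by
      refine fullyNormalized_of_normal (Subgroup.zpowers_le.mpr (S.pow_mem x.2 m)) (le_trans (fun s hs => ?_) (Subgroup.centralizer_le_normalizer _))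
      refine Subgroup.mem_centralizer_iff.mpr fun v hv => ?_
      obtain ⟨j, rfl⟩ := Subgroup.mem_zpowers_iff.mp hv
      exact ((show Commute (x : Ω) s from hxS s hs).pow_left m).zpow_left j
    obtain ⟨χ, hχ, hχr, hχe⟩ := exists_inverse hφ rfl
    obtain ⟨η, hη, hηe⟩ := (fullyNormalized_receptive p hS hF hfn).2 _ χ hχ hχr
    have hxη : (x : Ω) ∈ extender S φ.range χ := centralizerIn_le_extender χ
      ⟨x.2, Subgroup.mem_centralizer_iff.mpr fun v hv => (hxS v (range_le_S hφ hv)).symm⟩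
    have h2 : η ⟨x, hxη⟩ = x := hxy _ ⟨_, restrict_mem hη (Subgroup.zpowers_le.mpr hxη), rfl⟩
    set q := φ ⟨(x : Ω) ^ m, Subgroup.mem_zpowers _⟩
    have hq : q ∈ extender S φ.range χ := le_extender hχ ⟨_, rfl⟩
    refine congrArg Subtype.val (F.injective_of_mem hη (a₁ := (⟨q, hq⟩ : ↥(extender S φ.range χ))) (a₂ := ⟨x, hxη⟩ ^ m) ?_)
    rw [map_pow, h2, hηe q ⟨_, rfl⟩ hq]
    exact hχe ⟨(x : Ω) ^ m, Subgroup.mem_zpowers _⟩ _
  exact (hE.2.1 x).mpr (le_sSup (s := {Q : Subgroup Ω | F.IsCentral Q}) hcen (Subgroup.mem_zpowers _))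

end CfsgLib.Fusion.SecondCentre
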