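import Cfsg.Agent.Lib.Fusion.MaxAbelian
import Cfsg.Agent.Lib.Fusion.KNormalizer
import Cfsg.Agent.Lib.Fusion.Hyperfocal

/-! Small abelian subgroups control fusion. (helper6) -/

set_option autoImplicit false
set_option linter.unusedSectionVars false
set_option linter.style.haveILetI false

namespace CfsgLib.Fusion

open Cfsg Cfsg.FusionSystem

variable {Ω : Type*} [Group Ω] {S : Subgroup Ω} [Finite ↥S] {F E : FusionSystem S} (p : ℕ) [Fact p.Prime]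

theorem exists_fullyKNormalized (F : FusionSystem S) {Q : Subgroup Ω} (hQ : Q ≤ S) (K : Subgroup (MulAut ↥Q)) :
    ∃ (R : Subgroup Ω) (e : ↥Q ≃* ↥R), R.subtype.comp e.toMonoidHom ∈ F.Hom Q ∧
      IsFullyKNormalized F R (K.map (MulAut.congr e).toMonoidHom) := by
  classical
  let V : Set ℕ := {n | ∃ (R : Subgroup Ω) (e : ↥Q ≃* ↥R), R.subtype.comp e.toMonoidHom ∈ F.Hom Q ∧
    Nat.card ↥(kNorm S R (K.map (MulAut.congr e).toMonoidHom)) = n}
  have hfin : V.Finite := (Set.finite_Iic (Nat.card ↥S)).subset (by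
    rintro _ ⟨R, e, -, rfl⟩
    exact Subgroup.card_le_of_le fun g hg => hg.1)
  have hne : V.Nonempty := ⟨_, Q, MulEquiv.refl ↥Q, incl_mem F hQ, rfl⟩
  obtain ⟨n, ⟨R, e, he, rfl⟩, hmax⟩ := hfin.exists_maximal hne
  refine ⟨R, e, he, fun y hy => ?_, fun R' e' he' => ?_⟩
  · have := apply_mem_S he (e.symm ⟨y, hy⟩)
    simpa using this
  have hK : (K.map (MulAut.congr e).toMonoidHom).map (MulAut.congr e').toMonoidHom =
      K.map (MulAut.congr (e.trans e')).toMonoidHom := by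
    rw [Subgroup.map_map]
    congr 1
  rw [hK]
  by_contra hlt
  exact hlt (hmax ⟨R', e.trans e', trans_mem e e' he he', rfl⟩ (not_le.mp hlt).le)

/-- A map fixing `A` pointwise between two subgroups above `A` lies in `E`. -/
theorem mem_of_fix (hS : IsPGroup p ↥S) (hF : F.IsSaturated p) (hEF : E ≤ F) {R R' A : Subgroup Ω} (hAR : A ≤ R)
    (hAR' : A ≤ R') (hRA : R ≤ Subgroup.normalizer (A : Set Ω)) (e : ↥R ≃* ↥R')
    (he : R'.subtype.comp e.toMonoidHom ∈ F.Hom R) (hfix : ∀ a : ↥R, (a : Ω) ∈ A → ((e a : ↥R') : Ω) = a)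
    (hbig : ∀ Q : Subgroup Ω, Nat.card ↥R < Nat.card ↥Q → F.Hom Q ⊆ E.Hom Q)
    (hstab : ∀ k ∈ F.autGroup R, (∀ a : ↥R, (a : Ω) ∈ A → k a = a) → k ∈ E.autGroup R) :
    R'.subtype.comp e.toMonoidHom ∈ E.Hom R := by
  have hRS : R ≤ S := le_S he
  have hR'S : R' ≤ S := fun y hy => by simpa using apply_mem_S he (e.symm ⟨y, hy⟩)
  haveI := finite_of_le hRS
  haveI := finite_of_le hR'S
  haveI := finite_aut_of_le hRS
  set W := centralizerIn S A
  have hcard : Nat.card ↥R' = Nat.card ↥R := (Nat.card_congr e.toEquiv).symm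
  have hact : ∀ r : ↥R, (r : Ω)⁻¹ * ((e r : ↥R') : Ω) ∈ W := by
    intro r
    refine ⟨S.mul_mem (S.inv_mem (hRS r.2)) (hR'S (e r).2), Subgroup.mem_centralizer_iff.mpr fun a ha => ?_⟩
    have h1 := hfix (r * ⟨a, hAR ha⟩ * r⁻¹) (conj_mem_of_normalizer (hRA r.2) ha)
    rw [map_mul, map_mul, map_inv, Subgroup.coe_mul, Subgroup.coe_mul, Subgroup.coe_inv, hfix ⟨a, hAR ha⟩ ha,
      Subgroup.coe_mul, Subgroup.coe_mul, Subgroup.coe_inv] at h1
    calc a * ((r : Ω)⁻¹ * (e r : Ω)) = (r : Ω)⁻¹ * ((r : Ω) * a * (r : Ω)⁻¹) * (e r : Ω) := by group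
      _ = (r : Ω)⁻¹ * ((e r : Ω) * a * (e r : Ω)⁻¹) * (e r : Ω) := by rw [h1]
      _ = (r : Ω)⁻¹ * (e r : Ω) * a := by group
  have hR'A : R' ≤ Subgroup.normalizer (A : Set Ω) := fun y hy => by
    have h := hact (e.symm ⟨y, hy⟩)
    rw [MulEquiv.apply_symm_apply] at h
    have h2 := mul_mem (hRA (e.symm ⟨y, hy⟩).2) (Subgroup.centralizer_le_normalizer _ h.2)
    simpa using h2
  by_cases hW : W ≤ R
  · have hR' : R' = R := Subgroup.eq_of_le_of_card_ge (fun y hy => by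
      have h := R.mul_mem (e.symm ⟨y, hy⟩).2 (hW (hact (e.symm ⟨y, hy⟩)))
      simpa using h) hcard.ge
    subst hR'
    exact (autGroup_carrier E hRS e).mp (hstab e ((autGroup_carrier F hRS e).mpr he) fun a ha => Subtype.ext (hfix a ha))
  let Fix : Subgroup (MulAut ↥R) :=
    { carrier := {k | ∀ a : ↥R, (a : Ω) ∈ A → k a = a}
      one_mem' := fun a _ => rfl
      mul_mem' := fun {k l} hk hl a ha => by rw [MulAut.mul_apply, hl a ha, hk a ha]
      inv_mem' := fun {k} hk a ha => by conv_lhs => rw [← hk a ha, MulAut.inv_apply_self] }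
  haveI := innNormal ↥R
  set K := Inn ↥R ⊔ Fix
  have hWn : ∀ (T : Subgroup Ω), T ≤ S → T ≤ Subgroup.normalizer (A : Set Ω) → ¬ W ≤ T →
      ∃ c ∈ W, c ∉ T ∧ c ∈ Subgroup.normalizer (T : Set Ω) := by
    intro T hTS hTA hWT
    have hTW : T ≤ Subgroup.normalizer (W : Set Ω) := by
      intro t ht
      refine mem_normalizer_iff_cj.mpr ?_
      haveI : Finite ↥W := finite_of_le inf_le_left
      refine Subgroup.eq_of_le_of_card_ge (cj_le_iff.mpr fun w hw => ?_) (by rw [card_cj])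
      refine ⟨S.mul_mem (S.mul_mem (hTS ht) hw.1) (S.inv_mem (hTS ht)), Subgroup.mem_centralizer_iff.mpr fun a ha => ?_⟩
      have h1 := Subgroup.mem_centralizer_iff.mp hw.2 _ (conj_mem_of_normalizer (inv_mem (hTA ht)) ha)
      calc a * (t * w * t⁻¹) = t * (t⁻¹ * a * t⁻¹⁻¹ * w) * t⁻¹ := by group
        _ = t * (w * (t⁻¹ * a * t⁻¹⁻¹)) * t⁻¹ := by rw [h1]
        _ = t * w * t⁻¹ * a := by group
    have hlt : T < T ⊔ W := lt_of_le_of_ne le_sup_left fun h => hWT (h ▸ le_sup_right)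
    haveI : Finite ↥(T ⊔ W) := finite_of_le (sup_le hTS inf_le_left)
    obtain ⟨g, hgN, hgT⟩ := SetLike.exists_of_lt (lt_normalizerIn (S := T ⊔ W) p (hS.to_le (sup_le hTS inf_le_left)) hlt)
    have hg' : g ∈ ((T ⊔ W : Subgroup Ω) : Set Ω) := hgN.1
    rw [Subgroup.coe_mul_of_left_le_normalizer_right T W hTW] at hg'
    obtain ⟨x, hx, c, hc, rfl⟩ := hg'
    refine ⟨c, hc, fun h => hgT (T.mul_mem hx h), ?_⟩
    simpa using Subgroup.mul_mem _ (Subgroup.inv_mem _ (Subgroup.le_normalizer hx : x ∈ Subgroup.normalizer (T : Set Ω))) hgN.2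
  have hWR' : ¬ W ≤ R' := by
    intro h
    have hRR' : R = R' := Subgroup.eq_of_le_of_card_ge (fun r hr => by
      have := R'.mul_mem (e ⟨r, hr⟩).2 (R'.inv_mem (h (hact ⟨r, hr⟩)))
      simpa using this) hcard.le
    exact hW (hRR' ▸ h)
  obtain ⟨Q, ε, hε, hQ⟩ := exists_fullyKNormalized F hRS K
  set K' := K.map (MulAut.congr ε).toMonoidHom
  obtain ⟨χ, hχ, D, ψ, hψ, hRD, hND, hψe⟩ := fullyK_extend p hS hF hQ ε hε
  obtain ⟨χ', hχ', D', ψ', hψ', hRD', hND', hψe'⟩ := fullyK_extend p hS hF hQ (e.symm.trans ε)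
    (trans_mem e.symm ε (symm_mem e he) hε)
  have hD : R < D := by
    obtain ⟨c, hc, hcR, hcN⟩ := hWn R hRS hRA hW
    refine lt_of_le_of_ne hRD fun h => hcR (h ▸ hND ?_)
    refine ⟨hc.1, R.normalizerMonoidHom ⟨c, hcN⟩, ⟨_, ⟨R.normalizerMonoidHom ⟨c, hcN⟩, Subgroup.mem_sup_right ?_, rfl⟩, ?_⟩,
      fun x => rfl⟩
    · intro a ha
      refine Subtype.ext ?_
      show c * (a : Ω) * c⁻¹ = a
      rw [← Subgroup.mem_centralizer_iff.mp hc.2 a ha, mul_inv_cancel_right]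
    · ext x; simp [MulAut.congr]
  have hD' : R' < D' := by
    obtain ⟨c, hc, hcR, hcN⟩ := hWn R' hR'S hR'A hWR'
    refine lt_of_le_of_ne hRD' fun h => hcR (h ▸ hND' ?_)
    set k := MulAut.congr e.symm (R'.normalizerMonoidHom ⟨c, hcN⟩)
    have hkfix : k ∈ Fix := by
      intro a ha
      apply e.injective
      show e (e.symm (R'.normalizerMonoidHom ⟨c, hcN⟩ (e a))) = e a
      rw [MulEquiv.apply_symm_apply]
      refine Subtype.ext ?_
      show c * ((e a : ↥R') : Ω) * c⁻¹ = ((e a : ↥R') : Ω)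
      rw [hfix a ha, ← Subgroup.mem_centralizer_iff.mp hc.2 a ha, mul_inv_cancel_right]
    refine ⟨hc.1, R'.normalizerMonoidHom ⟨c, hcN⟩, ⟨_, ⟨k, Subgroup.mem_sup_right hkfix, rfl⟩, ?_⟩, fun x => rfl⟩
    ext x; simp [k, MulAut.congr]
  haveI : Finite ↥D := finite_of_le (le_S hψ)
  haveI : Finite ↥D' := finite_of_le (le_S hψ')
  have hψE := hbig D (Set.Finite.card_lt_card (Set.toFinite _) hD) hψ
  have hψE' := hbig D' (hcard ▸ Set.Finite.card_lt_card (Set.toFinite _) hD') hψ'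
  have ha : Q.subtype.comp (ε.trans χ).toMonoidHom ∈ E.Hom R :=
    restrict_mem_of_eq hψE hRD fun x => (hψe x (hRD x.2)).symm
  have hb : Q.subtype.comp ((e.symm.trans ε).trans χ').toMonoidHom ∈ E.Hom R' :=
    restrict_mem_of_eq hψE' hRD' fun x => (hψe' x (hRD' x.2)).symm
  set k := MulAut.congr ε.symm (χ'⁻¹ * χ)
  have hkK : k ∈ K := by
    obtain ⟨l, hl, hle⟩ : χ'⁻¹ * χ ∈ K' := mul_mem (inv_mem hχ'.2) hχ.2
    have : k = l := by
      show MulAut.congr ε.symm _ = l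
      rw [← hle]; ext x; simp [MulAut.congr]
    exact this ▸ hl
  have hkF : k ∈ F.autGroup R :=
    congr_autGroup ε.symm (symm_mem ε hε) (mul_mem (inv_mem hχ'.1) hχ.1)
  have hkE : k ∈ E.autGroup R := by
    obtain ⟨i, hi, f, hf, hif⟩ := Subgroup.mem_sup_of_normal_left.mp hkK
    have hiE : i ∈ E.autGroup R := inn_le_autGroup E hRS hi
    have hfF : f ∈ F.autGroup R := by
      rw [show f = i⁻¹ * k by rw [← hif, inv_mul_cancel_left]]
      exact mul_mem (inv_mem (inn_le_autGroup F hRS hi)) hkF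
    exact hif ▸ mul_mem hiE (hstab f hfF hf)
  have hγ := trans_mem (ε.trans χ) ((e.symm.trans ε).trans χ').symm ha (symm_mem _ hb)
  have hfin := trans_mem k⁻¹ ((ε.trans χ).trans ((e.symm.trans ε).trans χ').symm)
    ((autGroup_carrier E hRS _).mp (inv_mem hkE)) hγ
  convert hfin using 1
  ext x
  show ((e x : ↥R') : Ω) = ((e (ε.symm (χ'⁻¹ (χ (ε (k⁻¹ x))))) : ↥R') : Ω)
  rw [show ε.symm (χ'⁻¹ (χ (ε (k⁻¹ x)))) = k (k⁻¹ x) from rfl, MulAut.apply_inv_self]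

/-- Small abelian subgroups of a strongly closed subgroup containing the hyperfocal subgroup control fusion. -/
theorem le_of_smallAbelian (hS : IsPGroup p ↥S) (hE : E.IsSaturated p) (hF : F.IsSaturated p) (hEF : E ≤ F)
    {H : Subgroup Ω} (hH : F.StronglyClosed H) (hhyp : F.hyperfocalSubgroup p ≤ H)
    (h : ∀ A B : Subgroup Ω, A ≤ H → B ≤ H → SmallAb p A → SmallAb p B → E.homSet A B = F.homSet A B) : F ≤ E := by
  refine le_of_autGroup p hS hF E fun R hR hbig => ?_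
  haveI := finite_of_le hR.1
  haveI := finite_aut_of_le hR.1
  set N := normalizerIn S R
  haveI : Finite ↥N := finite_of_le inf_le_left
  have hRN : R ≤ N := le_inf hR.1 Subgroup.le_normalizer
  have hNH : N ≤ Subgroup.normalizer (H : Set Ω) := inf_le_left.trans (StronglyClosed.normal hH)
  obtain ⟨A, ⟨hAR, hAH, hA, hNA⟩, hmax⟩ := Set.Finite.exists_maximal
    ((Set.finite_range (fun B : Subgroup ↥S => B.map S.subtype)).subset (fun B hB =>
      ⟨B.subgroupOf S, Subgroup.map_subgroupOf_eq_of_le (hB.1.trans hR.1)⟩) :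
      {B : Subgroup Ω | B ≤ R ∧ B ≤ H ∧ SmallAb p B ∧ N ≤ Subgroup.normalizer (B : Set Ω)}.Finite)
    ⟨⊥, bot_le, bot_le, smallAb_bot p, fun n _ => Subgroup.mem_normalizer_iff.mpr fun x => by simp⟩
  set 𝒜 := F.autGroup R
  have hc : ∀ n : ↥N, R.normalizerMonoidHom (Subgroup.inclusion inf_le_right n) ∈ 𝒜 := fun n =>
    autInducedBy_le_autGroup F hR.1 ((mem_autInducedBy _).mpr ⟨n, n.2.1, fun x => rfl⟩)
  have hHmem : ∀ b ∈ 𝒜, (orderOf b).Coprime p → ∀ y : ↥R, (y : Ω)⁻¹ * ((b y : ↥R) : Ω) ∈ H := fun b hb hco y =>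
    hhyp (inv_mul_mem_hyperfocal hR.1 ⟨b, hb⟩ (by rwa [Subgroup.orderOf_mk]) y)
  let K : Subgroup ↥𝒜 :=
    { carrier := {k | ∀ a : ↥R, (a : Ω) ∈ A → (k : MulAut ↥R) a = a}
      one_mem' := fun a _ => rfl
      mul_mem' := fun {k l} hk hl a ha => by rw [Subgroup.coe_mul, MulAut.mul_apply, hl a ha, hk a ha]
      inv_mem' := fun {k} hk a ha => by
        conv_lhs => rw [← hk a ha, Subgroup.coe_inv, MulAut.inv_apply_self] }
  have hKp : IsPGroup p ↥K := by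
    intro a
    obtain ⟨k, m, hm, hkm⟩ := Nat.exists_eq_pow_mul_and_not_dvd (orderOf_pos a).ne' p (Fact.out : p.Prime).ne_one
    refine ⟨k, Subtype.ext (Subtype.ext ?_)⟩
    refine eq_one_of_fix_maxAbelian (N := N) (hS.to_le inf_le_left) hRN inf_le_right hNH hAR hAH hA hNA
      (fun B hAB hBR hBH hB hBN => hmax ⟨hBR, hBH, hB, hBN⟩ hAB) 𝒜 hc hHmem (SetLike.coe_mem _) ?_ (a ^ p ^ k).2
    rw [Subgroup.orderOf_coe, Subgroup.orderOf_coe, orderOf_pow' a (pow_ne_zero _ (Fact.out : p.Prime).ne_zero), hkm,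
      Nat.gcd_eq_right (Dvd.intro _ rfl), Nat.mul_div_cancel_left _ (pow_pos (Fact.out : p.Prime).pos k)]
    exact ((Nat.Prime.coprime_iff_not_dvd Fact.out).mpr hm).symm
  obtain ⟨-, T, hT⟩ := fullyNormalized_automized p hS hF hR
  have hTK : (T : Subgroup ↥𝒜) ≤ Subgroup.normalizer (K : Set ↥𝒜) := by
    intro t ht
    rw [hT] at ht
    obtain ⟨n, hn, hnt⟩ := (mem_autInducedBy _).mp ht
    have hnN : n ∈ N := ⟨hn, mem_normalizer_iff_cj.mpr (Subgroup.eq_of_le_of_card_ge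
      (cj_le_iff.mpr fun x hx => hnt ⟨x, hx⟩ ▸ ((t : MulAut ↥R) ⟨x, hx⟩).2) (by rw [card_cj]))⟩
    have htA : ∀ a : ↥R, (a : Ω) ∈ A ↔ (((t : MulAut ↥R) a : ↥R) : Ω) ∈ A := fun a => by
      show (a : Ω) ∈ A ↔ ((((F.autGroup R).subtype t) a : ↥R) : Ω) ∈ A
      rw [hnt]; exact Subgroup.mem_normalizer_iff.mp (hNA hnN) _
    have key : ∀ (s : ↥𝒜), (∀ a : ↥R, (a : Ω) ∈ A ↔ (((s : MulAut ↥R) a : ↥R) : Ω) ∈ A) → ∀ k ∈ K, s * k * s⁻¹ ∈ K := by
      intro s hs k hk a ha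
      show (s : MulAut ↥R) ((k : MulAut ↥R) ((s : MulAut ↥R)⁻¹ a)) = a
      rw [hk _ ((hs _).mpr (by rwa [MulAut.apply_inv_self])), MulAut.apply_inv_self]
    refine Subgroup.mem_normalizer_iff.mpr fun k => ⟨key t htA k, fun hk => ?_⟩
    have := key t⁻¹ (fun a => by
      have := htA ((t : MulAut ↥R)⁻¹ a)
      rw [MulAut.apply_inv_self] at this
      exact this.symm) _ hk
    simpa [mul_assoc] using this
  have hKT : K ≤ (T : Subgroup ↥𝒜) := by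
    have h := T.3 (IsPGroup.to_sup_of_normal_right' T.2 hKp hTK) le_sup_left
    exact h ▸ le_sup_right
  have hstab : ∀ k ∈ F.autGroup R, (∀ a : ↥R, (a : Ω) ∈ A → k a = a) → k ∈ E.autGroup R := fun k hk hka => by
    have h1 := hKT (show (⟨k, hk⟩ : ↥𝒜) ∈ K from hka)
    rw [hT] at h1
    exact autInducedBy_le_autGroup E hR.1 h1
  intro g hg
  have hgF := (autGroup_carrier F hR.1 g).mp hg
  have hgA : F.StronglyClosed H := hH
  set φ := (R.subtype.comp g.toMonoidHom).comp (Subgroup.inclusion hAR) with hφdef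
  have hφ : φ ∈ F.Hom A := restrict_mem hgF hAR
  set A' := φ.range with hA'def
  have hA'R : A' ≤ R := by rintro _ ⟨a, rfl⟩; exact (g _).2
  have hA'H : A' ≤ H := by rintro _ ⟨a, rfl⟩; exact hH.2 A hAH φ hφ a
  have hA' : SmallAb p A' := by
    refine ⟨?_, ?_⟩
    · rintro _ ⟨a, rfl⟩ _ ⟨b, rfl⟩
      rw [← map_mul, ← map_mul, show a * b = b * a from Subtype.ext (hA.1 a a.2 b b.2)]
    · rintro _ ⟨a, rfl⟩
      exact small_map φ (small_of_injective A.subtype A.subtype_injective (hA.2 a a.2))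
  have hφE : φ ∈ E.Hom A :=
    ((h A A' hAH hA'H hA hA').ge ⟨hφ, fun a => ⟨a, rfl⟩⟩).1
  set φ₀ : ↥A ≃* ↥A' := isoOfMem hφ hA'def.symm
  have hφ₀ : A'.subtype.comp φ₀.toMonoidHom ∈ E.Hom A := by rwa [isoOfMem_hom hφ hA'def.symm]
  let L : Subgroup (MulAut ↥A) :=
    (R.subgroupOf (Subgroup.normalizer (A : Set Ω))).map A.normalizerMonoidHom
  obtain ⟨B, ε, hε, hB⟩ := exists_fullyKNormalized E (hAR.trans hR.1) L
  obtain ⟨χ, hχ, D, Ψ, hΨ, hAD, hND, hΨe⟩ := fullyK_extend p hS hE hB ε hε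
  obtain ⟨χ', hχ', D', Ψ', hΨ', hAD', hND', hΨe'⟩ := fullyK_extend p hS hE hB (φ₀.symm.trans ε)
    (trans_mem φ₀.symm ε (symm_mem φ₀ hφ₀) hε)
  have hRnA : R ≤ Subgroup.normalizer (A : Set Ω) := hRN.trans hNA
  have hRD : R ≤ D := fun r hr => hND ⟨hR.1 hr, A.normalizerMonoidHom ⟨r, hRnA hr⟩,
    ⟨_, ⟨A.normalizerMonoidHom ⟨r, hRnA hr⟩, ⟨⟨r, hRnA hr⟩, hr, rfl⟩, rfl⟩, by ext x; simp [MulAut.congr]⟩,
    fun x => rfl⟩
  have hRD' : R ≤ D' := fun r hr => by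
    set r₀ := g⁻¹ ⟨r, hr⟩
    refine hND' ⟨hR.1 hr, MulAut.congr φ₀ (A.normalizerMonoidHom ⟨(r₀ : Ω), hRnA r₀.2⟩),
      ⟨_, ⟨A.normalizerMonoidHom ⟨(r₀ : Ω), hRnA r₀.2⟩, ⟨⟨(r₀ : Ω), hRnA r₀.2⟩, r₀.2, rfl⟩, rfl⟩,
        by ext x; simp [MulAut.congr]⟩, fun y => ?_⟩
    obtain ⟨a, rfl⟩ := φ₀.surjective y
    show ((φ₀ (A.normalizerMonoidHom ⟨(r₀ : Ω), hRnA r₀.2⟩ (φ₀.symm (φ₀ a))) : ↥A') : Ω) = _
    rw [φ₀.symm_apply_apply, isoOfMem_coe, isoOfMem_coe]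
    show ((g (Subgroup.inclusion hAR _) : ↥R) : Ω) = r * ((g (Subgroup.inclusion hAR a) : ↥R) : Ω) * r⁻¹
    rw [show Subgroup.inclusion hAR (A.normalizerMonoidHom ⟨(r₀ : Ω), hRnA r₀.2⟩ a) =
      r₀ * Subgroup.inclusion hAR a * r₀⁻¹ from Subtype.ext rfl, map_mul, map_mul, map_inv,
      show g r₀ = ⟨r, hr⟩ from MulAut.apply_inv_self _ _ _]
    rfl
  have hf₁ := restrict_mem hΨ hRD
  have hf₂ := restrict_mem hΨ' hRD'
  set R₁ := (Ψ.comp (Subgroup.inclusion hRD)).range with hR₁def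
  set R₂ := (Ψ'.comp (Subgroup.inclusion hRD')).range with hR₂def
  set p₁ : ↥R ≃* ↥R₁ := isoOfMem hf₁ hR₁def.symm
  set p₂ : ↥R ≃* ↥R₂ := isoOfMem hf₂ hR₂def.symm
  have hp₁ : R₁.subtype.comp p₁.toMonoidHom ∈ E.Hom R := by rwa [isoOfMem_hom hf₁ hR₁def.symm]
  have hp₂ : R₂.subtype.comp p₂.toMonoidHom ∈ E.Hom R := by rwa [isoOfMem_hom hf₂ hR₂def.symm]
  obtain ⟨l, ⟨⟨r, hrN⟩, hr', rfl⟩, hle⟩ : χ⁻¹ * χ' ∈ L.map (MulAut.congr ε).toMonoidHom :=
    mul_mem (inv_mem hχ.2) hχ'.2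
  have hr : r ∈ R := hr'
  set i : MulAut ↥R := MulAut.conj (⟨r, hr⟩ : ↥R)⁻¹
  have hi : i ∈ E.autGroup R := inn_le_autGroup E hR.1 ⟨_, rfl⟩
  set θ : ↥R₁ ≃* ↥R₂ := p₁.symm.trans ((i.trans g).trans p₂)
  have hgiF : R.subtype.comp (i.trans g).toMonoidHom ∈ F.Hom R :=
    trans_mem i g (hEF R ((autGroup_carrier E hR.1 i).mp hi)) hgF
  have hθ : R₂.subtype.comp θ.toMonoidHom ∈ F.Hom R₁ :=
    trans_mem p₁.symm ((i.trans g).trans p₂) (hEF _ (symm_mem p₁ hp₁)) (trans_mem (i.trans g) p₂ hgiF (hEF R hp₂))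
  have hA₁ : ∀ a : ↥A, ((p₁ (Subgroup.inclusion hAR a) : ↥R₁) : Ω) = ((χ (ε a) : ↥B) : Ω) := fun a => by
    rw [isoOfMem_coe]; exact hΨe a (hAD a.2)
  have hA₂ : ∀ a : ↥A, ((p₂ (g (Subgroup.inclusion hAR a)) : ↥R₂) : Ω) = ((χ' (ε a) : ↥B) : Ω) := fun a => by
    rw [isoOfMem_coe]
    have := hΨe' (φ₀ a) (hAD' (φ₀ a).2)
    rw [MulEquiv.trans_apply, φ₀.symm_apply_apply] at this
    rw [← this]
    exact congrArg Ψ' (Subtype.ext (isoOfMem_coe hφ hA'def.symm a).symm)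
  have hBR₁ : B ≤ R₁ := fun b hb => by
    obtain ⟨a, ha⟩ := (ε.trans χ).surjective ⟨b, hb⟩
    have h := hA₁ a
    rw [show ((χ (ε a) : ↥B) : Ω) = b from congrArg Subtype.val ha] at h
    rw [← h]; exact SetLike.coe_mem _
  have hBR₂ : B ≤ R₂ := fun b hb => by
    obtain ⟨a, ha⟩ := (ε.trans χ').surjective ⟨b, hb⟩
    have h := hA₂ a
    rw [show ((χ' (ε a) : ↥B) : Ω) = b from congrArg Subtype.val ha] at h
    rw [← h]; exact SetLike.coe_mem _
  have hR₁B : R₁ ≤ Subgroup.normalizer (B : Set Ω) := by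
    rintro _ ⟨s, rfl⟩
    refine mem_normalizer_iff_cj.mpr ?_
    haveI : Finite ↥B := finite_of_le hB.1
    refine Subgroup.eq_of_le_of_card_ge (cj_le_iff.mpr fun b hb => ?_) (by rw [card_cj])
    obtain ⟨a, ha⟩ := (ε.trans χ).surjective ⟨b, hb⟩
    have hb' : b = Ψ (Subgroup.inclusion hRD (Subgroup.inclusion hAR a)) := by
      rw [show b = ((χ (ε a) : ↥B) : Ω) from (congrArg Subtype.val ha).symm, ← hA₁, isoOfMem_coe]; rfl
    have hsa : (s : Ω) * a * (s : Ω)⁻¹ ∈ A := conj_mem_of_normalizer (hRnA s.2) a.2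
    rw [hb', MonoidHom.comp_apply, ← map_inv, ← map_mul, ← map_mul]
    have h3 := hA₁ ⟨_, hsa⟩
    rw [isoOfMem_coe, MonoidHom.comp_apply] at h3
    rw [show Subgroup.inclusion hRD s * Subgroup.inclusion hRD (Subgroup.inclusion hAR a) * (Subgroup.inclusion hRD s)⁻¹ =
      Subgroup.inclusion hRD (Subgroup.inclusion hAR ⟨_, hsa⟩) from Subtype.ext rfl, h3]
    exact SetLike.coe_mem _
  have hcard₁ : Nat.card ↥R₁ = Nat.card ↥R := (Nat.card_congr p₁.toEquiv).symm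
  have hθfix : ∀ b : ↥R₁, (b : Ω) ∈ B → ((θ b : ↥R₂) : Ω) = b := by
    intro b hb
    obtain ⟨a, ha⟩ := (ε.trans χ).surjective ⟨(b : Ω), hb⟩
    have hb1 : b = p₁ (Subgroup.inclusion hAR a) := Subtype.ext (((congrArg Subtype.val ha).symm).trans (hA₁ a).symm)
    subst hb1
    show ((p₂ (g (i (p₁.symm (p₁ (Subgroup.inclusion hAR a))))) : ↥R₂) : Ω) = _
    rw [p₁.symm_apply_apply, hA₁]
    set a' := A.normalizerMonoidHom (⟨r, hRnA hr⟩⁻¹) a
    rw [show i (Subgroup.inclusion hAR a) = Subgroup.inclusion hAR a' from Subtype.ext rfl, hA₂]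
    refine congrArg Subtype.val ?_
    have h5 : χ' = χ * MulAut.congr ε (A.normalizerMonoidHom ⟨r, hRnA hr⟩) := by
      rw [show MulAut.congr ε (A.normalizerMonoidHom ⟨r, hRnA hr⟩) = χ⁻¹ * χ' from hle, mul_inv_cancel_left]
    rw [h5]
    show χ (ε (A.normalizerMonoidHom ⟨r, hRnA hr⟩ (ε.symm (ε a')))) = χ (ε a)
    rw [ε.symm_apply_apply]
    congr 2
    show A.normalizerMonoidHom ⟨r, hRnA hr⟩ (A.normalizerMonoidHom (⟨r, hRnA hr⟩⁻¹) a) = a
    rw [map_inv, MulAut.apply_inv_self]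
  have hθE := mem_of_fix p hS hF hEF hBR₁ hBR₂ hR₁B θ hθ hθfix (fun Q hQ => hbig Q (hcard₁ ▸ hQ)) (fun k hk hka => by
    have hk' := congr_autGroup p₁.symm (hEF _ (symm_mem p₁ hp₁)) hk
    have h1 : MulAut.congr p₁.symm k ∈ E.autGroup R := hstab _ hk' fun a ha => by
      show p₁.symm (k (p₁ a)) = a
      rw [hka _ (show ((p₁ a : ↥R₁) : Ω) ∈ B by
        rw [show a = Subgroup.inclusion hAR ⟨(a : Ω), ha⟩ from Subtype.ext rfl, hA₁]; exact SetLike.coe_mem _),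
        p₁.symm_apply_apply]
    have h2 := congr_autGroup p₁ hp₁ h1
    convert h2 using 1
    ext x; simp [MulAut.congr])
  have hfin := trans_mem i.symm ((p₁.trans θ).trans p₂.symm) ((autGroup_carrier E hR.1 _).mp (inv_mem hi))
    (trans_mem (p₁.trans θ) p₂.symm (trans_mem p₁ θ hp₁ hθE) (symm_mem p₂ hp₂))
  refine (autGroup_carrier E hR.1 g).mpr ?_
  convert hfin using 1
  ext x
  simp [θ]

end CfsgLib.Fusion
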