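import Cfsg.Agent.Lib.Fusion.SmallElements

/-! Small elements moved by a set of automorphisms stable under operators. (helper6) -/

set_option autoImplicit false
set_option linter.unusedSectionVars false
set_option linter.style.haveILetI false

namespace CfsgLib.Fusion

open Cfsg Cfsg.FusionSystem
open scoped commutatorElement

/-- A set of automorphisms of order prime to `p`, stable under a group of operators, moves an invariant subgroup of
small elements generated by the commutators with it. -/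
theorem exists_small_moved_group {P : Type*} [Group P] [Finite P] {p : ℕ} [hp : Fact p.Prime] (hP : IsPGroup p P)
    (A : Subgroup (MulAut P)) (X : Set (MulAut P)) (hXA : ∀ a ∈ X, a ∈ A) (hXc : ∀ g ∈ A, ∀ a ∈ X, g * a * g⁻¹ ∈ X)
    (hco : ∀ a ∈ X, (orderOf a).Coprime p) {a₀ : MulAut P} (ha₀ : a₀ ∈ X) (hne : a₀ ≠ 1) :
    ∃ M : Subgroup P, (∀ g ∈ A, ∀ x ∈ M, g x ∈ M) ∧ (∃ a ∈ X, ∃ x ∈ M, a x ≠ x) ∧ (∀ x ∈ M, Small p x) ∧
      Subgroup.closure {y | ∃ a ∈ X, ∃ x ∈ M, y = x⁻¹ * a x} = M := by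
  obtain ⟨M, ⟨hMinv, hMmov⟩, hmin⟩ := Set.Finite.exists_minimal
    (Set.toFinite {M : Subgroup P | (∀ g ∈ A, ∀ x ∈ M, g x ∈ M) ∧ ∃ a ∈ X, ∃ x ∈ M, a x ≠ x})
    ⟨⊤, fun _ _ _ _ => Subgroup.mem_top _, a₀, ha₀, by
      by_contra h
      push Not at h
      exact hne (MulEquiv.ext fun x => h x (Subgroup.mem_top x))⟩
  have hfix : ∀ N : Subgroup P, N ≤ M → (∀ g ∈ A, ∀ x ∈ N, g x ∈ N) → N ≠ M → ∀ a ∈ X, ∀ x ∈ N, a x = x := by
    intro N hNM hN hne' a ha x hx
    by_contra hx'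
    exact hne' (le_antisymm hNM (hmin ⟨hN, a, ha, x, hx, hx'⟩ hNM))
  set C := Subgroup.closure {y | ∃ a ∈ X, ∃ x ∈ M, y = x⁻¹ * a x} with hCdef
  have hCM : C ≤ M := (Subgroup.closure_le M).mpr (by
    rintro _ ⟨a, ha, x, hx, rfl⟩; exact mul_mem (inv_mem hx) (hMinv a (hXA a ha) x hx))
  have hCinv : ∀ g ∈ A, ∀ y ∈ C, g y ∈ C := by
    intro g hg y hy
    induction hy using Subgroup.closure_induction with
    | mem z hz =>
      obtain ⟨a, ha, w, hw, rfl⟩ := hz
      exact Subgroup.subset_closure ⟨g * a * g⁻¹, hXc g hg a ha, g w, hMinv g hg w hw, by simp⟩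
    | one => simp
    | mul a b _ _ ha hb => rw [map_mul]; exact mul_mem ha hb
    | inv a _ ha => rw [map_inv]; exact inv_mem ha
  have hCeq : C = M := by
    by_contra h
    obtain ⟨a, ha, x, hx, hx'⟩ := hMmov
    exact hx' (eq_self_of_step hP (hco a ha) (hfix C hCM hCinv h a ha _ (Subgroup.subset_closure ⟨a, ha, x, hx, rfl⟩)))
  haveI : Nontrivial ↥M := by
    obtain ⟨a, ha, x, hx, hx'⟩ := hMmov
    exact nontrivial_of_ne ⟨x, hx⟩ 1 fun h => hx' (by
      rw [show x = 1 from congrArg Subtype.val h, map_one])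
  obtain ⟨hcom, hpow⟩ := Cfsg.Agent.S0012.result p (hP.to_subgroup M)
  set Φ := frattini ↥M
  have hres := fun g hg => CfsgLib.RigidAut.exists_restrict g M (hMinv g hg)
  have hΦfix : ∀ a ∈ X, ∀ w ∈ Φ, a (w : P) = w := fun a ha w hw => by
    refine hfix (Φ.map M.subtype) (Subgroup.map_subtype_le _) ?_ ?_ a ha w ⟨w, hw, rfl⟩
    · rintro g hg _ ⟨v, hv, rfl⟩
      obtain ⟨β, hβ, -⟩ := hres g hg
      exact ⟨β v, (Subgroup.characteristic_iff_map_le.mp (inferInstance : (frattini ↥M).Characteristic) β) ⟨v, hv, rfl⟩,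
        hβ v⟩
    · intro h
      have h' : Φ = ⊤ := (Subgroup.map_injective M.subtype_injective) (by
        rw [h, ← MonoidHom.range_eq_map, Subgroup.range_subtype])
      exact bot_ne_top (frattini_nongenerating (G := ↥M) (K := ⊥) (by rw [bot_sup_eq]; exact h'))
  have hΦZ : ∀ w ∈ Φ, ∀ m ∈ M, (w : P) * m = m * w := by
    intro w hw m hm
    have hle : C ≤ Subgroup.centralizer {(w : P)} := by
      refine (Subgroup.closure_le _).mpr ?_
      rintro _ ⟨a, ha, y, hy, rfl⟩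
      rw [SetLike.mem_coe, Subgroup.mem_centralizer_singleton_iff]
      have h0 := hΦfix a ha _ ((inferInstance : Φ.Normal).conj_mem w hw ⟨y, hy⟩)
      simp only [Subgroup.coe_mul, Subgroup.coe_inv, map_mul, map_inv, hΦfix a ha w hw] at h0
      calc y⁻¹ * a y * (w : P) = y⁻¹ * (a y * (w : P) * (a y)⁻¹) * a y := by group
        _ = y⁻¹ * (y * (w : P) * y⁻¹) * a y := by rw [h0]
        _ = (w : P) * (y⁻¹ * a y) := by group
    exact (Subgroup.mem_centralizer_singleton_iff.mp (hle (hCeq.ge hm))).symm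
  set e := if p = 2 then 4 else p with he
  have hpe : p ∣ e := by rw [he]; split_ifs with h <;> simp [h]
  have hpe2 : p ∣ e.choose 2 := by
    rw [he]; split_ifs with h
    · rw [h]; exact ⟨3, rfl⟩
    · exact hp.out.dvd_choose_self (by norm_num) (lt_of_le_of_ne hp.out.two_le (Ne.symm h))
  have hprod : ∀ a b : ↥M, (a * b) ^ e = a ^ e * b ^ e := by
    intro a b
    set c := ⁅b⁻¹, a⁻¹⁆
    have hcΦ : c ∈ Φ := hcom (Subgroup.commutator_mem_commutator (Subgroup.mem_top _) (Subgroup.mem_top _))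
    have hc : ∀ w : ↥M, c * w = w * c := fun w => Subtype.ext (hΦZ c hcΦ w w.2)
    have hba : b * a = a * b * c := by simp only [c, commutatorElement_def]; group
    have hcp : c ^ p = 1 := by
      have hb : ∀ k : ℕ, b ^ k * a = a * b ^ k * c ^ k := by
        intro k
        induction k with
        | zero => simp
        | succ k ih =>
          rw [pow_succ' b, mul_assoc, ih, show b * (a * b ^ k * c ^ k) = b * a * b ^ k * c ^ k by group, hba,
            mul_assoc (a * b) c, hc, pow_succ' c]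
          group
      exact left_eq_mul.mp ((Subtype.ext (hΦZ _ (hpow b) a a.2).symm : a * b ^ p = b ^ p * a).trans (hb p))
    obtain ⟨d, hd⟩ := hpe2
    rw [mul_pow_central hba hc, hd, pow_mul, hcp, one_pow, mul_one]
  refine ⟨M, hMinv, hMmov, fun x hx => ?_, hCeq⟩
  have hxe : (⟨x, hx⟩ : ↥M) ^ e = 1 := by
    refine Subtype.ext ?_
    have hle : C ≤ (MonoidHom.mk' (fun a : ↥M => a ^ e) hprod).ker.map M.subtype := by
      refine (Subgroup.closure_le _).mpr ?_
      rintro _ ⟨a, ha, y, hy, rfl⟩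
      refine ⟨⟨y⁻¹, inv_mem hy⟩ * ⟨a y, hMinv a (hXA a ha) y hy⟩, ?_, rfl⟩
      obtain ⟨d, hd⟩ := hpe
      have h1 : (⟨a y, hMinv a (hXA a ha) y hy⟩ : ↥M) ^ e = ⟨y, hy⟩ ^ e := Subtype.ext (by
        show (a y) ^ e = y ^ e
        rw [hd, pow_mul, pow_mul, ← map_pow]
        exact congrArg (· ^ d) (hΦfix a ha _ (hpow ⟨y, hy⟩)))
      show (_ * _ : ↥M) ^ e = 1
      rw [hprod, h1, show (⟨y⁻¹, inv_mem hy⟩ : ↥M) = ⟨y, hy⟩⁻¹ from rfl, inv_pow, inv_mul_cancel]
    obtain ⟨z, hz, hze⟩ := hle (hCeq.ge hx)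
    rw [show (⟨x, hx⟩ : ↥M) = z from Subtype.ext hze.symm]
    exact congrArg Subtype.val (show z ^ e = 1 from hz)
  have hx' : x ^ e = 1 := congrArg Subtype.val hxe
  rw [he] at hx'
  split_ifs at hx' with h
  · exact Or.inr ⟨h, hx'⟩
  · exact Or.inl hx'

variable {Ω : Type*} [Group Ω] {S : Subgroup Ω} [Finite ↥S] {F : FusionSystem S} {p : ℕ} [Fact p.Prime]

set_option maxHeartbeats 1000000 in
/-- If every map between small cyclic subgroups of the hyperfocal subgroup extends to `S`, then `S` is normal. -/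
theorem isNormal_top_of_small (hS : IsPGroup p ↥S) (hF : F.IsSaturated p)
    (h : ∀ A B : Subgroup Ω, A ≤ F.hyperfocalSubgroup p → B ≤ F.hyperfocalSubgroup p → IsCyclic ↥A →
      (Nat.card ↥A = p ∨ Nat.card ↥A = 4) → IsCyclic ↥B → (Nat.card ↥B = p ∨ Nat.card ↥B = 4) →
      F.homSet A B ⊆ F.normalizerHom S A) : F.IsNormal S := by
  haveI : Group.IsNilpotent ↥S := hS.isNilpotent
  obtain ⟨n, hn⟩ := Subgroup.nilpotent_iff_lowerCentralSeries.mp (inferInstance : Group.IsNilpotent ↥S)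
  let C : ℕ → Subgroup Ω := fun i => (Subgroup.lowerCentralSeries (⊤ : Subgroup ↥S) i).map S.subtype
  refine isNormal_of_le_radical p hS hF ⟨le_rfl, fun R hR φ hφ x => apply_mem_S hφ x⟩ fun R hRn hc hr => ?_
  haveI := finite_of_le hc.1
  haveI := finite_aut_of_le hc.1
  by_contra hRS
  set A := F.autGroup R with hAdef
  let I : Subgroup ↥A := (autInducedBy S R).subgroupOf A
  let N : Subgroup ↥A := Subgroup.normalClosure (I : Set ↥A)
  have hmove : ∀ (g : MulAut ↥R), g ∈ A → ∀ (m : ↥R), Small p m → (m : Ω) ∈ F.hyperfocalSubgroup p →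
      ((g m : ↥R) : Ω) ∈ F.hyperfocalSubgroup p → ∀ i, (m : Ω) ∈ C i → ((g m : ↥R) : Ω) ∈ C i := by
    intro g hg m hsm hm hgm i hmi
    by_cases hm1 : m = 1
    · rw [hm1, map_one]; exact one_mem _
    have hsub : Subgroup.zpowers (m : Ω) ≤ R := Subgroup.zpowers_le.mpr m.2
    have hc1 := small_card_zpowers (Fact.out : p.Prime) (small_map R.subtype hsm) (fun h => hm1 (Subtype.ext h))
    have hc2 := small_card_zpowers (Fact.out : p.Prime) (small_map R.subtype (small_map g.toMonoidHom hsm))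
      (fun h => hm1 (g.injective ((Subtype.ext h : g m = 1).trans (map_one g).symm)))
    obtain ⟨-, -, -, ψ, hψ, hψe, -⟩ := h (Subgroup.zpowers (m : Ω)) (Subgroup.zpowers ((g m : ↥R) : Ω))
      (Subgroup.zpowers_le.mpr hm) (Subgroup.zpowers_le.mpr hgm) inferInstance hc1 inferInstance hc2
      ⟨restrict_mem ((autGroup_carrier F hc.1 g).mp hg) hsub, fun x => by
        obtain ⟨z, hz⟩ := Subgroup.mem_zpowers_iff.mp x.2
        refine Subgroup.mem_zpowers_iff.mpr ⟨z, ?_⟩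
        show _ = ((g (Subgroup.inclusion hsub x) : ↥R) : Ω)
        rw [show Subgroup.inclusion hsub x = m ^ z from Subtype.ext hz.symm, map_zpow, Subgroup.coe_zpow]⟩
    have hψS := restrict_mem hψ (le_sup_right : S ≤ Subgroup.zpowers (m : Ω) ⊔ S)
    have hrS := eq_of_isConj_S ⟨_, hψS, rfl⟩
    obtain ⟨y, hy, hye⟩ := hmi
    refine ⟨isoOfMem hψS hrS y, Subgroup.lowerCentralSeries.map (isoOfMem hψS hrS).toMonoidHom i ⟨y, hy, rfl⟩, ?_⟩
    refine Eq.trans ?_ (hψe ⟨(m : Ω), Subgroup.mem_zpowers _⟩)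
    exact congrArg ψ (Subtype.ext hye)
  have hNp : IsPGroup p ↥N := by
    by_contra hNp
    obtain ⟨a₀, ha₀, hco₀, hne⟩ : ∃ a₀ : ↥A, a₀ ∈ N ∧ (orderOf a₀).Coprime p ∧ a₀ ≠ 1 := by
      by_contra hno
      push Not at hno
      refine hNp fun a => ?_
      obtain ⟨k, m, hm, hkm⟩ := Nat.exists_eq_pow_mul_and_not_dvd (orderOf_pos a).ne' p (Fact.out : p.Prime).ne_one
      refine ⟨k, Subtype.ext ?_⟩
      refine hno _ (pow_mem a.2 _) ?_
      rw [Subgroup.orderOf_coe, orderOf_pow' a (pow_ne_zero _ (Fact.out : p.Prime).ne_zero), hkm,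
        Nat.gcd_eq_right (Dvd.intro _ rfl), Nat.mul_div_cancel_left _ (pow_pos (Fact.out : p.Prime).pos k)]
      exact ((Nat.Prime.coprime_iff_not_dvd Fact.out).mpr hm).symm
    let X : Set (MulAut ↥R) := {b | ∃ a : ↥A, (a : MulAut ↥R) = b ∧ a ∈ N ∧ (orderOf a).Coprime p}
    have hXA : ∀ b ∈ X, b ∈ A := by rintro _ ⟨a, rfl, -, -⟩; exact a.2
    obtain ⟨M, hMinv, ⟨b, hb, x, hx, hbx⟩, hsmall, hMeq⟩ := exists_small_moved_group (hS.to_le hc.1) A X hXA
      (by
        rintro g hg _ ⟨a, rfl, ha, hao⟩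
        refine ⟨⟨g, hg⟩ * a * ⟨g, hg⟩⁻¹, rfl, Subgroup.normalClosure_normal.conj_mem a ha _, ?_⟩
        rw [← MulAut.conj_apply, MulEquiv.orderOf_eq]
        exact hao)
      (by rintro _ ⟨a, rfl, -, hao⟩; rwa [Subgroup.orderOf_coe])
      (show (a₀ : MulAut ↥R) ∈ X from ⟨a₀, rfl, ha₀, hco₀⟩) (fun h => hne (Subtype.ext h))
    have hMH : ∀ m ∈ M, ((m : ↥R) : Ω) ∈ F.hyperfocalSubgroup p := by
      intro m hm
      rw [← hMeq] at hm
      induction hm using Subgroup.closure_induction with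
      | mem y hy =>
        obtain ⟨_, ⟨a, rfl, -, hao⟩, w, -, rfl⟩ := hy
        exact inv_mul_mem_hyperfocal hc.1 a hao w
      | one => exact one_mem _
      | mul u v _ _ hu hv => exact mul_mem hu hv
      | inv u _ hu => exact inv_mem hu
    let D : ℕ → Subgroup ↥R := fun i => M ⊓ (C i).subgroupOf R
    have hD : ∀ (g : ↥A) (i : ℕ), ∀ y ∈ D i, (g : MulAut ↥R) y ∈ D i := fun g i y hy =>
      ⟨hMinv _ g.2 y hy.1, hmove _ g.2 y (hsmall y hy.1) (hMH y hy.1) (hMH _ (hMinv _ g.2 y hy.1)) i hy.2⟩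
    let St : Subgroup ↥A :=
      { carrier := {a | ∀ i, ∀ y ∈ D i, y⁻¹ * (a : MulAut ↥R) y ∈ D (i + 1)}
        one_mem' := fun i y _ => by simp
        mul_mem' := by
          intro a b ha hb i y hy
          have := mul_mem (hb i y hy) (ha i _ (hD b i y hy))
          simpa [mul_assoc] using this
        inv_mem' := by
          intro a ha i y hy
          have h := inv_mem (ha i _ (hD a⁻¹ i y hy))
          simpa using h }
    haveI : St.Normal := ⟨fun a ha g i y hy => by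
      have h := hD g (i + 1) _ (ha i _ (hD g⁻¹ i y hy))
      simpa using h⟩
    have hNS : N ≤ St := Subgroup.normalClosure_le_normal fun a ha i y hy => by
      obtain ⟨g, hg, hga⟩ := (mem_autInducedBy _).mp ha
      refine ⟨M.mul_mem (M.inv_mem hy.1) (hMinv _ a.2 y hy.1), Subgroup.mem_subgroupOf.mpr ?_⟩
      obtain ⟨z, hz, hzy⟩ := hy.2
      refine ⟨z⁻¹ * (⟨g, hg⟩ * z * ⟨g, hg⟩⁻¹), ?_, ?_⟩
      · have : ⁅z⁻¹, (⟨g, hg⟩ : ↥S)⁆ ∈ Subgroup.lowerCentralSeries (⊤ : Subgroup ↥S) (i + 1) :=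
          Subgroup.commutator_mem_commutator (inv_mem hz) (Subgroup.mem_top _)
        simpa [commutatorElement_def, mul_assoc] using this
      · show (z : Ω)⁻¹ * (g * z * g⁻¹) = (y : Ω)⁻¹ * (((a : MulAut ↥R) y : ↥R) : Ω)
        rw [show (((a : MulAut ↥R) y : ↥R) : Ω) = g * (y : Ω) * g⁻¹ from hga y, show (z : Ω) = y from hzy]
    obtain ⟨a, rfl, haN, hao⟩ := hb
    have hfix : ∀ j i, i + j = n → ∀ y ∈ D i, (a : MulAut ↥R) y = y := by
      intro j
      induction j with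
      | zero =>
        intro i hi y hy
        obtain ⟨z, hz, hzy⟩ := hy.2
        obtain rfl : i = n := by simpa using hi
        rw [hn, SetLike.mem_coe, Subgroup.mem_bot] at hz
        rw [show y = 1 from Subtype.ext (hzy.symm.trans (congrArg S.subtype hz)), map_one]
      | succ j ih =>
        intro i hi y hy
        refine eq_self_of_step (hS.to_le hc.1) (α := (a : MulAut ↥R)) (by rwa [Subgroup.orderOf_coe]) ?_
        exact ih (i + 1) (by omega) _ (hNS haN i y hy)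
    refine hbx (hfix n 0 (zero_add n) x ⟨hx, Subgroup.mem_subgroupOf.mpr ⟨⟨x, hc.1 x.2⟩, ?_, rfl⟩⟩)
    rw [Subgroup.lowerCentralSeries_zero]; exact Subgroup.mem_top _
  have hlt : R < S := lt_of_le_not_ge hc.1 hRS
  obtain ⟨g, hg, -, hgI⟩ := exists_notInn p hS hc hlt
  have haA : R.normalizerMonoidHom ⟨g, hg.2⟩ ∈ autInducedBy S R := (mem_autInducedBy _).mpr ⟨g, hg.1, fun x => rfl⟩
  refine hgI (R.normalizerMonoidHom ⟨g, hg.2⟩) (fun x => rfl) (hr.2 ▸ ⟨⟨_, autInducedBy_le_autGroup F hc.1 haA⟩,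
    CfsgLib.Core.le_pCore Subgroup.normalClosure_normal hNp (Subgroup.subset_normalClosure haA), rfl⟩)

end CfsgLib.Fusion
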