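import Cfsg.Agent.Lib.Fusion.Over

/-! Invariance of a subsystem and strong invariance. (helper6) -/

set_option autoImplicit false
set_option linter.unusedSectionVars false
set_option linter.style.haveILetI false

namespace CfsgLib.Fusion

open Cfsg Cfsg.FusionSystem

universe u

variable {Ω : Type u} [Group Ω] {S : Subgroup Ω} [Finite ↥S] {F : FusionSystem S} {p : ℕ} [Fact p.Prime]

/-- A group of automorphisms of `R` that keeps `U ≤ R` invariant, restricted to `U`. -/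
def resHom {R U : Subgroup Ω} (h : U ≤ R) (A : Subgroup (MulAut ↥R))
    (hA : ∀ a ∈ A, ∀ x : ↥U, ((a (Subgroup.inclusion h x) : ↥R) : Ω) ∈ U) : ↥A →* MulAut ↥U where
  toFun a :=
    { toFun := fun x => ⟨_, hA _ a.2 x⟩
      invFun := fun x => ⟨_, hA _ (inv_mem a.2) x⟩
      left_inv := fun x => Subtype.ext (by
        show (((a : MulAut ↥R)⁻¹ (Subgroup.inclusion h ⟨_, hA _ a.2 x⟩) : ↥R) : Ω) = _
        rw [show Subgroup.inclusion h ⟨_, hA _ a.2 x⟩ = (a : MulAut ↥R) (Subgroup.inclusion h x) from Subtype.ext rfl,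
          MulAut.inv_apply_self]
        rfl)
      right_inv := fun x => Subtype.ext (by
        show (((a : MulAut ↥R) (Subgroup.inclusion h ⟨_, hA _ (inv_mem a.2) x⟩) : ↥R) : Ω) = _
        rw [show Subgroup.inclusion h ⟨_, hA _ (inv_mem a.2) x⟩ = (a : MulAut ↥R)⁻¹ (Subgroup.inclusion h x) from
          Subtype.ext rfl, MulAut.apply_inv_self]
        rfl)
      map_mul' := fun x y => Subtype.ext (by
        show (((a : MulAut ↥R) (Subgroup.inclusion h (x * y)) : ↥R) : Ω) = _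
        rw [map_mul, map_mul]
        rfl) }
  map_one' := MulEquiv.ext fun x => Subtype.ext rfl
  map_mul' a b := MulEquiv.ext fun x => Subtype.ext (congrArg (fun y : ↥R => (((a : MulAut ↥R) y : ↥R) : Ω)) (Subtype.ext rfl))

theorem resHom_coe {R U : Subgroup Ω} (h : U ≤ R) (A : Subgroup (MulAut ↥R))
    (hA : ∀ a ∈ A, ∀ x : ↥U, ((a (Subgroup.inclusion h x) : ↥R) : Ω) ∈ U) (a : ↥A) (x : ↥U) :
    ((resHom h A hA a x : ↥U) : Ω) = ((a : MulAut ↥R) (Subgroup.inclusion h x) : Ω) := rfl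

/-- Alperin induction over a strongly closed `T`, with normal subgroups of automorphisms containing those induced by `T`. -/
theorem le_of_over_normal (hS : IsPGroup p ↥S) (hF : F.IsSaturated p) {T : Subgroup Ω} (hT : F.StronglyClosed T)
    (E : FusionSystem S) (hbase : ∀ R : Subgroup Ω, R ≤ S → T ≤ R → F.autGroup R ≤ E.autGroup R)
    (K : ∀ R : Subgroup Ω, R ≤ S → Subgroup ↥(F.autGroup R)) (hKn : ∀ R hR, (K R hR).Normal)
    (hKT : ∀ (R : Subgroup Ω) (hR : R ≤ S) (a : ↥(F.autGroup R)) (c : Ω), c ∈ T →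
      (∀ x : ↥R, (((a : MulAut ↥R) x : ↥R) : Ω) = c * (x : Ω) * c⁻¹) → a ∈ K R hR)
    (hKE : ∀ (R : Subgroup Ω) (hR : R ≤ S), ∀ a ∈ K R hR, (a : MulAut ↥R) ∈ E.autGroup R) : F ≤ E :=
  le_of_autGroup p hS hF E fun R hR hbig => by
    haveI := finite_of_le hR.1
    haveI := finite_aut_of_le hR.1
    by_cases hTR : T ≤ R
    · exact hbase R hR.1 hTR
    haveI := hKn R hR.1
    set A := F.autGroup R
    obtain ⟨-, TS, hTS⟩ := fullyNormalized_automized p hS hF hR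
    set T₀ := (TS : Subgroup ↥A) ⊓ K R hR.1
    have hidx : ¬ p ∣ T₀.relIndex (K R hR.1) :=
      sylow_inf_normal (H := ⊤) (by rw [Subgroup.relIndex_top_right]; exact TS.not_dvd_index) le_top le_top
        (by rw [Subgroup.normalizer_eq_top_iff.mpr inferInstance])
    let TK : Sylow p ↥(K R hR.1) := ((TS.2.to_le inf_le_left : IsPGroup p ↥T₀).comap_subtype).toSylow hidx
    have hfr : Subgroup.normalizer (((TK : Subgroup ↥(K R hR.1)).map (K R hR.1).subtype : Subgroup ↥A) : Set ↥A) ⊔ K R hR.1 = ⊤ :=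
      Sylow.normalizer_sup_eq_top TK
    rw [show (TK : Subgroup ↥(K R hR.1)).map (K R hR.1).subtype = T₀ from Subgroup.map_subgroupOf_eq_of_le inf_le_right] at hfr
    have hTn : S ≤ Subgroup.normalizer (T : Set Ω) := StronglyClosed.normal hT
    obtain ⟨c, hc, hcR, hcN⟩ : ∃ c ∈ T, c ∉ R ∧ c ∈ Subgroup.normalizer (R : Set Ω) := by
      have hlt : R < R ⊔ T := lt_of_le_of_ne le_sup_left fun h => hTR (h ▸ le_sup_right)
      haveI : Finite ↥(R ⊔ T) := finite_of_le (sup_le hR.1 hT.1)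
      obtain ⟨g, hgN, hgR⟩ := SetLike.exists_of_lt (lt_normalizerIn (S := R ⊔ T) p (hS.to_le (sup_le hR.1 hT.1)) hlt)
      have hg' : g ∈ ((R ⊔ T : Subgroup Ω) : Set Ω) := hgN.1
      rw [Subgroup.coe_mul_of_left_le_normalizer_right R T (hR.1.trans hTn)] at hg'
      obtain ⟨x, hx, r, hr, rfl⟩ := hg'
      refine ⟨r, hr, fun h => hgR (R.mul_mem hx h), ?_⟩
      simpa using Subgroup.mul_mem _ (Subgroup.inv_mem _ (Subgroup.le_normalizer hx : x ∈ Subgroup.normalizer (R : Set Ω))) hgN.2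
    have hcA : R.normalizerMonoidHom ⟨c, hcN⟩ ∈ autInducedBy S R := (mem_autInducedBy _).mpr ⟨c, hT.1 hc, fun _ => rfl⟩
    have hcT₀ : (⟨_, autInducedBy_le_autGroup F hR.1 hcA⟩ : ↥A) ∈ T₀ :=
      Subgroup.mem_inf.mpr ⟨by rw [hTS]; exact hcA, hKT R hR.1 _ c hc fun _ => rfl⟩
    intro α hα
    obtain ⟨γ, hγ, k, hk, hgk⟩ := Subgroup.mem_sup_of_normal_right.mp (hfr.ge (Subgroup.mem_top (⟨α, hα⟩ : ↥A)))
    rw [show α = ((γ : ↥A) : MulAut ↥R) * ((k : ↥A) : MulAut ↥R) from congrArg Subtype.val hgk.symm]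
    refine mul_mem ?_ (hKE R hR.1 k hk)
    set φ : ↥R →* Ω := R.subtype.comp (γ : MulAut ↥R).toMonoidHom
    have hφ : φ ∈ F.Hom R := (autGroup_carrier F hR.1 _).mp γ.2
    have hr' : φ.range = R := by
      ext y
      exact ⟨fun ⟨x, hx⟩ => hx ▸ ((γ : MulAut ↥R) x).2, fun hy => ⟨(γ : MulAut ↥R).symm ⟨y, hy⟩, by simp [φ]⟩⟩
    have h2 := ((Subgroup.mem_normalizer_iff.mp hγ _).mp hcT₀).1
    rw [hTS] at h2
    obtain ⟨h, hh, hhe⟩ := (mem_autInducedBy _).mp h2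
    have hext : c ∈ extender S R φ := by
      refine mem_extender ⟨hT.1 hc, hcN⟩ hh fun x hx => ?_
      refine Eq.trans ?_ (hhe ((γ : MulAut ↥R) x))
      show ((γ : MulAut ↥R) ⟨c * x * c⁻¹, hx⟩ : Ω) =
        ((γ : MulAut ↥R) (R.normalizerMonoidHom ⟨c, hcN⟩ ((γ : MulAut ↥R)⁻¹ ((γ : MulAut ↥R) x))) : Ω)
      rw [MulAut.inv_apply_self]
      exact congrArg (fun y : ↥R => (((γ : MulAut ↥R) y : ↥R) : Ω)) (Subtype.ext rfl)
    obtain ⟨ψ, hψ, hψe⟩ := (fullyNormalized_receptive p hS hF hR).2 R φ hφ hr'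
    haveI : Finite ↥(extender S R φ) := finite_of_le ((extender_le S R φ).trans inf_le_left)
    have hlt2 : R < extender S R φ := lt_of_le_of_ne (le_extender hφ) fun h => hcR (h ▸ hext)
    exact (autGroup_carrier E hR.1 _).mpr (restrict_mem_of_eq (hbig _ (Set.Finite.card_lt_card (Set.toFinite _) hlt2) hψ)
      hlt2.le fun x => (hψe x x.2 _).symm)

/-- The transport of a map of an invariant subsystem, with the image named. -/
theorem inv_conj {T : Subgroup Ω} {E : FusionSystem T}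
    (hI : ∀ (P : Subgroup Ω) (hPT : P ≤ T) (φ : ↥P →* Ω), φ ∈ E.Hom P → ∀ α ∈ F.autGroup T,
      ∃ χ ∈ E.Hom ((P.subgroupOf T).map (T.subtype.comp α.toMonoidHom)),
        ∀ (x : P) (hφx : φ x ∈ T)
          (hαx : ((α ⟨x, hPT x.2⟩ : T) : Ω) ∈ (P.subgroupOf T).map (T.subtype.comp α.toMonoidHom)),
          χ ⟨(α ⟨x, hPT x.2⟩ : T), hαx⟩ = ((α ⟨φ x, hφx⟩ : T) : Ω))
    {P P' : Subgroup Ω} (hPT : P ≤ T) {φ : ↥P →* Ω} (hφ : φ ∈ E.Hom P) {α : MulAut ↥T} (hα : α ∈ F.autGroup T)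
    (h : ∀ y : Ω, y ∈ P' ↔ ∃ x : ↥P, ((α ⟨x, hPT x.2⟩ : ↥T) : Ω) = y) :
    ∃ χ ∈ E.Hom P', ∀ (x : P) (hφx : φ x ∈ T) (hαx : ((α ⟨x, hPT x.2⟩ : ↥T) : Ω) ∈ P'),
      χ ⟨(α ⟨x, hPT x.2⟩ : T), hαx⟩ = ((α ⟨φ x, hφx⟩ : T) : Ω) := by
  obtain rfl : (P.subgroupOf T).map (T.subtype.comp α.toMonoidHom) = P' := by
    ext y
    rw [h]
    exact ⟨fun ⟨z, hz, hzy⟩ => ⟨⟨z, hz⟩, hzy⟩, fun ⟨x, hx⟩ => ⟨⟨x, hPT x.2⟩, x.2, hx⟩⟩
  exact hI P hPT φ hφ α hα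

/-- Invariance is equivalent to strong invariance. -/
theorem invariant_iff_strong (hS : IsPGroup p ↥S) (hF : F.IsSaturated p) {T : Subgroup Ω} (E : FusionSystem T)
    (hE : E.IsSubsystemOf F) (hT : F.StronglyClosed T) :
    E.IsInvariantIn F ↔ ∀ (P Q : Subgroup Ω) (hPQ : P ≤ Q) (_ : Q ≤ T) (φ : ↥P →* Ω) (_ : φ ∈ E.Hom P)
      (hφQ : ∀ x : P, φ x ∈ Q) (ψ : ↥Q →* Ω) (_ : ψ ∈ F.Hom Q), ∃ χ ∈ E.Hom ((P.subgroupOf Q).map ψ),
        ∀ (x : P) (hx : ψ (Subgroup.inclusion hPQ x) ∈ (P.subgroupOf Q).map ψ),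
          χ ⟨ψ (Subgroup.inclusion hPQ x), hx⟩ = ψ ⟨φ x, hφQ x⟩ := by
  constructor
  · rintro ⟨-, -, hI, hFr⟩ P Q hPQ hQT φ hφ hφQ ψ hψ
    obtain ⟨α, hα, ψ₀, hψ₀, hψe⟩ := hFr Q hQT ψ hψ
    have hP₀ : ψ₀.comp (Subgroup.inclusion hPQ) ∈ E.Hom P := restrict_mem hψ₀ hPQ
    obtain ⟨η, hη, hηr, hηe⟩ := exists_inverse hP₀ rfl
    have hv : ∀ z, η z ∈ P := fun z => hηr.le ⟨z, rfl⟩
    have hφ' := E.comp_mem hη hφ hv
    have hv' : ∀ z, φ.comp (η.codRestrict P hv) z ∈ Q := fun z => hφQ _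
    have hφ'' := E.comp_mem hφ' hψ₀ hv'
    have hPT : (ψ₀.comp (Subgroup.inclusion hPQ)).range ≤ T := range_le_S hP₀
    obtain ⟨χ, hχ, hχe⟩ := inv_conj hI hPT hφ'' hα (P' := (P.subgroupOf Q).map ψ) (fun y => by
      constructor
      · rintro ⟨z, hz, rfl⟩
        exact ⟨⟨_, ⟨⟨z, hz⟩, rfl⟩⟩, (hψe z (apply_mem_S hψ₀ z)).symm⟩
      · rintro ⟨⟨_, x, rfl⟩, rfl⟩
        exact ⟨Subgroup.inclusion hPQ x, x.2, hψe _ _⟩)
    refine ⟨χ, hχ, fun x hx => ?_⟩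
    have e : ψ (Subgroup.inclusion hPQ x) = ((α ⟨_, hPT ⟨x, rfl⟩⟩ : ↥T) : Ω) := hψe _ _
    have hx' : ((α ⟨_, hPT ⟨x, rfl⟩⟩ : ↥T) : Ω) ∈ (P.subgroupOf Q).map ψ := by rw [← e]; exact hx
    rw [show (⟨ψ (Subgroup.inclusion hPQ x), hx⟩ : ↥((P.subgroupOf Q).map ψ)) = ⟨_, hx'⟩ from Subtype.ext e,
      hχe ⟨_, x, rfl⟩ (apply_mem_S hφ'' _) hx']
    rw [hψe ⟨φ x, hφQ x⟩ (apply_mem_S hψ₀ _)]
    refine congrArg (fun t : ↥T => ((α t : ↥T) : Ω)) (Subtype.ext ?_)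
    show ψ₀ ⟨φ ⟨η ⟨_, _⟩, _⟩, _⟩ = ψ₀ ⟨φ x, _⟩
    exact congrArg ψ₀ (Subtype.ext (congrArg φ (Subtype.ext (hηe x _))))
  intro hSI
  have hI : ∀ (P : Subgroup Ω) (hPT : P ≤ T) (φ : ↥P →* Ω), φ ∈ E.Hom P → ∀ α ∈ F.autGroup T,
      ∃ χ ∈ E.Hom ((P.subgroupOf T).map (T.subtype.comp α.toMonoidHom)),
        ∀ (x : P) (hφx : φ x ∈ T)
          (hαx : ((α ⟨x, hPT x.2⟩ : T) : Ω) ∈ (P.subgroupOf T).map (T.subtype.comp α.toMonoidHom)),
          χ ⟨(α ⟨x, hPT x.2⟩ : T), hαx⟩ = ((α ⟨φ x, hφx⟩ : T) : Ω) := by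
    intro P hPT φ hφ α hα
    obtain ⟨χ, hχ, hχe⟩ := hSI P T hPT le_rfl φ hφ (apply_mem_S hφ) _ ((autGroup_carrier F hT.1 α).mp hα)
    exact ⟨χ, hχ, fun x hφx hαx => hχe x hαx⟩
  refine ⟨hE, hT, hI, ?_⟩
  let M : ∀ P : Subgroup Ω, (↥P →* Ω) → Prop := fun P φ => ∀ (U : Subgroup Ω) (h : U ≤ P), U ≤ T →
    ∃ α ∈ F.autGroup T, ∃ φ₀ ∈ E.Hom U, ∀ (u : ↥U) (hu : φ₀ u ∈ T), φ (Subgroup.inclusion h u) = ((α ⟨φ₀ u, hu⟩ : ↥T) : Ω)
  let D : FusionSystem S := subsystem F M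
    (fun {P g} hP hg U h hUT => by
      have hgN : g ∈ Subgroup.normalizer (T : Set Ω) := StronglyClosed.normal hT hg
      exact ⟨_, autInducedBy_le_autGroup F hT.1 ((mem_autInducedBy (T.normalizerMonoidHom ⟨g, hgN⟩)).mpr ⟨g, hg, fun _ => rfl⟩),
        U.subtype, incl_mem E hUT, fun u hu => rfl⟩)
    (fun {P R φ ψ} hφF hφ hψF hψ hPR U h hUT => by
      obtain ⟨α, hα, φ₀, hφ₀, hφe⟩ := hφ U h hUT
      have hle : (φ.comp (Subgroup.inclusion h)).range ≤ R := by rintro _ ⟨x, rfl⟩; exact hPR _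
      have hleT : (φ.comp (Subgroup.inclusion h)).range ≤ T := by
        rintro _ ⟨x, rfl⟩; exact hT.2 U hUT _ (restrict_mem hφF h) x
      obtain ⟨β, hβ, ψ₀, hψ₀, hψe⟩ := hψ _ hle hleT
      obtain ⟨χ, hχ, hχe⟩ := inv_conj hI hleT hψ₀ (inv_mem hα) (P' := φ₀.range) (fun y => by
        constructor
        · rintro ⟨u, rfl⟩
          refine ⟨⟨φ (Subgroup.inclusion h u), u, rfl⟩, ?_⟩
          rw [show (⟨φ (Subgroup.inclusion h u), hleT ⟨u, rfl⟩⟩ : ↥T) = α ⟨φ₀ u, apply_mem_S hφ₀ u⟩ from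
            Subtype.ext (hφe u _), MulAut.inv_apply_self]
        · rintro ⟨⟨_, u, rfl⟩, rfl⟩
          refine ⟨u, ?_⟩
          rw [show (⟨φ.comp (Subgroup.inclusion h) u, hleT ⟨u, rfl⟩⟩ : ↥T) = α ⟨φ₀ u, apply_mem_S hφ₀ u⟩ from
            Subtype.ext (hφe u _), MulAut.inv_apply_self])
      refine ⟨β * α, mul_mem hβ hα, χ.comp φ₀.rangeRestrict, E.comp_mem hφ₀ hχ fun u => ⟨u, rfl⟩, fun u hu => ?_⟩
      show ψ ⟨φ (Subgroup.inclusion h u), hPR _⟩ = _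
      have e1 : ((α⁻¹ ⟨φ (Subgroup.inclusion h u), hleT ⟨u, rfl⟩⟩ : ↥T) : Ω) = φ₀ u := by
        rw [show (⟨φ (Subgroup.inclusion h u), hleT ⟨u, rfl⟩⟩ : ↥T) = α ⟨φ₀ u, apply_mem_S hφ₀ u⟩ from
            Subtype.ext (hφe u _), MulAut.inv_apply_self]
      have h1 := hχe ⟨φ (Subgroup.inclusion h u), u, rfl⟩ (apply_mem_S hψ₀ _) (e1.symm ▸ ⟨u, rfl⟩)
      rw [show (⟨((α⁻¹ ⟨φ (Subgroup.inclusion h u), hleT ⟨u, rfl⟩⟩ : ↥T) : Ω), e1.symm ▸ ⟨u, rfl⟩⟩ : ↥φ₀.range) =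
        φ₀.rangeRestrict u from Subtype.ext e1] at h1
      have h2 : (⟨(χ.comp φ₀.rangeRestrict) u, hu⟩ : ↥T) = α⁻¹ ⟨ψ₀ ⟨φ (Subgroup.inclusion h u), u, rfl⟩, apply_mem_S hψ₀ _⟩ :=
        Subtype.ext h1
      rw [h2, MulAut.mul_apply, MulAut.apply_inv_self]
      exact hψe ⟨φ (Subgroup.inclusion h u), u, rfl⟩ _)
    (fun {P φ} hφF hφ ψ hψF hψe U h hUT => by
      have key : ∀ (u : ↥U) (x : ↥P), φ x = u → ψ (Subgroup.inclusion h u) = x := fun u x hx => by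
        rw [show Subgroup.inclusion h u = (⟨φ x, ⟨x, rfl⟩⟩ : ↥φ.range) from Subtype.ext hx.symm, hψe]
      have hle : (ψ.comp (Subgroup.inclusion h)).range ≤ P := by
        rintro _ ⟨u, rfl⟩
        obtain ⟨x, hx⟩ := h u.2
        show ψ _ ∈ P
        rw [key u x hx]
        exact x.2
      have hleT : (ψ.comp (Subgroup.inclusion h)).range ≤ T := by
        rintro _ ⟨u, rfl⟩; exact hT.2 U hUT _ (restrict_mem hψF h) u
      obtain ⟨α, hα, φ₀, hφ₀, hφe⟩ := hφ _ hle hleT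
      obtain ⟨η, hη, hηr, hηe⟩ := exists_inverse hφ₀ rfl
      have back : ∀ (w : ↥(ψ.comp (Subgroup.inclusion h)).range), φ (Subgroup.inclusion hle w) ∈ U := by
        rintro ⟨_, u, rfl⟩
        obtain ⟨x, hx⟩ := h u.2
        rw [show Subgroup.inclusion hle ⟨_, u, rfl⟩ = x from Subtype.ext (key u x hx), hx]
        exact u.2
      obtain ⟨χ, hχ, hχe⟩ := inv_conj hI (range_le_S hφ₀) hη hα (P' := U) (fun y => by
        constructor
        · intro hy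
          obtain ⟨x, hx⟩ := h hy
          refine ⟨⟨φ₀ ⟨x, ⟨⟨y, hy⟩, key ⟨y, hy⟩ x hx⟩⟩, _, rfl⟩, ?_⟩
          exact ((hφe _ _).symm.trans hx)
        · rintro ⟨⟨_, w, rfl⟩, rfl⟩
          rw [← hφe w _]
          exact back w)
      refine ⟨α⁻¹, inv_mem hα, χ, hχ, fun u hu => ?_⟩
      obtain ⟨x, hx⟩ := h u.2
      set w : ↥(ψ.comp (Subgroup.inclusion h)).range := ⟨x, ⟨u, key u x hx⟩⟩
      have e1 : ((α ⟨φ₀ w, apply_mem_S hφ₀ w⟩ : ↥T) : Ω) = u := (hφe w _).symm.trans hx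
      have h1 := hχe ⟨φ₀ w, w, rfl⟩ (apply_mem_S hη _) (e1.symm ▸ u.2)
      rw [show (⟨((α ⟨φ₀ w, apply_mem_S hφ₀ w⟩ : ↥T) : Ω), e1.symm ▸ u.2⟩ : ↥U) = u from Subtype.ext e1] at h1
      rw [key u x hx, show (⟨χ u, hu⟩ : ↥T) = α ⟨η ⟨φ₀ w, w, rfl⟩, apply_mem_S hη _⟩ from Subtype.ext h1,
        MulAut.inv_apply_self]
      exact (hηe w _).symm)
  have hresmem : ∀ (R : Subgroup Ω), R ≤ S → ∀ a ∈ F.autGroup R, ∀ x : ↥(R ⊓ T),
      ((a (Subgroup.inclusion inf_le_left x) : ↥R) : Ω) ∈ R ⊓ T := fun R hR a ha x =>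
    ⟨(a _).2, hT.2 _ inf_le_right _ (restrict_mem ((autGroup_carrier F hR a).mp ha) inf_le_left) x⟩
  let res := fun (R : Subgroup Ω) (hR : R ≤ S) => resHom (inf_le_left : R ⊓ T ≤ R) (F.autGroup R) (hresmem R hR)
  have hle : F ≤ D := le_of_over_normal hS hF hT D
    (fun R hR hTR a ha => by
      have haF := (autGroup_carrier F hR a).mp ha
      refine (autGroup_carrier D hR a).mpr ⟨haF, fun U h hUT => ?_⟩
      have hr : (((R.subtype.comp a.toMonoidHom).comp (Subgroup.inclusion hTR))).range = T := sc_map_eq hT hTR haF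
      have hm := restrict_mem haF hTR
      refine ⟨isoOfMem hm hr, (autGroup_carrier F hT.1 _).mpr ?_, U.subtype, incl_mem E hUT, fun u hu => rfl⟩
      rwa [show (isoOfMem hm hr).toMonoidHom = _ from rfl, isoOfMem_hom hm hr])
    (fun R hR => (E.autGroup (R ⊓ T)).comap (res R hR))
    (fun R hR => ⟨fun a ha b => by
      show res R hR (b * a * b⁻¹) ∈ E.autGroup (R ⊓ T)
      rw [map_mul, map_mul, map_inv]
      have ha' := (autGroup_carrier E inf_le_right _).mp ha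
      have hb' : (R ⊓ T).subtype.comp (res R hR b).toMonoidHom ∈ F.Hom (R ⊓ T) :=
        restrict_mem_of_eq ((autGroup_carrier F hR _).mp b.2) inf_le_left fun x => rfl
      obtain ⟨χ, hχ, hχe⟩ := hSI (R ⊓ T) (R ⊓ T) le_rfl inf_le_right _ ha' (fun x => ((res R hR a) x).2) _ hb'
      refine (autGroup_carrier E inf_le_right _).mpr ?_
      have him : (((R ⊓ T).subgroupOf (R ⊓ T)).map ((R ⊓ T).subtype.comp (res R hR b).toMonoidHom)) = R ⊓ T := by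
        ext y
        exact ⟨fun ⟨x, _, hx⟩ => hx ▸ ((res R hR b) x).2,
          fun hy => ⟨(res R hR b).symm ⟨y, hy⟩, ((res R hR b).symm ⟨y, hy⟩).2,
            congrArg Subtype.val ((res R hR b).apply_symm_apply ⟨y, hy⟩)⟩⟩
      refine restrict_mem_of_eq hχ him.ge fun y => ?_
      obtain ⟨x, rfl⟩ := (res R hR b).surjective y
      show ((res R hR b (res R hR a ((res R hR b)⁻¹ (res R hR b x))) : ↥(R ⊓ T)) : Ω) = _
      rw [MulAut.inv_apply_self]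
      exact (hχe x (him.ge (res R hR b x).2)).symm⟩)
    (fun R hR a c hc hac => (autGroup_carrier E inf_le_right _).mpr
      (conj_mem_of_eq E inf_le_right hc fun x => hac (Subgroup.inclusion inf_le_left x)))
    (fun R hR a ha => (autGroup_carrier D hR _).mpr ⟨(autGroup_carrier F hR _).mp a.2, fun U h hUT => by
      refine ⟨1, one_mem _, ((R ⊓ T).subtype.comp (res R hR a).toMonoidHom).comp (Subgroup.inclusion (le_inf h hUT)),
        restrict_mem ((autGroup_carrier E inf_le_right _).mp ha) _, fun u hu => ?_⟩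
      rfl⟩)
  intro P hPT φ hφ
  obtain ⟨α, hα, φ₀, hφ₀, he⟩ := (hle P hφ).2 P le_rfl hPT
  exact ⟨α, hα, φ₀, hφ₀, fun x hx => he x hx⟩

end CfsgLib.Fusion
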