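import Cfsg.Agent.Lib.Fusion.Hyperfocal
import Cfsg.Agent.S0012
import Mathlib.GroupTheory.Frattini

/-! Tate's theorem for fusion systems and the inner criterion through the Frattini subgroup. -/

set_option autoImplicit false
set_option linter.unusedSectionVars false

namespace CfsgLib.Biset

open Cfsg Cfsg.FusionSystem CfsgLib.Fusion
open scoped commutatorElement

universe u

variable {Ω : Type u} [Group Ω] {S : Subgroup Ω} {F : FusionSystem S}

theorem focal_mono {H : FusionSystem S} (h : H.IsSubsystemOf F) : H.focalSubgroup ≤ F.focalSubgroup := by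
  refine Subgroup.closure_mono ?_
  rintro _ ⟨P, φ, x, hφ, rfl⟩
  exact ⟨P, φ, x, h P hφ, rfl⟩

theorem hyp_mono (p : ℕ) {H : FusionSystem S} (h : H.IsSubsystemOf F) :
    H.hyperfocalSubgroup p ≤ F.hyperfocalSubgroup p := by
  refine (Subgroup.closure_le _).mpr ?_
  rintro _ ⟨P, α, x, hP, hα, rfl⟩
  exact Subgroup.subset_closure ⟨P, Subgroup.inclusion (autGroup_mono F H h P) α, x, hP,
    CfsgLib.PResidual.map_pResidual (Subgroup.inclusion (autGroup_mono F H h P)) ⟨α, hα, rfl⟩, rfl⟩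

theorem map_commutator_eq (S : Subgroup Ω) : (commutator ↥S).map S.subtype = ⁅S, S⁆ :=
  Subgroup.map_subtype_commutator S

variable [Finite ↥S] (p : ℕ) [Fact p.Prime]

/-- Tate: a subgroup over `S'` covering the focal subgroup modulo `Φ(S)` contains it. -/
theorem focal_le_of_frattini (hS : IsPGroup p ↥S) (hF : F.IsSaturated p) {K : Subgroup Ω}
    (hK : ⁅S, S⁆ ≤ K) (hKF : K ≤ F.focalSubgroup) (h : F.focalSubgroup ≤ (frattini ↥S).map S.subtype ⊔ K) :
    F.focalSubgroup ≤ K := by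
  classical
  obtain ⟨B, d, hst, hd, hc, -⟩ := exists_characteristic p hS hF
  have hKS : K ≤ S := hKF.trans (focal_le F)
  set K' := K.subgroupOf S with hK'
  have hcomm : commutator ↥S ≤ K' := fun x hx =>
    Subgroup.mem_subgroupOf.mpr (hK (map_commutator_eq S ▸ ⟨x, hx, rfl⟩))
  haveI hn : K'.Normal := Subgroup.Normal.of_commutator_le _ hcomm
  letI : CommGroup (↥S ⧸ K') :=
    { (inferInstance : Group (↥S ⧸ K')) with
      mul_comm := fun a b => by
        obtain ⟨a, rfl⟩ := QuotientGroup.mk_surjective a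
        obtain ⟨b, rfl⟩ := QuotientGroup.mk_surjective b
        refine QuotientGroup.eq.mpr ?_
        have := hcomm (Subgroup.commutator_mem_commutator (Subgroup.mem_top b⁻¹) (Subgroup.mem_top a⁻¹) :
          ⁅b⁻¹, a⁻¹⁆ ∈ commutator ↥S)
        simpa [commutatorElement_def, mul_assoc] using this }
  let f : ↥S →* ↥S ⧸ K' := QuotientGroup.mk' K'
  obtain ⟨κ, hκ⟩ := exists_isLEquiv B.lfree f
  let T := tr hκ
  set B₀ := (F.focalSubgroup.subgroupOf S).map f with hB₀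
  let g : (↥S ⧸ K') →* (↥S ⧸ K') ⧸ B₀ := QuotientGroup.mk' B₀
  obtain ⟨κ₁, hκ₁⟩ := exists_isLEquiv B.lfree (g.comp f)
  have hev : ∀ u : ↥S, g (T u) = (g (f u))⁻¹ ^ d := by
    intro u
    rw [← tr_map g hκ u hκ₁, tr_eval hκ₁ ⊤ ?_ (Subgroup.mem_top u), B.card_lorb hc]
    · rfl
    intro x y _ hxy
    obtain ⟨Q, ψ, hQ, hψ, -, h1⟩ := B.exists_map_of_fix hxy
    refine (QuotientGroup.eq.mpr ⟨x.1⁻¹ * x.2, ?_, by simp [f]⟩ : g (f x.1) = g (f x.2))
    refine Subgroup.mem_subgroupOf.mpr ?_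
    have : (x.2 : Ω)⁻¹ * ψ ⟨x.2, hQ⟩ ∈ F.focalSubgroup := Subgroup.subset_closure ⟨Q, ψ, ⟨x.2, hQ⟩, hψ, rfl⟩
    have := inv_mem this
    rw [← h1, mul_inv_rev, inv_inv] at this
    exact this
  let θ : ↥S →* ↥S ⧸ K' := T * f ^ d
  have hθB : ∀ u, θ u ∈ B₀ := by
    intro u
    refine (QuotientGroup.eq_one_iff _).mp ?_
    show g (T u * f u ^ d) = 1
    rw [map_mul, map_pow, hev, inv_pow, inv_mul_cancel]
  have hTF : ∀ y ∈ F.focalSubgroup.subgroupOf S, θ y = f y ^ d := fun y hy => by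
    show T y * f y ^ d = _
    rw [show T y = 1 from B.tr_focal hst hκ hy, one_mul]
  have hp : IsPGroup p (↥S ⧸ K') := hS.to_quotient K'
  -- θ is determined by its values on Φ(S)
  have hΦ : θ.ker ⊔ frattini ↥S = ⊤ := by
    rw [Subgroup.eq_top_iff']
    intro s
    obtain ⟨k, hk⟩ := hp (f s)
    have hsurj : ∃ y ∈ F.focalSubgroup.subgroupOf S, θ y = θ s := by
      have hco : (Nat.card (↥S ⧸ K')).Coprime d := by
        obtain ⟨n, hn⟩ := IsPGroup.iff_card.mp hp
        rw [hn]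
        exact Nat.Coprime.pow_left n ((Fact.out : p.Prime).coprime_iff_not_dvd.mpr hd)
      obtain ⟨y, hy, hy'⟩ : θ s ^ (Nat.gcdB (Nat.card (↥S ⧸ K')) d) ∈ B₀ := B₀.zpow_mem (hθB s) _
      refine ⟨y, hy, ?_⟩
      rw [hTF y hy, show f y = θ s ^ (Nat.gcdB (Nat.card (↥S ⧸ K')) d) from hy']
      exact (powCoprime hco).apply_symm_apply (θ s)
    obtain ⟨y, hy, hys⟩ := hsurj
    have hyK : y ∈ frattini ↥S ⊔ K' := by
      obtain ⟨z, hz, hzy⟩ : (y : Ω) ∈ (frattini ↥S ⊔ K').map S.subtype := by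
        rw [Subgroup.map_sup, Subgroup.map_subgroupOf_eq_of_le hKS]
        exact h (Subgroup.mem_subgroupOf.mp hy)
      exact Subtype.ext hzy ▸ hz
    obtain ⟨a, ha, b, hb, rfl⟩ := Subgroup.mem_sup_of_normal_right.mp hyK
    have hb1 : θ b = 1 := by
      rw [hTF b (Subgroup.mem_subgroupOf.mpr (hKF (Subgroup.mem_subgroupOf.mp hb))),
        show f b = 1 from (QuotientGroup.eq_one_iff b).mpr hb, one_pow]
    rw [map_mul, hb1, mul_one] at hys
    refine Subgroup.mem_sup_of_normal_right.mpr ⟨s * a⁻¹, ?_, a, ha, inv_mul_cancel_right s a⟩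
    show θ (s * a⁻¹) = 1
    rw [map_mul, map_inv, hys, mul_inv_cancel]
  have hker := frattini_nongenerating hΦ
  intro z hz
  have hzS := focal_le F hz
  have h1 : θ ⟨z, hzS⟩ = 1 := show (⟨z, hzS⟩ : ↥S) ∈ θ.ker from hker ▸ Subgroup.mem_top _
  rw [hTF _ (Subgroup.mem_subgroupOf.mpr hz)] at h1
  exact Subgroup.mem_subgroupOf.mp ((QuotientGroup.eq_one_iff _).mp (eq_one_of_pow_eq_one hp hd h1))

theorem hyp_le_of_focal_le (hS : IsPGroup p ↥S) (hF : F.IsSaturated p) {B : Subgroup ↥S} [B.Normal]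
    (hB : B ≤ hypS p F) (h : hypS p F ≤ B ⊔ commutator ↥S) : hypS p F ≤ B := by
  haveI : Group.IsNilpotent ↥S := IsPGroup.isNilpotent hS
  refine le_of_le_sup_commutator fun a ha => ?_
  obtain ⟨b, hb, c, hc, rfl⟩ := Subgroup.mem_sup_of_normal_left.mp (h ha)
  exact Subgroup.mul_mem_sup hb (hyp_inf_commutator p hS hF ⟨(Subgroup.mul_mem_cancel_left _ (hB hb)).mp ha, hc⟩)

theorem hyp_le_of_focal (hS : IsPGroup p ↥S) (hF : F.IsSaturated p) {H : FusionSystem S} (hH : H.IsSaturated p)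
    (hHF : H.IsSubsystemOf F) (h : F.focalSubgroup ≤ H.focalSubgroup) :
    F.hyperfocalSubgroup p ≤ H.hyperfocalSubgroup p := by
  have hB : hypS p H ≤ hypS p F := fun x hx =>
    Subgroup.mem_subgroupOf.mpr (hyp_mono p hHF (Subgroup.mem_subgroupOf.mp hx))
  have key := hyp_le_of_focal_le p hS hF hB fun x hx => by
    have h1 : (x : Ω) ∈ (hypS p H ⊔ commutator ↥S).map S.subtype := by
      rw [Subgroup.map_sup, map_commutator_eq, hypS, Subgroup.map_subgroupOf_eq_of_le (hyp_le p H),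
        ← focal_eq_sup p hS hH]
      exact h (hyp_le_focal p F (Subgroup.mem_subgroupOf.mp hx))
    obtain ⟨z, hz, hzx⟩ := h1
    exact Subtype.ext hzx ▸ hz
  intro z hz
  exact Subgroup.mem_subgroupOf.mp (key (x := ⟨z, hyp_le p F hz⟩) (Subgroup.mem_subgroupOf.mpr hz))

end CfsgLib.Biset
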