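import Cfsg.Agent.Lib.Fusion.Transfer
import Cfsg.Agent.Lib.Fusion.Hyperfocal

/-! A transfer of Thompson type for saturated systems over two-groups. -/

set_option autoImplicit false
set_option linter.unusedSectionVars false
set_option linter.style.haveILetI false

namespace CfsgLib.Fusion.ThompsonTransfer

open Cfsg Cfsg.FusionSystem CfsgLib.Fusion CfsgLib.Marks CfsgLib.Biset

/-- A set is counted orbit by orbit. -/
theorem dvd_mul_card {G X : Type*} [Group G] [MulAction G X] [Finite X] (N k : ℕ)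
    (h : ∀ x : X, N ∣ k * Nat.card ↥(MulAction.orbit G x)) : N ∣ k * Nat.card X := by
  classical
  haveI : Fintype (Quotient (MulAction.orbitRel G X)) := Fintype.ofFinite _
  rw [Nat.card_congr (MulAction.selfEquivSigmaOrbits' G X), Nat.card_sigma, Finset.mul_sum]
  refine Finset.dvd_sum fun o _ => ?_
  induction o using Quotient.inductionOn' with
  | h x => exact h x

universe u

variable {Ω : Type u} [Group Ω] {S : Subgroup Ω}

theorem not_mem_focal [Finite Ω] (hS : IsPGroup 2 ↥S) (F : FusionSystem S) (hF : F.IsSaturated 2)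
    (T : Subgroup Ω) (hT : T.relIndex S = 2) (i : Ω) (hi : i ∈ S) (hi2 : orderOf i = 2)
    (h : ∀ j : Ω, F.IsConjElt i j → F.IsFullyNormalized (Subgroup.zpowers j) → j ∉ T) :
    i ∉ F.focalSubgroup := by
  classical
  intro hfoc
  haveI : Fact (Nat.Prime 2) := ⟨Nat.prime_two⟩
  obtain ⟨B, d, hst, hd, hc, -⟩ := exists_characteristic 2 hS hF
  set T' : Subgroup ↥S := T.subgroupOf S with hT'def
  have hT2 : T'.index = 2 := hT
  haveI hTn : T'.Normal := Subgroup.normal_of_index_eq_two hT2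
  set iS : ↥S := ⟨i, hi⟩ with hiS
  have hii : iS * iS = 1 := Subtype.ext (by
    show i * i = 1
    rw [← sq, ← hi2, pow_orderOf_eq_one])
  -- the sign with kernel `T`
  let f : ↥S →* ℤˣ := MonoidHom.mk' (fun s => if s ∈ T' then 1 else -1) fun a b => by
    have := Subgroup.mul_mem_iff_of_index_two hT2 (a := a) (b := b)
    by_cases ha : a ∈ T' <;> by_cases hb : b ∈ T' <;> simp [ha, hb, this]
  have hf : ∀ s : ↥S, f s = if s ∈ T' then 1 else -1 := fun _ => rfl
  obtain ⟨κ, hκ⟩ := exists_isLEquiv B.lfree f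
  have htr : tr hκ iS = 1 := B.tr_focal hst hκ (Subgroup.mem_subgroupOf.mpr hfoc)
  haveI : Fintype (LOrb ↥S B.X) := Fintype.ofFinite _
  have hlorb : Fintype.card (LOrb ↥S B.X) = d := by rw [← Nat.card_eq_fintype_card, B.card_lorb hc]
  -- orbits fixed by `i` with a twist inside `T`
  let Q : B.X → Prop := fun x => ∃ s : ↥S, s ∈ T' ∧ ((s, 1) : ↥S × ↥S) • x = ((1, iS) : ↥S × ↥S) • x
  have hQsmul : ∀ (t : ↥S) (x : B.X), Q x → Q (((t, 1) : ↥S × ↥S) • x) := by
    rintro t x ⟨s, hs, he⟩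
    refine ⟨t * s * t⁻¹, hTn.conj_mem s hs t, ?_⟩
    rw [← mul_smul, show (((t * s * t⁻¹, 1) : ↥S × ↥S) * (t, 1)) = (t, 1) * (s, 1) by simp [mul_assoc],
      mul_smul, he, ← mul_smul, ← mul_smul]
    simp
  let σ : LOrb ↥S B.X → LOrb ↥S B.X := fun o => lshift iS o
  have hσσ : ∀ o, σ (σ o) = o := by
    intro o
    obtain ⟨x, rfl⟩ := Quotient.exists_rep o
    show lshift iS (lshift iS _) = _
    rw [lshift_mk, lshift_mk, ← mul_smul, Prod.mk_mul_mk, one_mul, hii]
    exact congrArg _ (one_smul _ x)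
  have hσout : ∀ o, (lrel ↥S B.X).r (σ o).out (((1, iS) : ↥S × ↥S) • o.out) := by
    intro o
    refine Quotient.exact ?_
    rw [Quotient.out_eq]
    conv_lhs => rw [← Quotient.out_eq o]
    rfl
  let δ : LOrb ↥S B.X → ℤˣ := fun o => κ (((1, iS) : ↥S × ↥S) • o.out) * (κ o.out)⁻¹
  have hδfix : ∀ (o : LOrb ↥S B.X) (s : ↥S),
      ((s, 1) : ↥S × ↥S) • o.out = ((1, iS) : ↥S × ↥S) • o.out → δ o = f s := by
    intro o s he
    show κ _ * _ = _
    rw [← he, hκ, mul_inv_cancel_right]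
  have hPσ : ∀ o, Q o.out → σ o = o := by
    rintro o ⟨s, -, he⟩
    conv_rhs => rw [← Quotient.out_eq o]
    conv_lhs => rw [← Quotient.out_eq o]
    exact ((lshift_mk iS o.out).trans (Quotient.sound (s := lrel ↥S B.X) (show (lrel ↥S B.X).r o.out _ from ⟨s, he⟩)).symm)
  -- the parity of their number
  have hprod : (∏ o, δ o * (-1)) = (-1) ^ Nat.card {o : LOrb ↥S B.X // Q o.out} := by
    rw [← Finset.prod_filter_mul_prod_filter_not Finset.univ fun o : LOrb ↥S B.X => Q o.out]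
    have h1 : ∏ o ∈ Finset.univ.filter (fun o : LOrb ↥S B.X => Q o.out), δ o * (-1) =
        (-1) ^ Nat.card {o : LOrb ↥S B.X // Q o.out} := by
      rw [Finset.prod_congr rfl (g := fun _ => (-1 : ℤˣ)), Finset.prod_const]
      · congr 1
        rw [Nat.card_eq_fintype_card, Fintype.card_subtype]
      · intro o ho
        obtain ⟨s, hs, he⟩ := (Finset.mem_filter.mp ho).2
        rw [hδfix o s he, hf, if_pos hs, one_mul]
    rw [h1]
    refine mul_eq_left.mpr (Finset.prod_involution (fun o _ => σ o) ?_ ?_ ?_ fun o _ => hσσ o)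
    · intro o _
      have e : δ (σ o) = (δ o)⁻¹ := by
        show κ _ * _ = _
        rw [delta_congr hκ iS (hσout o), ← mul_smul, Prod.mk_mul_mk, one_mul, hii,
          show ((1, 1) : ↥S × ↥S) = 1 from rfl, one_smul]
        show _ = (κ _ * _)⁻¹
        rw [mul_inv_rev, inv_inv]
      rw [e, mul_mul_mul_comm, mul_inv_cancel, one_mul, neg_one_mul, neg_neg]
    · intro o ho hne hfix
      refine hne ?_
      obtain ⟨s, hs⟩ := Quotient.exact (show Quotient.mk (lrel ↥S B.X) o.out = Quotient.mk _ (((1, iS) : ↥S × ↥S) • o.out) by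
        rw [← lshift_mk, Quotient.out_eq]; exact hfix.symm)
      have hsT : s ∉ T' := fun hsT => (Finset.mem_filter.mp ho).2 ⟨s, hsT, hs⟩
      rw [hδfix o s hs, hf, if_neg hsT, neg_one_mul, neg_neg]
    · intro o ho
      refine Finset.mem_filter.mpr ⟨Finset.mem_univ _, fun hQ => (Finset.mem_filter.mp ho).2 ?_⟩
      rwa [← hσσ o, hPσ _ hQ]
  have hdodd : (-1 : ℤˣ) ^ d = -1 := Odd.neg_one_pow (Nat.not_even_iff_odd.mp fun he => hd he.two_dvd)
  rw [Finset.prod_mul_distrib, Finset.prod_const, Finset.card_univ, hlorb, hdodd,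
    show (∏ o, δ o) = 1 from (tr_apply hκ iS).symm.trans htr, one_mul] at hprod
  -- conjugates of `i`
  have hiS' : Subgroup.zpowers i ≤ S := Subgroup.zpowers_le.mpr hi
  let m₀ := mark B.X (graph S (Subgroup.zpowers i) (Subgroup.zpowers i).subtype)
  have hmark : ∀ j : ↥S, F.IsConjElt i (j : Ω) →
      Nat.card {x : B.X // ((j, iS) : ↥S × ↥S) • x = x} = m₀ := by
    rintro j ⟨φ, hφ, hφi⟩
    have hg : graph S (Subgroup.zpowers i) φ = Subgroup.zpowers ((j, iS) : ↥S × ↥S) := by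
      refine le_antisymm ?_ (Subgroup.zpowers_le.mpr ⟨⟨i, Subgroup.mem_zpowers i⟩, hφi.symm, rfl⟩)
      rintro g ⟨x, h1, h2⟩
      obtain ⟨k, hk⟩ := Subgroup.mem_zpowers_iff.mp x.2
      have hx : x = (⟨i, Subgroup.mem_zpowers i⟩ : ↥(Subgroup.zpowers i)) ^ k := Subtype.ext (by simp [hk])
      refine Subgroup.mem_zpowers_iff.mpr ⟨k, Prod.ext (Subtype.ext ?_) (Subtype.ext ?_)⟩
      · simp [h1, hx, map_zpow, hφi]
      · simp [h2, ← hk, hiS]
    refine Eq.trans ?_ (hst _ φ _ hφ (Nat.zero_le _) (Fusion.IsConj.refl F hiS'))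
    rw [hg]
    refine Nat.card_congr (Equiv.subtypeEquivRight fun x => ?_)
    rw [Subgroup.zpowers_le]
    exact Iff.rfl
  have hinv : ∀ j : ↥S, F.IsConjElt i (j : Ω) → j * j = 1 := by
    rintro j ⟨φ, hφ, hφi⟩
    refine Subtype.ext ?_
    show (j : Ω) * j = 1
    rw [← hφi, ← map_mul]
    convert map_one φ
    exact Subtype.ext (show i * i = 1 from congrArg Subtype.val hii)
  have hfix : ∀ (s : ↥S) (x : B.X), ((s, 1) : ↥S × ↥S) • x = ((1, iS) : ↥S × ↥S) • x →
      ((s⁻¹, iS) : ↥S × ↥S) • x = x ∧ F.IsConjElt i ((s⁻¹ : ↥S) : Ω) := by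
    intro s x he
    have h1 : ((s⁻¹, iS) : ↥S × ↥S) • x = x := by
      rw [show ((s⁻¹, iS) : ↥S × ↥S) = (s, 1)⁻¹ * (1, iS) by simp, mul_smul, ← he, inv_smul_smul]
    obtain ⟨P, ψ, hg, hψ, -, e⟩ := B.exists_map_of_fix h1
    have hle : Subgroup.zpowers i ≤ P := Subgroup.zpowers_le.mpr hg
    exact ⟨h1, ψ.comp (Subgroup.inclusion hle), restrict_mem hψ hle, e.symm⟩
  have hfix' : ∀ (j : ↥S) (x : B.X), ((j, iS) : ↥S × ↥S) • x = x →
      ((j⁻¹, 1) : ↥S × ↥S) • x = ((1, iS) : ↥S × ↥S) • x := by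
    intro j x he
    conv_lhs => rw [← he, ← mul_smul]
    simp
  -- centralizers of conjugates
  have hnorm : ∀ j : ↥S, F.IsConjElt i (j : Ω) →
      Nat.card ↥(normalizerIn S (Subgroup.zpowers (j : Ω))) = Nat.card ↥(Subgroup.centralizer {j}) := by
    intro j hj
    have hj1 : (j : Ω) ≠ 1 := by
      obtain ⟨φ, hφ, hφi⟩ := hj
      rw [← hφi]
      intro he
      have := F.injective_of_mem hφ (he.trans (map_one φ).symm)
      exact absurd (congrArg Subtype.val this) (fun hi1 : i = 1 => by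
        rw [hi1, orderOf_one] at hi2
        exact absurd hi2 (by decide))
    refine Nat.card_congr
      { toFun := fun s => ⟨⟨s.1, s.2.1⟩, ?_⟩
        invFun := fun s => ⟨(s.1 : Ω), s.1.2, ?_⟩
        left_inv := fun s => rfl
        right_inv := fun s => rfl }
    · refine Subgroup.mem_centralizer_singleton_iff.mpr (Subtype.ext ?_)
      show s.1 * (j : Ω) = j * s.1
      have hn := (Subgroup.mem_normalizer_iff.mp s.2.2 (j : Ω)).mp (Subgroup.mem_zpowers _)
      obtain ⟨k, hk⟩ := Subgroup.mem_zpowers_iff.mp hn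
      have hjj : (j : Ω) * j = 1 := congrArg Subtype.val (hinv j hj)
      rcases Int.even_or_odd' k with ⟨l, rfl | rfl⟩
      · rw [zpow_mul, zpow_ofNat, pow_two, hjj, one_zpow] at hk
        exact absurd (conj_eq_one_iff.mp hk.symm) hj1
      · rw [zpow_add, zpow_mul, zpow_ofNat, pow_two, hjj, one_zpow, one_mul, zpow_one] at hk
        exact (mul_inv_eq_iff_eq_mul.mp hk.symm)
    · refine Subgroup.mem_normalizer_iff.mpr fun y => ?_
      have hc : (s.1 : Ω) * j = j * s.1 := congrArg Subtype.val (Subgroup.mem_centralizer_singleton_iff.mp s.2)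
      have hmap : ∀ y : Ω, (s.1 : Ω) * y * (s.1 : Ω)⁻¹ = MulAut.conj (s.1 : Ω) y := fun y => rfl
      have hjfix : MulAut.conj (s.1 : Ω) (j : Ω) = j := by rw [MulAut.conj_apply, hc, mul_inv_cancel_right]
      constructor
      · intro hy
        obtain ⟨k, rfl⟩ := Subgroup.mem_zpowers_iff.mp hy
        exact ⟨k, by simp only [hmap, map_zpow, hjfix]⟩
      · intro hy
        obtain ⟨k, hk⟩ := Subgroup.mem_zpowers_iff.mp hy
        refine ⟨k, (MulAut.conj (s.1 : Ω)).injective ?_⟩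
        show MulAut.conj (s.1 : Ω) ((j : Ω) ^ k) = _
        rw [map_zpow, hjfix, hk, hmap]
  have hfree : ∀ j : ↥S, F.IsConjElt i (j : Ω) → Nat.card ↥(Subgroup.centralizer {j}) ∣ m₀ := by
    intro j hj
    let H := Subgroup.centralizer ({j} : Set ↥S)
    letI : MulAction ↥H {x : B.X // ((j, iS) : ↥S × ↥S) • x = x} :=
      { smul := fun c x => ⟨(((c : ↥S), 1) : ↥S × ↥S) • x.1, by
          rw [← mul_smul, show ((j, iS) : ↥S × ↥S) * ((c : ↥S), 1) = ((c : ↥S), 1) * (j, iS) from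
            Prod.ext (Subgroup.mem_centralizer_singleton_iff.mp c.2).symm ((mul_one _).trans (one_mul _).symm),
            mul_smul, x.2]⟩
        one_smul := fun x => Subtype.ext (one_smul _ _)
        mul_smul := fun a b x => Subtype.ext (by
          show _ = _ • _ • x.1
          rw [← mul_smul]
          exact congrArg (· • x.1) (Prod.ext rfl (one_mul (1 : ↥S)).symm)) }
    have := dvd_mul_card (G := ↥H) (X := {x : B.X // ((j, iS) : ↥S × ↥S) • x = x}) (Nat.card ↥H) 1 fun x => by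
      rw [one_mul]
      refine dvd_of_eq (Nat.card_congr ((Equiv.ofInjective (fun c : ↥H => c • x) fun a b hab => ?_).trans
        (Equiv.setCongr rfl)))
      have h2 := congrArg Subtype.val hab
      refine Subtype.ext (inv_mul_eq_one.mp (B.lfree ((b : ↥S)⁻¹ * a) x.1 ?_)).symm
      rw [show ((((b : ↥S)⁻¹ * a, 1)) : ↥S × ↥S) = ((b : ↥S), 1)⁻¹ * ((a : ↥S), 1) by simp, mul_smul]
      exact inv_smul_eq_iff.mpr h2
    rwa [one_mul, hmark j hj] at this
  -- a fully normalized conjugate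
  obtain ⟨R, ⟨φ, hφ, rfl⟩, hfn⟩ := exists_fullyNormalized F hiS'
  set j₀ : ↥S := ⟨φ ⟨i, Subgroup.mem_zpowers i⟩, apply_mem_S hφ _⟩ with hj₀
  have hj₀c : F.IsConjElt i (j₀ : Ω) := ⟨φ, hφ, rfl⟩
  have hrange : ∀ (ψ : ↥(Subgroup.zpowers i) →* Ω), ψ.range = Subgroup.zpowers (ψ ⟨i, Subgroup.mem_zpowers i⟩) := by
    intro ψ
    refine le_antisymm ?_ (Subgroup.zpowers_le.mpr ⟨_, rfl⟩)
    rintro _ ⟨x, rfl⟩
    obtain ⟨k, hk⟩ := Subgroup.mem_zpowers_iff.mp x.2
    exact ⟨k, by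
      show _ ^ k = _
      rw [← map_zpow]; exact congrArg ψ (Subtype.ext (by simp [hk]))⟩
  rw [hrange φ] at hfn
  have hsmall : ∀ j : ↥S, j ∈ T' → F.IsConjElt i (j : Ω) →
      2 * Nat.card ↥(Subgroup.centralizer {j}) ∣ Nat.card ↥(Subgroup.centralizer {j₀}) := by
    intro j hjT hj
    obtain ⟨ψ, hψ, hψi⟩ := hj
    have hcR : F.IsConj (Subgroup.zpowers (j₀ : Ω)) (Subgroup.zpowers (j : Ω)) :=
      CfsgLib.Fusion.IsConj.trans (CfsgLib.Fusion.IsConj.symm ⟨φ, hφ, hrange φ⟩) ⟨ψ, hψ, by rw [hrange ψ, hψi]⟩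
    have hj' : F.IsConjElt i (j : Ω) := ⟨ψ, hψ, hψi⟩
    have hle := hfn.2 _ hcR
    rw [hnorm j hj', hnorm j₀ hj₀c] at hle
    have hlt : Nat.card ↥(Subgroup.centralizer {j}) < Nat.card ↥(Subgroup.centralizer {j₀}) := by
      refine lt_of_le_of_ne hle fun heq => h j hj' ⟨Subgroup.zpowers_le.mpr j.2, fun Q hQ => ?_⟩
        (Subgroup.mem_subgroupOf.mp hjT)
      rw [hnorm j hj', heq, ← hnorm j₀ hj₀c]
      exact hfn.2 Q (CfsgLib.Fusion.IsConj.trans hcR hQ)
    obtain ⟨a, ha⟩ := IsPGroup.iff_card.mp (hS.to_subgroup (Subgroup.centralizer {j}))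
    obtain ⟨b, hb⟩ := IsPGroup.iff_card.mp (hS.to_subgroup (Subgroup.centralizer {j₀}))
    rw [ha, hb] at hlt ⊢
    rw [← pow_succ']
    exact pow_dvd_pow 2 ((Nat.pow_lt_pow_iff_right (by norm_num)).mp hlt)
  -- the conjugates inside `T`
  let J := {j : ↥S // j ∈ T' ∧ F.IsConjElt i (j : Ω)}
  letI : MulAction ↥S J :=
    { smul := fun s j => ⟨s * j.1 * s⁻¹, hTn.conj_mem _ j.2.1 s, by
        obtain ⟨ψ, hψ, hψi⟩ := j.2.2
        refine ⟨(conjHom S (s : Ω)).comp (ψ.codRestrict S (apply_mem_S hψ)),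
          F.comp_mem hψ (F.conj_mem le_rfl s.2) (apply_mem_S hψ), ?_⟩
        show (s : Ω) * ψ ⟨i, _⟩ * (s : Ω)⁻¹ = _
        rw [hψi]; rfl⟩
      one_smul := fun j => Subtype.ext (show (1 : ↥S) * j.1 * 1⁻¹ = j.1 by simp)
      mul_smul := fun a b j => Subtype.ext (show a * b * j.1 * (a * b)⁻¹ = a * (b * j.1 * b⁻¹) * a⁻¹ by group) }
  have hJ : 2 * Nat.card ↥S ∣ Nat.card ↥(Subgroup.centralizer {j₀}) * Nat.card J := by
    refine dvd_mul_card (G := ↥S) _ _ fun j => ?_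
    have hstab : MulAction.stabilizer ↥S j = Subgroup.centralizer {j.1} := by
      ext s
      rw [MulAction.mem_stabilizer_iff, Subgroup.mem_centralizer_singleton_iff, Subtype.ext_iff]
      exact mul_inv_eq_iff_eq_mul
    rw [show Nat.card ↥S = Nat.card ↥(MulAction.orbit ↥S j) * Nat.card ↥(MulAction.stabilizer ↥S j) by
      rw [← Nat.card_prod, Nat.card_congr (MulAction.orbitProdStabilizerEquivGroup ↥S j)], hstab]
    obtain ⟨q, hq⟩ := hsmall j.1 j.2.1 j.2.2
    exact ⟨q, by rw [hq]; ring⟩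
  -- counting in two ways
  let W := {x : B.X // Q x}
  have hW1 : Nat.card W = Nat.card J * m₀ := by
    have hb : Function.Bijective
        (fun p : Σ j : J, {x : B.X // ((j.1, iS) : ↥S × ↥S) • x = x} =>
          (⟨p.2.1, ⟨p.1.1⁻¹, T'.inv_mem p.1.2.1, hfix' _ _ p.2.2⟩⟩ : W)) := by
      constructor
      · rintro ⟨⟨j, hj⟩, x, hx⟩ ⟨⟨k, hk⟩, y, hy⟩ he
        obtain rfl : x = y := congrArg Subtype.val he
        have := (hfix' j x hx).trans (hfix' k x hy).symm
        obtain rfl : j = k := by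
          have h3 := B.lfree (k * j⁻¹) x (by
            rw [show ((k * j⁻¹, 1) : ↥S × ↥S) = (k⁻¹, 1)⁻¹ * (j⁻¹, 1) by simp, mul_smul, this, inv_smul_smul])
          exact (mul_inv_eq_one.mp h3).symm
        rfl
      · rintro ⟨x, s, hs, he⟩
        exact ⟨⟨⟨s⁻¹, T'.inv_mem hs, (hfix s x he).2⟩, x, (hfix s x he).1⟩, rfl⟩
    haveI : Fintype J := Fintype.ofFinite _
    rw [← Nat.card_eq_of_bijective _ hb, Nat.card_sigma, Finset.sum_congr rfl fun j _ => hmark j.1 j.2.2,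
      Finset.sum_const, Finset.card_univ, smul_eq_mul, Nat.card_eq_fintype_card]
  have hW2 : Nat.card W = Nat.card ↥S * Nat.card {o : LOrb ↥S B.X // Q o.out} := by
    rw [← Nat.card_prod]
    refine (Nat.card_eq_of_bijective
      (fun p : ↥S × {o : LOrb ↥S B.X // Q o.out} =>
        (⟨((p.1, 1) : ↥S × ↥S) • p.2.1.out, hQsmul _ _ p.2.2⟩ : W)) ⟨?_, ?_⟩).symm
    · rintro ⟨a, o, ho⟩ ⟨b, o', ho'⟩ he
      have he' : ((a, 1) : ↥S × ↥S) • o.out = ((b, 1) : ↥S × ↥S) • o'.out := congrArg Subtype.val he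
      obtain rfl : o = o' := by
        rw [← Quotient.out_eq o, ← Quotient.out_eq o']
        refine Quotient.sound ⟨b⁻¹ * a, ?_⟩
        rw [show ((b⁻¹ * a, 1) : ↥S × ↥S) = (b, 1)⁻¹ * (a, 1) by simp, mul_smul, he', inv_smul_smul]
      refine Prod.ext (inv_mul_eq_one.mp (B.lfree (b⁻¹ * a) o.out ?_)).symm rfl
      rw [show ((b⁻¹ * a, 1) : ↥S × ↥S) = (b, 1)⁻¹ * (a, 1) by simp, mul_smul, he', inv_smul_smul]
    · rintro ⟨x, hx⟩
      obtain ⟨s, hs⟩ := Quotient.mk_out (s := lrel ↥S B.X) x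
      have hQ : Q (Quotient.mk (lrel ↥S B.X) x).out := by
        have h4 := hQsmul s⁻¹ x hx
        rwa [show ((s⁻¹, 1) : ↥S × ↥S) • x = (Quotient.mk (lrel ↥S B.X) x).out from by
          rw [show ((s⁻¹, 1) : ↥S × ↥S) = ((s, 1) : ↥S × ↥S)⁻¹ by simp, inv_smul_eq_iff]
          exact hs.symm] at h4
      exact ⟨(s, ⟨_, hQ⟩), Subtype.ext hs⟩
  obtain ⟨q, hq⟩ := hfree j₀ hj₀c
  obtain ⟨r, hr⟩ := hJ
  have hO : Nat.card {o : LOrb ↥S B.X // Q o.out} = 2 * (r * q) := by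
    refine Nat.eq_of_mul_eq_mul_left (Nat.card_pos (α := ↥S)) ?_
    rw [← hW2, hW1, hq, ← mul_assoc, mul_comm (Nat.card J), hr]
    ring
  rw [hO, pow_mul] at hprod
  exact absurd hprod (by simp)

end CfsgLib.Fusion.ThompsonTransfer
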