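import Cfsg.Agent.Lib.Fusion.Series
import Cfsg.Agent.Lib.Fusion.StrongInvariance

/-! Elementary facts on weakly normal subsystems. (helper6) -/

set_option autoImplicit false
set_option linter.unusedSectionVars false
set_option linter.style.haveILetI false

namespace CfsgLib.Fusion

open Cfsg Cfsg.FusionSystem

universe u

variable {Ω : Type u} [Group Ω] {S : Subgroup Ω} [Finite ↥S] {F : FusionSystem S} {p : ℕ} [Fact p.Prime]
  {T : Subgroup Ω} {E : FusionSystem T}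

/-- A fully normalized subgroup stays fully normalized in a subsystem over a strongly closed subgroup. -/
theorem fullyNormalized_of_closed (hS : IsPGroup p ↥S) (hF : F.IsSaturated p) (hT : F.StronglyClosed T)
    (hsub : E.IsSubsystemOf F) {P : Subgroup Ω} (hPT : P ≤ T) (hP : F.IsFullyNormalized P) :
    E.IsFullyNormalized P := by
  refine ⟨hPT, fun R hR => ?_⟩
  have hPR : F.IsConj P R := let ⟨φ, h, h'⟩ := hR; ⟨φ, hsub P h, h'⟩
  obtain ⟨χ, hχ, hχN, -, -⟩ := exists_map_normalizer p hS (fullyNormalized_automized p hS hF hP)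
    (fullyNormalized_receptive p hS hF hP) (IsConj.symm hPR)
  haveI := finite_of_le hT.1
  haveI : Finite ↥(normalizerIn T P) := finite_of_le (inf_le_left.trans hT.1)
  have hle : normalizerIn T R ≤ normalizerIn S R := inf_le_inf_right _ hT.1
  have hm : ∀ x : ↥(normalizerIn T R), χ (Subgroup.inclusion hle x) ∈ normalizerIn T P := fun x =>
    ⟨hT.2 _ inf_le_left _ (restrict_mem hχ hle) x, (hχN _).2⟩
  exact Nat.card_le_card_of_injective (fun x => (⟨_, hm x⟩ : ↥(normalizerIn T P))) fun a b h =>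
    Subgroup.inclusion_injective hle (F.injective_of_mem hχ (congrArg Subtype.val h :))

/-- A supremum of a set of normal subgroups is normal. -/
theorem isNormal_sSup (𝒳 : Set (Subgroup Ω)) (h : ∀ Q ∈ 𝒳, F.IsNormal Q) : F.IsNormal (sSup 𝒳) := by
  have hfin : 𝒳.Finite := (finite_le S).subset fun Q hQ => (h Q hQ).1
  induction 𝒳, hfin using Set.Finite.induction_on with
  | empty => rw [sSup_empty]; exact isNormal_bot F
  | @insert a s _ _ ih =>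
    rw [sSup_insert]
    exact isNormal_sup (h a (Set.mem_insert _ _)) (ih fun Q hQ => h Q (Set.mem_insert_of_mem _ hQ))

/-- The image of a normal subgroup of an invariant subsystem under an automorphism of `T` is normal in it. -/
theorem isNormal_image (hS : IsPGroup p ↥S) (hEs : E.IsSaturated p) (hI : E.IsInvariantIn F) {R : Subgroup Ω}
    (hR : E.IsNormal R) {α : MulAut ↥T} (hα : α ∈ F.autGroup T) :
    E.IsNormal ((R.subgroupOf T).map (T.subtype.comp α.toMonoidHom)) := by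
  obtain ⟨-, hT, hinv, -⟩ := id hI
  haveI := finite_of_le hT.1
  set R₁ := (R.subgroupOf T).map (T.subtype.comp α.toMonoidHom)
  have hR₁ : R₁ ≤ T := by rintro _ ⟨z, -, rfl⟩; exact (α z).2
  haveI := finite_of_le hR₁
  refine isNormal_of_extend p (hS.to_le hT.1) hEs hR₁ fun P hP φ hφ => ?_
  set P₀ := (P.subgroupOf T).map (T.subtype.comp (α⁻¹ : MulAut ↥T).toMonoidHom)
  have hP₀R : P₀ ≤ R := by
    rintro _ ⟨z, hz, rfl⟩
    obtain ⟨w, hw, hwz⟩ := hP hz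
    show ((α⁻¹ z : ↥T) : Ω) ∈ R
    rw [show α⁻¹ z = w by rw [← (Subtype.ext hwz : α w = z)]; exact MulAut.inv_apply_self _ _ _]
    exact hw
  obtain ⟨χ, hχ, hχe⟩ := hinv P (hP.trans hR₁) φ hφ α⁻¹ (inv_mem hα)
  obtain ⟨ψ, hψ, hψP, hψR⟩ := hR.2 P₀ χ hχ
  obtain ⟨h1, -⟩ := (map_eq_iff le_sup_right ψ).mp hψR
  have hR' : R ≤ P₀ ⊔ R := le_sup_right
  obtain ⟨η, hη, hηe⟩ := inv_conj hinv (hR.1) (restrict_mem hψ hR') hα (P' := R₁) fun y =>
    ⟨fun ⟨z, hz, hzy⟩ => ⟨⟨z, hz⟩, hzy⟩, fun ⟨x, hx⟩ => ⟨⟨x, hR.1 x.2⟩, x.2, hx⟩⟩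
  have hm : ∀ y : ↥R₁, η y ∈ R₁ := fun ⟨_, z, hz, hzy⟩ => by
    subst hzy
    exact (hηe ⟨z, hz⟩ (hR.1 (h1 ⟨z, hz⟩)) ⟨z, hz, rfl⟩).symm ▸ ⟨_, h1 ⟨z, hz⟩, rfl⟩
  have hr : η.range = R₁ :=
    Subgroup.eq_of_le_of_card_ge (by rintro _ ⟨y, rfl⟩; exact hm y) (card_range hη).ge
  refine ⟨isoOfMem hη hr, (autGroup_carrier E hR₁ _).mpr (by
    rw [show (isoOfMem hη hr).toMonoidHom = _ from rfl, isoOfMem_hom hη hr]; exact hη), fun x => ?_⟩
  rw [show ((isoOfMem hη hr (Subgroup.inclusion hP x) : ↥R₁) : Ω) = η (Subgroup.inclusion hP x) from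
    DFunLike.congr_fun (isoOfMem_hom hη hr) _]
  have hxT : (x : Ω) ∈ T := hR₁ (hP x.2)
  set w : ↥T := α⁻¹ ⟨x, hxT⟩
  have hw₀ : (w : Ω) ∈ P₀ := ⟨⟨x, hxT⟩, x.2, rfl⟩
  have hwR : (w : Ω) ∈ R := hP₀R hw₀
  have hφx : φ x ∈ T := apply_mem_S hφ x
  have e1 := hχe x hφx hw₀
  have e2 := hψP ⟨w, hw₀⟩
  have hαw : α w = ⟨(x : Ω), hxT⟩ := MulAut.apply_inv_self _ _ _
  have e3 := hηe ⟨w, hwR⟩ (hR.1 (h1 ⟨w, hwR⟩)) ⟨w, hwR, rfl⟩
  have e4 : (⟨ψ.comp (Subgroup.inclusion hR') ⟨w, hwR⟩, hR.1 (h1 ⟨w, hwR⟩)⟩ : ↥T) = α⁻¹ ⟨φ x, hφx⟩ :=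
    Subtype.ext ((show ψ.comp (Subgroup.inclusion hR') ⟨w, hwR⟩ = χ ⟨w, hw₀⟩ from e2).trans e1)
  rw [show η (Subgroup.inclusion hP x) = η ⟨((α w : ↥T) : Ω), ⟨w, hwR, rfl⟩⟩ from
    congrArg η (Subtype.ext (congrArg Subtype.val hαw).symm)]
  refine e3.trans ?_
  rw [e4, MulAut.apply_inv_self]

end CfsgLib.Fusion
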