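import Cfsg.Agent.Lib.Fusion.YoshidaWreath
import Cfsg.Agent.Lib.Fusion.Transfer

/-! Yoshida's transfer theorem for saturated systems. (helper6) -/

set_option autoImplicit false
set_option linter.unusedSectionVars false
set_option linter.style.haveILetI false

namespace CfsgLib.Fusion.Yoshida

open Cfsg Cfsg.FusionSystem CfsgLib.Fusion CfsgLib.Biset

section Cocycle

variable {X Y A : Type*} [Group X] [MulAction X Y] [Fintype Y] [CommGroup A] {δ : X → Y → A}

/-- The total of a cocycle. -/
def total (hδ : ∀ a b y, δ (a * b) y = δ a (b • y) * δ b y) : X →* A :=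
  MonoidHom.mk' (fun u => ∏ y, δ u y) fun a b => by
    rw [Finset.prod_congr rfl fun y _ => hδ a b y, Finset.prod_mul_distrib]
    congr 1
    exact Equiv.prod_comp (MulAction.toPerm b) (δ a)

/-- A cocycle which is harmless on stabilisers has harmless total. -/
theorem total_mem (hδ : ∀ a b y, δ (a * b) y = δ a (b • y) * δ b y) (u : X) (B : Subgroup A)
    (h : ∀ (y : Y) (i : ℤ), u ^ i • y = y → δ (u ^ i) y ∈ B) : ∏ y, δ u y ∈ B := by
  classical
  set R := MulAction.orbitRel ↥(Subgroup.zpowers u) Y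
  let r : Y → Y := fun y => (Quotient.mk R y).out
  have hr : ∀ y, ∃ i : ℤ, u ^ i • r y = y := fun y => by
    obtain ⟨⟨g, hg⟩, hgy⟩ := MulAction.orbitRel_apply.mp (R.symm (Quotient.mk_out (s := R) y))
    obtain ⟨i, rfl⟩ := Subgroup.mem_zpowers_iff.mp hg
    exact ⟨i, hgy⟩
  choose k hk using hr
  have hru : ∀ y, r (u • y) = r y := fun y =>
    congrArg Quotient.out (Quotient.sound (MulAction.orbitRel_apply.mpr ⟨⟨u, Subgroup.mem_zpowers u⟩, rfl⟩))
  let c : Y → A := fun y => δ (u ^ k y) (r y)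
  have hb : ∀ y, δ u y * c y * (c (u • y))⁻¹ ∈ B := by
    intro y
    have hfix : u ^ (-k (u • y) + (1 + k y)) • r y = r y := by
      have h1 := hk (u • y)
      rw [hru] at h1
      rw [zpow_add, zpow_add, zpow_one, mul_smul, mul_smul, hk, zpow_neg, inv_smul_eq_iff]
      exact h1.symm
    have h2 : δ u y * c y = δ (u ^ (1 + k y)) (r y) := by
      rw [zpow_add, zpow_one, hδ, hk]
    have h3 : δ (u ^ (1 + k y)) (r y) = c (u • y) * δ (u ^ (-k (u • y) + (1 + k y))) (r y) := by
      show _ = δ (u ^ k (u • y)) (r (u • y)) * _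
      rw [hru, show u ^ (1 + k y) = u ^ k (u • y) * u ^ (-k (u • y) + (1 + k y)) by
        rw [← zpow_add, add_neg_cancel_left], hδ, hfix]
    rw [h2, h3, mul_inv_cancel_comm]
    exact h _ _ hfix
  have hsplit : ∏ y, δ u y = (∏ y, δ u y * c y * (c (u • y))⁻¹) := by
    rw [Finset.prod_mul_distrib, Finset.prod_mul_distrib, Finset.prod_inv_distrib]
    rw [show (∏ y, c (u • y)) = ∏ y, c y from Equiv.prod_comp (MulAction.toPerm u) c, mul_inv_cancel_right]
  rw [hsplit]
  exact B.prod_mem fun y _ => hb y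

end Cocycle

universe u v

variable {Ω : Type u} [Group Ω] {S : Subgroup Ω} [Finite ↥S] {F : FusionSystem S} {p : ℕ} [Fact p.Prime]

theorem exists_char {V : Type*} [CommGroup V] [Finite V] (hV : ∀ a : V, a ^ p = 1) {a : V} (ha : a ≠ 1) :
    ∃ χ : V →* Multiplicative (ZMod p), χ a ≠ 1 := by
  obtain ⟨K, -, hK⟩ := Finite.exists_le_maximal (α := Subgroup V) (p := fun K : Subgroup V => a ∉ K) (a := ⊥)
    (fun h => ha (Subgroup.mem_bot.mp h))
  set π := QuotientGroup.mk' K
  have hpa : orderOf (π a) = p := orderOf_eq_prime (by rw [← map_pow, hV, map_one])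
    fun h => hK.prop ((QuotientGroup.eq_one_iff a).mp h)
  have hall : ∀ q : V ⧸ K, q ∈ Subgroup.zpowers (π a) := by
    intro q
    by_cases hq : q = 1
    · rw [hq]; exact one_mem _
    induction q using QuotientGroup.induction_on with
    | H x =>
      have hxK : x ∉ K := fun h => hq ((QuotientGroup.eq_one_iff x).mpr h)
      have hmem : a ∈ K ⊔ Subgroup.zpowers x := by
        by_contra hn
        exact hxK (hK.2 hn le_sup_left (Subgroup.mem_sup_right (Subgroup.mem_zpowers x)))
      obtain ⟨k, hk, y, hy, hky⟩ := Subgroup.mem_sup.mp hmem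
      obtain ⟨i, rfl⟩ := Subgroup.mem_zpowers_iff.mp hy
      have h1 : π a ∈ Subgroup.zpowers (π x) := ⟨i, by
        show (π x) ^ i = π a
        rw [← hky, map_mul, show π k = 1 from (QuotientGroup.eq_one_iff k).mpr hk, one_mul, map_zpow]⟩
      have hx : orderOf (π x) = p := orderOf_eq_prime (by rw [← map_pow, hV, map_one]) hq
      have h2 : Subgroup.zpowers (π a) = Subgroup.zpowers (π x) := Subgroup.eq_of_le_of_card_ge
        (Subgroup.zpowers_le.mpr h1) (by rw [Nat.card_zpowers, Nat.card_zpowers, hpa, hx])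
      exact h2.ge (Subgroup.mem_zpowers _)
  have hcard : Nat.card (V ⧸ K) = p := by
    rw [← Subgroup.card_top, ← (Subgroup.eq_top_iff' _).mpr hall, Nat.card_zpowers, hpa]
  let e : V ⧸ K ≃* Multiplicative (ZMod p) :=
    mulEquivOfPrimeCardEq hcard (by rw [Nat.card_congr Multiplicative.toAdd, Nat.card_zmod])
  exact ⟨e.toMonoidHom.comp π, fun h => hK.prop ((QuotientGroup.eq_one_iff a).mp (e.injective (h.trans e.map_one.symm)))⟩

theorem index_coatom {G : Type*} [Group G] [Finite G] (hG : IsPGroup p G) {M : Subgroup G} (hM : IsCoatom M) :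
    M.Normal ∧ M.index = p := by
  haveI := hG.isNilpotent
  refine ⟨Subgroup.NormalizerCondition.normal_of_coatom M Group.normalizerCondition_of_isNilpotent hM, ?_⟩
  obtain ⟨k, hk⟩ := hG.index M
  obtain ⟨a, ha⟩ := IsPGroup.iff_card.mp (hG.to_subgroup M)
  have hk0 : k ≠ 0 := fun e => hM.1 (Subgroup.index_eq_one.mp (by rw [hk, e, pow_zero]))
  have hc := M.card_mul_index
  rw [ha, hk, ← pow_add] at hc
  obtain ⟨K, hK, hMK⟩ := Sylow.exists_subgroup_card_pow_succ (G := G) (p := p) (n := a)
    (by rw [← hc]; exact pow_dvd_pow p (by omega)) ha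
  have hne : M ≠ K := fun e => by
    rw [e, hK] at ha
    exact absurd (Nat.pow_right_injective (Fact.out : p.Prime).two_le ha) (by omega)
  rw [hM.2 K (lt_of_le_of_ne hMK hne), Subgroup.card_top, ← hc] at hK
  have := Nat.pow_right_injective (Fact.out : p.Prime).two_le hK
  rw [hk, show k = 1 by omega, pow_one]

theorem invariant_extends (hS : IsPGroup p ↥S) (hF : F.IsSaturated p)
    (hno : ¬ ∃ (W : Sylow p (Equiv.Perm (Fin (p ^ 2)))) (f : ↥S →* ↥(W : Subgroup (Equiv.Perm (Fin (p ^ 2))))),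
      Function.Surjective f) {A : Type v} [CommGroup A] [Finite A] :
    ∀ (n : ℕ) (π : ↥S →* A), (∀ s, π s ^ p ^ n = 1) → (∀ α ∈ F.autGroup S, ∀ x, π (α x) = π x) →
      ∀ (P : Subgroup Ω) (φ : ↥P →* Ω) (hφ : φ ∈ F.Hom P) (x : P),
        π ⟨φ x, apply_mem_S hφ x⟩ = π ⟨x, le_S hφ x.2⟩ := by
  intro n
  induction n with
  | zero =>
    intro π h0 _ P φ hφ x
    have := fun s => (show π s = 1 by simpa using h0 s)
    rw [this, this]
  | succ n ihn =>
    intro π hn hinv
    classical
    have hpow : ∀ (P : Subgroup Ω) (φ : ↥P →* Ω) (hφ : φ ∈ F.Hom P) (x : P),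
        π ⟨φ x, apply_mem_S hφ x⟩ ^ p = π ⟨x, le_S hφ x.2⟩ ^ p := fun P φ hφ x =>
      ihn ((powMonoidHom p).comp π) (fun s => by
        show (π s ^ p) ^ p ^ n = 1
        rw [← pow_mul, ← pow_succ', hn]) (fun α hα x => congrArg (· ^ p) (hinv α hα x)) P φ hφ x
    obtain ⟨B, d, hst, hd, hc, -⟩ := exists_characteristic p hS hF
    obtain ⟨κ, hκ⟩ := exists_isLEquiv B.lfree π
    haveI : Fintype (LOrb ↥S B.X) := Fintype.ofFinite _
    have hd' : Fintype.card (LOrb ↥S B.X) = d := by rw [← Nat.card_eq_fintype_card, B.card_lorb hc]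
    letI act : MulAction ↥S (LOrb ↥S B.X) :=
      { smul := fun q o => lshift q o
        one_smul := by
          rintro ⟨x⟩
          exact congrArg (Quotient.mk _) (one_smul (↥S × ↥S) x)
        mul_smul := by
          rintro a b ⟨x⟩
          refine congrArg (Quotient.mk _) ?_
          show _ • x = _ • _ • x
          rw [← mul_smul]
          exact congrArg (· • x) (Prod.ext (one_mul (1 : ↥S)).symm rfl) }
    let δ : ↥S → LOrb ↥S B.X → A := fun q o =>
      κ (((1, q) : ↥S × ↥S) • o.out) * (κ o.out)⁻¹ * π q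
    have hδ : ∀ a b o, δ (a * b) o = δ a (b • o) * δ b o := by
      intro a b o
      have h : (lrel ↥S B.X).r (b • o).out (((1, b) : ↥S × ↥S) • o.out) := by
        refine Quotient.exact ?_
        rw [Quotient.out_eq]
        conv_lhs => rw [← Quotient.out_eq o]
        rfl
      show _ * _ * π (a * b) = _ * _ * π a * (_ * _ * π b)
      rw [delta_congr hκ a h, ← mul_smul, Prod.mk_mul_mk, one_mul, map_mul]
      generalize κ (((1, a * b) : ↥S × ↥S) • o.out) = e1
      generalize κ (((1, b) : ↥S × ↥S) • o.out) = e2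
      simp [mul_comm, mul_left_comm, mul_assoc]
    have htot : ∀ w, ∏ o, δ w o = tr hκ w * π w ^ d := fun w => by
      rw [tr_apply, Finset.prod_mul_distrib, Finset.prod_const, Finset.card_univ, hd']
    -- values at stabilisers
    have hstab : ∀ (k : ↥S) o, k • o = o → ∃ (Q : Subgroup Ω) (ψ : ↥Q →* Ω) (hψ : ψ ∈ F.Hom Q) (hk : (k : Ω) ∈ Q),
        δ k o = π k * (π ⟨ψ ⟨k, hk⟩, apply_mem_S hψ _⟩)⁻¹ ∧
          ∀ g : ↥S, g • o = o → (g : Ω) ∈ Q := by
      intro k o hko
      have hex : ∀ g : ↥S, g • o = o → ∃ s : ↥S, ((s, g) : ↥S × ↥S) • o.out = o.out := by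
        intro g hg
        have h1 : Quotient.mk (lrel ↥S B.X) (((1, g) : ↥S × ↥S) • o.out) = Quotient.mk _ o.out := by
          rw [Quotient.out_eq]
          conv_rhs => rw [← hg]
          conv_rhs => rw [← Quotient.out_eq o]
          rfl
        obtain ⟨s, hs⟩ := Quotient.exact h1
        refine ⟨s, ?_⟩
        rw [← mul_smul, Prod.mk_mul_mk, mul_one, one_mul] at hs
        exact hs
      obtain ⟨s, hs⟩ := hex k hko
      obtain ⟨Q, ψ, hk, hψ, hQ, hse⟩ := B.exists_map_of_fix hs
      refine ⟨Q, ψ, hψ, hk, ?_, fun g hg => ?_⟩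
      · have h2 : κ o.out = π s * κ (((1, k) : ↥S × ↥S) • o.out) := by
          rw [← hκ, ← mul_smul, Prod.mk_mul_mk, mul_one, one_mul, hs]
        show _ * _ * π k = _
        rw [h2, show (⟨ψ ⟨(k : Ω), hk⟩, apply_mem_S hψ _⟩ : ↥S) = s from Subtype.ext hse.symm]
        generalize κ (((1, k) : ↥S × ↥S) • o.out) = e1
        simp [mul_comm]
      · obtain ⟨t, ht⟩ := hex g hg
        have h3 : ((t, g) : ↥S × ↥S) ∈ graph S Q ψ := hQ ▸ ht
        obtain ⟨y, -, hy⟩ := h3
        exact hy ▸ y.2
    have hexp : ∀ (k : ↥S) o, k • o = o → δ k o ^ p = 1 := fun k o hko => by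
      obtain ⟨Q, ψ, hψ, hk, he, -⟩ := hstab k o hko
      rw [he, mul_pow, inv_pow, hpow Q ψ hψ ⟨k, hk⟩, mul_inv_cancel]
    have hcop : ∀ a b : ↥S, π a ^ d = π b ^ d → π a = π b := by
      intro a b e
      have h1 : (π (a * b⁻¹)) ^ d = 1 := by rw [map_mul, mul_pow, map_inv, inv_pow, e, mul_inv_cancel]
      have hp : Nat.Coprime (p ^ (n + 1)) d := Nat.Coprime.pow_left _ ((Fact.out : p.Prime).coprime_iff_not_dvd.mpr hd)
      have h2 := Nat.dvd_gcd (orderOf_dvd_of_pow_eq_one (hn (a * b⁻¹))) (orderOf_dvd_of_pow_eq_one h1)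
      rw [hp.gcd_eq_one, Nat.dvd_one, orderOf_eq_one_iff, map_mul, map_inv, mul_inv_eq_one] at h2
      exact h2
    -- the main count
    have key : ∀ (m : ℕ) (w : ↥S), orderOf w = m → ∏ o, δ w o = 1 := by
      intro m
      induction m using Nat.strong_induction_on with
      | _ m ihm =>
        intro w hw
        have hlow : ∀ (k : ↥S) o, k • o = o → orderOf k < m → δ k o = 1 := by
          intro k o hko hlt
          obtain ⟨Q, ψ, hψ, hk, he, -⟩ := hstab k o hko
          rw [he, mul_inv_eq_one]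
          refine hcop _ _ ?_
          set k' : ↥S := ⟨ψ ⟨k, hk⟩, apply_mem_S hψ _⟩
          have ho : orderOf k' = orderOf k := by
            rw [← Subgroup.orderOf_coe, ← Subgroup.orderOf_coe k]
            show orderOf (ψ ⟨(k : Ω), hk⟩) = _
            rw [orderOf_injective ψ (F.injective_of_mem hψ), ← Subgroup.orderOf_coe]
          have h1 := ihm _ hlt k rfl
          have h2 := ihm _ (ho ▸ hlt) k' rfl
          rw [htot, B.tr_invariant hst hκ hψ ⟨k, hk⟩] at h2
          rw [htot] at h1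
          exact mul_left_cancel (h1.trans h2.symm)
        -- one orbit at a time
        haveI : Fintype (Quotient (MulAction.orbitRel ↥S (LOrb ↥S B.X))) := Fintype.ofFinite _
        rw [← (MulAction.selfEquivSigmaOrbits ↥S (LOrb ↥S B.X)).symm.prod_comp (δ w), Fintype.prod_sigma]
        refine Finset.prod_eq_one fun q _ => ?_
        set o := q.out with ho
        show ∏ y : ↥(MulAction.orbit ↥S o), δ w (y : LOrb ↥S B.X) = 1
        have hδO : ∀ (a b : ↥S) (y : ↥(MulAction.orbit ↥S o)),
            δ (a * b) y = δ a ((b • y : ↥(MulAction.orbit ↥S o)) : LOrb ↥S B.X) * δ b y := fun a b y => hδ a b y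
        by_cases hfix : MulAction.stabilizer ↥S o = ⊤
        · refine Subgroup.mem_bot.mp (total_mem (δ := fun a (y : ↥(MulAction.orbit ↥S o)) => δ a y) hδO w ⊥
            fun y i _ => Subgroup.mem_bot.mpr ?_)
          have hall : ∀ g : ↥S, g • o = o := fun g => MulAction.mem_stabilizer_iff.mp (hfix.ge (Subgroup.mem_top g))
          have hy : (y : LOrb ↥S B.X) = o := by
            obtain ⟨g, hg⟩ := y.2
            exact hg.symm.trans (hall g)
          rw [hy]
          obtain ⟨Q, ψ, hψ, hk, he, hQ⟩ := hstab (w ^ i) o (hall _)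
          rw [he, mul_inv_eq_one]
          have hQS : Q = S := le_antisymm (le_S hψ) fun g hg => hQ ⟨g, hg⟩ (hall _)
          subst hQS
          have hr : ψ.range = Q := eq_of_isConj_S ⟨ψ, hψ, rfl⟩
          have hα : isoOfMem hψ hr ∈ F.autGroup Q := (autGroup_carrier F le_rfl _).mpr (by
            rw [show (isoOfMem hψ hr).toMonoidHom = _ from rfl, isoOfMem_hom hψ hr]; exact hψ)
          refine ((hinv _ hα (w ^ i)).symm).trans (congrArg π (Subtype.ext ?_))
          exact DFunLike.congr_fun (isoOfMem_hom hψ hr) _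
        obtain ⟨M, hMc, hQM⟩ := (eq_top_or_exists_le_coatom (MulAction.stabilizer ↥S o)).resolve_left hfix
        obtain ⟨hMn, hMi⟩ := index_coatom hS hMc
        haveI := hMn
        obtain ⟨s, -, hsM⟩ := SetLike.exists_of_lt (lt_top_iff_ne_top.mpr hMc.1)
        have hstabM : ∀ (g : ↥S) (y : ↥(MulAction.orbit ↥S o)), g • y = y → g ∈ M := by
          intro g y hg
          obtain ⟨t, ht⟩ := y.2
          have h1 : (t⁻¹ * g * t) • o = o := by
            have h2 : g • (y : LOrb ↥S B.X) = y := congrArg Subtype.val hg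
            rw [mul_smul, mul_smul, inv_smul_eq_iff]
            rw [← show t • o = (y : LOrb ↥S B.X) from ht] at h2
            exact h2
          have h3 := hMn.conj_mem _ (hQM (MulAction.mem_stabilizer_iff.mpr h1)) t
          rwa [show t * (t⁻¹ * g * t) * t⁻¹ = g by group] at h3
        by_cases hwM : w ∈ M
        swap
        · refine Subgroup.mem_bot.mp (total_mem (δ := fun a (y : ↥(MulAction.orbit ↥S o)) => δ a y) hδO w ⊥
            fun y i hy => Subgroup.mem_bot.mpr (hlow _ _ (congrArg Subtype.val hy) ?_))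
          rw [← hw]
          refine lt_of_le_of_ne (Nat.le_of_dvd (orderOf_pos w) (orderOf_dvd_of_mem_zpowers ⟨i, rfl⟩)) fun e => hwM ?_
          have he : Subgroup.zpowers (w ^ i) = Subgroup.zpowers w := Subgroup.eq_of_le_of_card_ge
            (Subgroup.zpowers_le.mpr ⟨i, rfl⟩) (by rw [Nat.card_zpowers, Nat.card_zpowers, e])
          exact Subgroup.zpowers_le.mpr (hstabM _ y hy) (he.ge (Subgroup.mem_zpowers w))
        -- the blocks
        have hδM : ∀ (a b : ↥M) (z : ↥(MulAction.orbit ↥M o)),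
            δ ((a * b : ↥M) : ↥S) z = δ a ((b • z : ↥(MulAction.orbit ↥M o)) : LOrb ↥S B.X) * δ b z :=
          fun a b z => hδ a b z
        let D : ↥M →* A := total (δ := fun (a : ↥M) (z : ↥(MulAction.orbit ↥M o)) => δ a z) hδM
        have hDp : ∀ a, D a ^ p = 1 := by
          intro a
          have := total_mem (δ := fun (a : ↥M) (z : ↥(MulAction.orbit ↥M o)) => δ a z) hδM a (powMonoidHom (α := A) p).ker
            fun z i hz => hexp _ _ (congrArg Subtype.val hz)
          exact this
        have hgen : ∀ g : ↥S, ∃ (i : ℕ) (a : ↥M), i < p ∧ g = s ^ i * a := by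
          intro g
          obtain ⟨i, hi⟩ := Subgroup.mem_zpowers_iff.mp (mem_zpowers_of_prime_card (p := p) (g := (s : ↥S ⧸ M))
            (g' := (g : ↥S ⧸ M)) hMi fun e => hsM ((QuotientGroup.eq_one_iff s).mp e))
          have hp0 : (0 : ℤ) < p := by exact_mod_cast (Fact.out : p.Prime).pos
          have hsp : ((s : ↥S ⧸ M)) ^ p = 1 := by
            rw [← QuotientGroup.mk_pow, QuotientGroup.eq_one_iff]
            exact hMi ▸ M.pow_index_mem s
          refine ⟨(i % (p : ℤ)).toNat, ⟨(s ^ (i % (p : ℤ)).toNat)⁻¹ * g, QuotientGroup.eq.mp ?_⟩, ?_,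
            (mul_inv_cancel_left _ _).symm⟩
          · rw [QuotientGroup.mk_pow, ← hi, ← zpow_natCast, Int.toNat_of_nonneg (Int.emod_nonneg _ hp0.ne')]
            conv_rhs => rw [← Int.emod_add_mul_ediv i p, zpow_add, zpow_mul, zpow_natCast, hsp, one_zpow, mul_one]
          · have := Int.emod_lt_of_pos i hp0
            omega
        let e : Fin p × ↥(MulAction.orbit ↥M o) → ↥(MulAction.orbit ↥S o) := fun iz =>
          ⟨s ^ (iz.1 : ℕ) • (iz.2 : LOrb ↥S B.X), by
            obtain ⟨a, ha⟩ := iz.2.2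
            exact ⟨s ^ (iz.1 : ℕ) * a, by
              show (s ^ (iz.1 : ℕ) * (a : ↥S)) • o = _
              rw [mul_smul]; exact congrArg (s ^ (iz.1 : ℕ) • ·) ha⟩⟩
        have he : Function.Bijective e := by
          constructor
          · rintro ⟨i, z, a, rfl⟩ ⟨j, z', b, rfl⟩ heq
            have h1 : s ^ (i : ℕ) • ((a : ↥S) • o) = s ^ (j : ℕ) • ((b : ↥S) • o) := congrArg Subtype.val heq
            have h2 : ((b : ↥S)⁻¹ * ((s ^ (j : ℕ))⁻¹ * s ^ (i : ℕ)) * a) • o = o := by
              rw [mul_smul, mul_smul, mul_smul, h1, inv_smul_smul, inv_smul_smul]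
            have h3 := hQM (MulAction.mem_stabilizer_iff.mpr h2)
            rw [M.mul_mem_cancel_right a.2, M.mul_mem_cancel_left (M.inv_mem b.2)] at h3
            have hij : i = j := by
              have h4 : ((s : ↥S ⧸ M)) ^ (j : ℕ) = (s : ↥S ⧸ M) ^ (i : ℕ) := by
                rw [← QuotientGroup.mk_pow, ← QuotientGroup.mk_pow]; exact QuotientGroup.eq.mpr h3
              have hord : orderOf (s : ↥S ⧸ M) = p := orderOf_eq_prime (by
                rw [← QuotientGroup.mk_pow, QuotientGroup.eq_one_iff]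
                exact hMi ▸ M.pow_index_mem s) fun h => hsM ((QuotientGroup.eq_one_iff s).mp h)
              exact Fin.ext (pow_injOn_Iio_orderOf (by rw [hord]; exact i.2) (by rw [hord]; exact j.2) h4.symm)
            subst hij
            exact Prod.ext rfl (Subtype.ext (smul_left_cancel _ h1))
          · rintro ⟨_, g, rfl⟩
            obtain ⟨i, a, hi, rfl⟩ := hgen g
            exact ⟨(⟨i, hi⟩, ⟨(a : ↥S) • o, a, rfl⟩), Subtype.ext (mul_smul _ (a : ↥S) o).symm⟩
        have hconj : ∀ i : ℕ, (s ^ i)⁻¹ * w * s ^ i ∈ M := fun i => by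
          simpa using hMn.conj_mem w hwM (s ^ i)⁻¹
        have hblock : ∀ i : ℕ, ∏ z : ↥(MulAction.orbit ↥M o), δ w (s ^ i • (z : LOrb ↥S B.X)) = D ⟨_, hconj i⟩ := by
          intro i
          set v : ↥M := ⟨_, hconj i⟩ with hv
          have h1 : ∀ z : ↥(MulAction.orbit ↥M o), δ w (s ^ i • (z : LOrb ↥S B.X)) * δ (s ^ i) z =
              δ (s ^ i) ((v • z : ↥(MulAction.orbit ↥M o)) : LOrb ↥S B.X) * δ (v : ↥S) z := fun z => by
            rw [← hδ w (s ^ i) z, show w * s ^ i = s ^ i * (v : ↥S) by simp only [hv]; group]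
            exact hδ _ _ _
          have h2 : (∏ z : ↥(MulAction.orbit ↥M o), δ w (s ^ i • (z : LOrb ↥S B.X))) *
              (∏ z : ↥(MulAction.orbit ↥M o), δ (s ^ i) (z : LOrb ↥S B.X)) =
              (∏ z : ↥(MulAction.orbit ↥M o), δ (s ^ i) ((v • z : ↥(MulAction.orbit ↥M o)) : LOrb ↥S B.X)) *
                ∏ z : ↥(MulAction.orbit ↥M o), δ (v : ↥S) z :=
            Finset.prod_mul_distrib.symm.trans ((Finset.prod_congr rfl fun z _ => h1 z).trans Finset.prod_mul_distrib)
          have h3 : (∏ z : ↥(MulAction.orbit ↥M o), δ (s ^ i) ((v • z : ↥(MulAction.orbit ↥M o)) : LOrb ↥S B.X)) =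
              ∏ z : ↥(MulAction.orbit ↥M o), δ (s ^ i) (z : LOrb ↥S B.X) :=
            Equiv.prod_comp (MulAction.toPerm v) fun z : ↥(MulAction.orbit ↥M o) => δ (s ^ i) (z : LOrb ↥S B.X)
          rw [h3, mul_comm (∏ z : ↥(MulAction.orbit ↥M o), δ (s ^ i) (z : LOrb ↥S B.X))] at h2
          exact mul_right_cancel h2
        rw [← he.prod_comp (fun y : ↥(MulAction.orbit ↥S o) => δ w y), Fintype.prod_prod_type,
          Finset.prod_congr rfl fun (i : Fin p) _ => hblock i,
          Fin.prod_univ_eq_prod_range (fun i => D ⟨_, hconj i⟩)]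
        by_contra hne
        -- a character seeing the norm
        set Ap := (powMonoidHom (α := A) p).ker
        have hAp : ∀ a : ↥Ap, a ^ p = 1 := fun a => Subtype.ext (MonoidHom.mem_ker.mp a.2)
        let D' : ↥M →* ↥Ap := D.codRestrict Ap hDp
        set a : ↥Ap := ∏ i ∈ Finset.range p, D' ⟨_, hconj i⟩ with ha
        obtain ⟨χ, hχ⟩ := exists_char hAp (a := a) fun h => hne (by
          have := congrArg (Subgroup.subtype Ap) h
          rw [ha, map_prod, map_one] at this
          exact this)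
        refine hno (exists_wreath hS hMi (χ.comp D') (u := w) (s := s) hwM ?_)
        rw [ha, map_prod] at hχ
        exact fun h => hχ (Multiplicative.toAdd.injective ((toAdd_prod _ _).trans h))
    intro P φ hφ x
    refine hcop _ _ ?_
    have h1 := key _ ⟨x, le_S hφ x.2⟩ rfl
    have h2 := key _ ⟨φ x, apply_mem_S hφ x⟩ rfl
    rw [htot, B.tr_invariant hst hκ hφ x] at h2
    rw [htot] at h1
    exact mul_left_cancel (h2.trans h1.symm)

end CfsgLib.Fusion.Yoshida
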