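import Mathlib.GroupTheory.Sylow
import Mathlib.GroupTheory.Nilpotent
import Mathlib.GroupTheory.Perm.Cycle.Type
import Mathlib.NumberTheory.Padics.PadicVal.Basic
import Mathlib.LinearAlgebra.Dual.Lemmas
import Mathlib.Algebra.Module.ZMod
import Mathlib.Algebra.Polynomial.AlgebraMap
import Mathlib.Algebra.CharP.Lemmas
import Mathlib.Algebra.Polynomial.RingDivision
import Mathlib.Algebra.Ring.GeomSum
import Mathlib.Data.Finite.Perm
import Mathlib.LinearAlgebra.FiniteDimensional.Lemmas
import Mathlib.FieldTheory.Finiteness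
import Mathlib.Algebra.Field.ZMod

/-! A non-trivial norm from a subgroup of index `p` gives a wreath quotient. (helper6) -/

set_option autoImplicit false
set_option linter.unusedSectionVars false
set_option linter.style.haveILetI false

namespace CfsgLib.Fusion.Yoshida

variable {p : ℕ} [hp : Fact p.Prime]

/-- The cyclic shift of a vector. -/
def shiftL : Module.End (ZMod p) (ZMod p → ZMod p) where
  toFun v i := v (i + 1)
  map_add' _ _ := rfl
  map_smul' _ _ := rfl

theorem shiftL_pow (n : ℕ) (v : ZMod p → ZMod p) (i : ZMod p) : ((shiftL (p := p)) ^ n) v i = v (i + n) := by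
  induction n generalizing v with
  | zero => simp
  | succ n ih =>
    rw [pow_succ, Module.End.mul_apply, ih]
    show v (i + n + 1) = _
    congr 1
    push_cast
    ring

theorem one_sub_shift_pow_p : ((1 : Module.End (ZMod p) (ZMod p → ZMod p)) - shiftL) ^ p = 0 := by
  haveI : CharP (Polynomial (ZMod p)) p := inferInstance
  have h : ((1 : Polynomial (ZMod p)) - Polynomial.X) ^ p = 1 - Polynomial.X ^ p := by
    rw [sub_pow_char, one_pow]
  have h1 := congrArg (Polynomial.aeval (shiftL (p := p))) h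
  simp only [map_pow, map_sub, map_one, Polynomial.aeval_X] at h1
  rw [h1]
  refine LinearMap.ext fun v => funext fun i => ?_
  rw [LinearMap.sub_apply, Pi.sub_apply, shiftL_pow, ZMod.natCast_self, add_zero, Module.End.one_apply, sub_self]
  rfl

theorem one_sub_shift_pow_pred (v : ZMod p → ZMod p) :
    (((1 : Module.End (ZMod p) (ZMod p → ZMod p)) - shiftL) ^ (p - 1) : Module.End (ZMod p) (ZMod p → ZMod p)) v 0 = ∑ k ∈ Finset.range p, v k := by
  have hne : (1 : Polynomial (ZMod p)) - Polynomial.X ≠ 0 := fun h => by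
    have := congrArg (fun q => Polynomial.coeff q 0) h
    simp at this
  have h : ((1 : Polynomial (ZMod p)) - Polynomial.X) ^ (p - 1) = ∑ k ∈ Finset.range p, Polynomial.X ^ k := by
    refine mul_left_cancel₀ hne ?_
    rw [← pow_succ', Nat.sub_add_cancel hp.out.one_le, mul_neg_geom_sum, sub_pow_char, one_pow]
  have h1 := congrArg (Polynomial.aeval (shiftL (p := p))) h
  simp only [map_pow, map_sub, map_one, Polynomial.aeval_X, map_sum] at h1
  rw [h1, LinearMap.sum_apply, Finset.sum_apply]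
  exact Finset.sum_congr rfl fun k _ => by rw [shiftL_pow, zero_add]

/-- A shift invariant set of vectors containing one of non-zero sum is everything. -/
theorem pow_le_card (R : Submodule (ZMod p) (ZMod p → ZMod p)) (hR : ∀ v ∈ R, shiftL v ∈ R)
    {w : ZMod p → ZMod p} (hw : w ∈ R) (hsum : ∑ k ∈ Finset.range p, w k ≠ 0) : p ^ p ≤ Nat.card ↥R := by
  set φ : Module.End (ZMod p) (ZMod p → ZMod p) := 1 - shiftL with hφ
  let Q : ℕ → Submodule (ZMod p) (ZMod p → ZMod p) := fun i => R.map (φ ^ i)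
  have hstep : ∀ i, Q (i + 1) = (Q i).map φ := fun i => by
    simp only [Q, pow_succ', Module.End.mul_eq_comp, Submodule.map_comp]
  have hle : ∀ i, Q (i + 1) ≤ Q i := by
    intro i
    simp only [Q, pow_succ, Module.End.mul_eq_comp, Submodule.map_comp]
    refine Submodule.map_mono ?_
    rintro _ ⟨v, hv, rfl⟩
    exact R.sub_mem hv (hR v hv)
  have hne : ∀ i < p, Q i ≠ ⊥ := by
    intro i hi e
    have hlast : ((φ ^ (p - 1)) w) 0 ≠ 0 := by rw [hφ, one_sub_shift_pow_pred]; exact hsum
    have h0 : (φ ^ i) w = 0 := (Submodule.mem_bot _).mp (e.le (show (φ ^ i) w ∈ Q i from ⟨w, hw, rfl⟩))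
    rw [show p - 1 = (p - 1 - i) + i by omega, pow_add, Module.End.mul_apply, h0, map_zero] at hlast
    exact hlast rfl
  have hlt : ∀ i < p, Q (i + 1) < Q i := by
    intro i hi
    refine lt_of_le_of_ne (hle i) fun e => hne i hi ?_
    have hk : ∀ k, Q (i + k) = Q i := by
      intro k
      induction k with
      | zero => rfl
      | succ k ih => rw [← add_assoc, hstep, ih, ← hstep, e]
    rw [← hk p, eq_bot_iff]
    rintro _ ⟨v, -, rfl⟩
    rw [Submodule.mem_bot, add_comm, pow_add, one_sub_shift_pow_p, zero_mul]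
    rfl
  have hp2 : ∀ (U : Submodule (ZMod p) (ZMod p → ZMod p)), Nat.card ↥U = p ^ Module.finrank (ZMod p) ↥U := fun U => by
    haveI : Fintype ↥U := Fintype.ofFinite _
    rw [Nat.card_eq_fintype_card, Module.card_eq_pow_finrank (K := ZMod p), ZMod.card]
  have hdim : ∀ j ≤ p, j ≤ Module.finrank (ZMod p) ↥(Q (p - j)) := by
    intro j hj
    induction j with
    | zero => exact Nat.zero_le _
    | succ j ih =>
      have h1 := Submodule.finrank_lt_finrank_of_lt (s := Q (p - (j + 1) + 1)) (t := Q (p - (j + 1))) (hlt (p - (j + 1)) (by omega))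
      rw [show p - (j + 1) + 1 = p - j by omega] at h1
      have := ih (by omega)
      omega
  have h0 : Q 0 = R := by simp [Q, Module.End.one_eq_id]
  have := hdim p le_rfl
  rw [Nat.sub_self, h0] at this
  rw [hp2]
  exact Nat.pow_le_pow_right hp.out.pos this

theorem card_sylow_perm_sq (W : Sylow p (Equiv.Perm (Fin (p ^ 2)))) :
    Nat.card ↥(W : Subgroup (Equiv.Perm (Fin (p ^ 2)))) = p ^ (p + 1) := by
  rw [W.card_eq_multiplicity, Nat.card_perm, Nat.card_fin, Nat.factorization_def _ hp.out, pow_two,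
    padicValNat_factorial_mul]
  have h1 : padicValNat p p.factorial = 1 := by
    conv_lhs => rw [show p.factorial = (p * 1).factorial by rw [mul_one]]
    rw [padicValNat_factorial_mul]
    simp
  rw [h1, add_comm]

variable {G : Type*} [Group G] [Finite G]

/-- A character of a subgroup of index `p` with non-zero norm gives a wreath quotient. -/
theorem exists_wreath (hG : IsPGroup p G) {M : Subgroup G} [M.Normal] (hM : M.index = p) {s : G}
    (c : ↥M →* Multiplicative (ZMod p)) {u : G} (hu : u ∈ M)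
    (hnorm : ∑ i ∈ Finset.range p, (c ⟨(s ^ i)⁻¹ * u * s ^ i, by
      simpa using (inferInstance : M.Normal).conj_mem u hu (s ^ i)⁻¹⟩).toAdd ≠ 0) :
    ∃ (W : Sylow p (Equiv.Perm (Fin (p ^ 2)))) (f : G →* ↥(W : Subgroup (Equiv.Perm (Fin (p ^ 2))))),
      Function.Surjective f := by
  classical
  have hcm : ∀ (n : ℕ) (m : ↥M), (s ^ n)⁻¹ * (m : G) * s ^ n ∈ M := fun n m => by
    simpa using (inferInstance : M.Normal).conj_mem (m : G) m.2 (s ^ n)⁻¹
  let ι : ℕ → ↥M →* Multiplicative (ZMod p) := fun n =>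
    MonoidHom.mk' (fun m => c ⟨(s ^ n)⁻¹ * (m : G) * s ^ n, hcm n m⟩) fun a b => by
      rw [← map_mul]
      exact congrArg c (Subtype.ext (show (s ^ n)⁻¹ * ((a : G) * b) * s ^ n = _ by
        simp only [Subgroup.coe_mul]; group))
  have hsp : s ^ p ∈ M := hM ▸ M.pow_index_mem s
  have hper : ∀ (n : ℕ) (m : ↥M), ι (n + p) m = ι n m := fun n m => by
    show c _ = c _
    have h1 : ((⟨s ^ p, hsp⟩ : ↥M)⁻¹ * ⟨(s ^ n)⁻¹ * (m : G) * s ^ n, hcm n m⟩ * ⟨s ^ p, hsp⟩) =
        ⟨(s ^ (n + p))⁻¹ * (m : G) * s ^ (n + p), hcm (n + p) m⟩ := Subtype.ext (by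
      simp only [Subgroup.coe_mul, InvMemClass.coe_inv]; rw [pow_add, mul_inv_rev]; simp only [mul_assoc])
    rw [← h1, map_mul, map_mul, map_inv, inv_mul_cancel_comm]
  have hmod : ∀ (n : ℕ) (m : ↥M), ι n m = ι (n % p) m := by
    intro n m
    conv_lhs => rw [← Nat.mod_add_div n p]
    generalize n / p = k
    induction k with
    | zero => simp
    | succ k ih => rw [Nat.mul_succ, ← add_assoc, hper, ih]
  let vec : ↥M → (ZMod p → ZMod p) := fun m i => (ι i.val m).toAdd
  have hvmul : ∀ a b, vec (a * b) = vec a + vec b := fun a b => funext fun i => by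
    show (ι i.val (a * b)).toAdd = _
    rw [map_mul, toAdd_mul]; rfl
  have hvone : vec 1 = 0 := funext fun i => by show (ι i.val 1).toAdd = _; rw [map_one]; rfl
  let R₀ : AddSubgroup (ZMod p → ZMod p) :=
    { carrier := Set.range vec
      add_mem' := by rintro _ _ ⟨a, rfl⟩ ⟨b, rfl⟩; exact ⟨a * b, hvmul a b⟩
      zero_mem' := ⟨1, hvone⟩
      neg_mem' := by
        rintro _ ⟨a, rfl⟩
        exact ⟨a⁻¹, eq_neg_of_add_eq_zero_left (by rw [← hvmul, inv_mul_cancel, hvone])⟩ }
  let R : Submodule (ZMod p) (ZMod p → ZMod p) := AddSubgroup.toZModSubmodule p R₀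
  have hshift : ∀ v ∈ R, shiftL v ∈ R := by
    rintro _ ⟨m, rfl⟩
    refine ⟨⟨(s ^ 1)⁻¹ * (m : G) * s ^ 1, hcm 1 m⟩, funext fun i => ?_⟩
    show (ι i.val _).toAdd = (ι (i + 1).val m).toAdd
    congr 1
    rw [ZMod.val_add, ZMod.val_one, ← hmod]
    exact congrArg c (Subtype.ext (by simp only; rw [add_comm, pow_add, pow_one, mul_inv_rev]; simp only [mul_assoc]))
  have hR := pow_le_card R hshift (w := vec ⟨u, hu⟩) ⟨_, rfl⟩ (by
    refine ne_of_eq_of_ne (Finset.sum_congr rfl fun k hk => ?_) hnorm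
    show (ι ((k : ZMod p)).val _).toAdd = _
    rw [ZMod.val_natCast, ← hmod]
    rfl)
  -- the permutation representation
  let K : Subgroup G := c.ker.map M.subtype
  have hKM : K ≤ M := Subgroup.map_subtype_le _
  have hKidx : K.index = p ^ 2 := by
    have hrange : c.range = ⊤ := by
      rcases c.range.eq_bot_or_eq_top_of_prime_card (hp := ⟨by rw [Nat.card_congr Multiplicative.toAdd, Nat.card_zmod]; exact hp.out⟩) with h | h
      · refine absurd (Finset.sum_eq_zero fun i _ => ?_) hnorm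
        rw [Subgroup.mem_bot.mp (h.le ⟨_, rfl⟩)]
        rfl
      · exact h
    have hk : c.ker.index = p := by
      rw [Subgroup.index_ker, hrange, Subgroup.card_top, Nat.card_congr Multiplicative.toAdd, Nat.card_zmod]
    rw [Subgroup.index_map_subtype, hk, hM, pow_two]
  obtain ⟨e⟩ : Nonempty ((G ⧸ K) ≃ Fin (p ^ 2)) := ⟨(Finite.equivFinOfCardEq hKidx)⟩
  let ρ : G →* Equiv.Perm (Fin (p ^ 2)) := (e.permCongrHom.toMonoidHom).comp (MulAction.toPermHom G (G ⧸ K))
  have hker : ∀ g, ρ g = 1 → ∃ hg : g ∈ M, vec ⟨g, hg⟩ = 0 := by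
    intro g hg
    have hall : ∀ q : G ⧸ K, g • q = q := fun q => by
      have h1 : MulAction.toPermHom G (G ⧸ K) g = 1 := e.permCongrHom.injective (hg.trans (map_one _).symm)
      exact congrArg (fun σ : Equiv.Perm (G ⧸ K) => σ q) h1
    have hconj : ∀ x : G, x⁻¹ * g * x ∈ K := fun x => by
      have h1 := QuotientGroup.eq.mp (hall (QuotientGroup.mk x)).symm
      rw [mul_assoc]
      exact h1
    have hgM : g ∈ M := hKM (by simpa using hconj 1)
    refine ⟨hgM, funext fun i => ?_⟩
    obtain ⟨y, hy, hye⟩ := hconj (s ^ i.val)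
    show (c _).toAdd = 0
    rw [show (⟨(s ^ i.val)⁻¹ * g * s ^ i.val, hcm i.val ⟨g, hgM⟩⟩ : ↥M) = y from Subtype.ext hye.symm,
      MonoidHom.mem_ker.mp hy]
    rfl
  obtain ⟨W, hW⟩ := IsPGroup.exists_le_sylow (hG.of_surjective ρ.rangeRestrict ρ.rangeRestrict_surjective :
    IsPGroup p ↥ρ.range)
  have hrW : ρ.range = (W : Subgroup (Equiv.Perm (Fin (p ^ 2)))) := by
    refine Subgroup.eq_of_le_of_card_ge hW ?_
    rw [card_sylow_perm_sq]
    -- the kernel is small
    have hkM : ρ.ker ≤ M := fun g hg => (hker g hg).1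
    have h1 : Nat.card ↥R ≤ ρ.ker.relIndex M := by
      show Nat.card ↥R ≤ Nat.card (↥M ⧸ ρ.ker.subgroupOf M)
      refine Nat.card_le_card_of_surjective (Quotient.lift (fun m => (⟨vec m, ⟨m, rfl⟩⟩ : ↥R)) fun a b hab => ?_) ?_
      · refine Subtype.ext ?_
        have h2 : ρ ((a⁻¹ * b : ↥M) : G) = 1 := QuotientGroup.leftRel_apply.mp hab
        obtain ⟨_, h3⟩ := hker _ h2
        show vec a = vec b
        rw [show vec b = vec a + vec (a⁻¹ * b) by rw [← hvmul, mul_inv_cancel_left]]
        rw [show vec (a⁻¹ * b) = 0 from h3, add_zero]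
      · rintro ⟨_, m, rfl⟩
        exact ⟨QuotientGroup.mk m, rfl⟩
    rw [← Subgroup.index_ker ρ, ← Subgroup.relIndex_mul_index hkM, hM, pow_succ]
    exact Nat.mul_le_mul_right _ (hR.trans h1)
  refine ⟨W, ρ.codRestrict _ fun g => hrW.le ⟨g, rfl⟩, fun w => ?_⟩
  obtain ⟨g, hg⟩ := hrW.ge w.2
  exact ⟨g, Subtype.ext hg⟩

end CfsgLib.Fusion.Yoshida
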